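import Cfsg.Agent.FiC.F23.C2n

set_option autoImplicit false
set_option maxRecDepth 100000
set_option Elab.async false
set_option linter.unusedSectionVars false

namespace Cfsg.Agent.FiC.F23
open Cfsg.Agent.Comp Cfsg.Agent.FiC

variable {G : Type*} [Group G] [Finite G] {D : Set G} {τ s : ℕ → G}

noncomputable def cls2A : List (List Nat) := [[nat_lit 70], [nat_lit 72], [nat_lit 74], [nat_lit 76], [nat_lit 78], [nat_lit 80], [nat_lit 82], [nat_lit 84], [nat_lit 86], [nat_lit 88], [nat_lit 90], [nat_lit 92], [nat_lit 94], [nat_lit 96], [nat_lit 98], [nat_lit 100], [nat_lit 102], [nat_lit 104]]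

noncomputable def cls2R : List (List Nat) := [[nat_lit 20], [nat_lit 0, nat_lit 20], [nat_lit 4, nat_lit 0, nat_lit 20]]

noncomputable def cls2N : List (List Nat) := []

theorem cls2pc (b : Base D τ s cls2d2 4089470473293004800) : PC s 2 cls2A :=
  Cx.pcs b.x _ _ [[[nat_lit 8, nat_lit 12, nat_lit 26, nat_lit 32]], [[nat_lit 8, nat_lit 12, nat_lit 14, nat_lit 18, nat_lit 20, nat_lit 24, nat_lit 26], [nat_lit 4, nat_lit 16, nat_lit 22, nat_lit 24, nat_lit 30]], [[nat_lit 4, nat_lit 12, nat_lit 22], [nat_lit 18], []], [[nat_lit 2, nat_lit 4, nat_lit 6, nat_lit 8, nat_lit 10, nat_lit 12, nat_lit 16, nat_lit 20, nat_lit 22], [nat_lit 0, nat_lit 6, nat_lit 8, nat_lit 14, nat_lit 16, nat_lit 20, nat_lit 22, nat_lit 24, nat_lit 26], [nat_lit 8, nat_lit 10, nat_lit 18, nat_lit 24, nat_lit 26], []], [[nat_lit 4, nat_lit 14, nat_lit 22, nat_lit 24], [nat_lit 14, nat_lit 24], [], [nat_lit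 10, nat_lit 12, nat_lit 14, nat_lit 18], []], [[nat_lit 8, nat_lit 16, nat_lit 18, nat_lit 20], [nat_lit 4, nat_lit 8, nat_lit 12, nat_lit 14, nat_lit 20], [], [nat_lit 4, nat_lit 6, nat_lit 12, nat_lit 14, nat_lit 16, nat_lit 18, nat_lit 22], [nat_lit 8, nat_lit 18, nat_lit 20], []], [[nat_lit 2, nat_lit 4, nat_lit 6, nat_lit 8, nat_lit 14, nat_lit 18], [nat_lit 0, nat_lit 6, nat_lit 8, nat_lit 16, nat_lit 18], [nat_lit 2, nat_lit 4, nat_lit 6, nat_lit 10, nat_lit 16, nat_lit 20], [nat_lit 2, nat_lit 8, nat_lit 10, nat_lit 14, nat_lit 16, nat_lit 20], [nat_lit 8, nat_lit 18, nat_lit 20], [nat_lit 4, nat_lit 6, nat_lit 10, nat_lit 14], []], [[nat_lit 4, nat_lit 12, nat_lit 14, nat_lit 16, nat_lit 18], [nat_lit 6, nat_lit 8, nat_lit 12, nat_lit 16], [nat_lit 4, nat_lit 10, nat_lit 12, nat_lit 16], [nat_lit 4, nat_lit 6, nat_lit 16], [nat_lit 18], [nat_lit 10, nat_lit 12, nat_lit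 16, nat_lit 18], [nat_lit 12, nat_lit 14, nat_lit 16], []], [[nat_lit 0, nat_lit 2, nat_lit 10, nat_lit 16], [nat_lit 2, nat_lit 6, nat_lit 12], [], [nat_lit 6, nat_lit 10, nat_lit 14, nat_lit 16], [nat_lit 6, nat_lit 12], [], [], [nat_lit 10, nat_lit 12, nat_lit 14], []], [[nat_lit 6, nat_lit 10, nat_lit 14], [nat_lit 4, nat_lit 6, nat_lit 10], [], [nat_lit 4, nat_lit 8, nat_lit 10], [nat_lit 10, nat_lit 12, nat_lit 14], [], [nat_lit 8, nat_lit 10, nat_lit 14], [nat_lit 14], [], []], [[nat_lit 4, nat_lit 6, nat_lit 10], [nat_lit 2, nat_lit 8], [], [nat_lit 2, nat_lit 6, nat_lit 12], [], [], [nat_lit 6, nat_lit 8, nat_lit 10], [], [], [], []], [[nat_lit 0, nat_lit 8], [nat_lit 8], [nat_lit 0], [nat_lit 0, nat_lit 4], [], [nat_lit 4, nat_lit 10], [], [nat_lit 10], [nat_lit 8, nat_lit 10], [nat_lit 10], [nat_lit 10], []], [[nat_lit 2], [], [], [nat_lit 6], [], [], [nat_lit 6, nat_lit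 8], [nat_lit 8], [], [], [], [], []], [[nat_lit 6], [nat_lit 2, nat_lit 4, nat_lit 6], [], [nat_lit 2, nat_lit 4, nat_lit 6], [nat_lit 6], [], [], [], [], [], [], [], [], []], [[nat_lit 4], [nat_lit 2], [], [nat_lit 2], [nat_lit 4], [], [], [], [], [], [], [], [], [], []], [[], [], [], [], [], [], [], [], [], [], [], [], [], [], [], []], [[], [nat_lit 0], [], [], [], [], [], [], [], [], [], [], [], [], [], [], []], [[], [], [], [], [], [], [], [], [], [], [], [], [], [], [], [], [], []]] (by decide +kernel)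

theorem qge1 (b : Base D τ s cls2d2 4089470473293004800) : GE s [[nat_lit 74], [nat_lit 78, nat_lit 102, nat_lit 0, nat_lit 20], [nat_lit 91, nat_lit 72, nat_lit 88, nat_lit 0, nat_lit 18, nat_lit 52, nat_lit 54], [nat_lit 99, nat_lit 72, nat_lit 92, nat_lit 80, nat_lit 54, nat_lit 16, nat_lit 54, nat_lit 54]] 16 :=
  GE.step b.x (GE.base []) _ [] (nat_lit 1) [nat_lit 0, nat_lit 1, nat_lit 2, nat_lit 3] (nat_lit 16) 16 (by decide +kernel)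

theorem qge2 (b : Base D τ s cls2d2 4089470473293004800) : GE s [[nat_lit 70], [nat_lit 72], [nat_lit 74], [nat_lit 76], [nat_lit 78], [nat_lit 80], [nat_lit 82], [nat_lit 84], [nat_lit 86], [nat_lit 88], [nat_lit 90], [nat_lit 92], [nat_lit 94], [nat_lit 96], [nat_lit 98], [nat_lit 100], [nat_lit 102], [nat_lit 104]] 262144 :=
  GE.step b.x (qge1 b) _ [([nat_lit 78, nat_lit 102, nat_lit 0, nat_lit 20], [nat_lit 9, nat_lit 27, nat_lit 29, nat_lit 32]), ([nat_lit 91, nat_lit 72, nat_lit 88, nat_lit 0, nat_lit 18, nat_lit 52, nat_lit 54], [nat_lit 2, nat_lit 15, nat_lit 2, nat_lit 8, nat_lit 22]), ([nat_lit 99, nat_lit 72, nat_lit 92, nat_lit 80, nat_lit 54, nat_lit 16, nat_lit 54, nat_lit 54], [nat_lit 21, nat_lit 27, nat_lit 25, nat_lit 32, nat_lit 6])] (nat_lit 18718) [nat_lit 0, nat_lit 1, nat_lit 3, nat_lit 4, nat_lit 5, nat_lit 6, nat_lit 7, nat_lit 8, nat_lit 10, nat_lit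 13, nat_lit 14, nat_lit 3, nat_lit 12, nat_lit 9, nat_lit 17, nat_lit 15] (nat_lit 16384) 262144 (by decide +kernel)

theorem cls2ge (b : Base D τ s cls2d2 4089470473293004800) : GE s cls2A (2 ^ cls2A.length) :=
  (qge2 b)

theorem cls2nr (b : Base D τ s cls2d2 4089470473293004800) : Nrm s cls2A cls2N :=
  Nrm.nil _ _

theorem cls2kh (b : Base D τ s cls2d2 4089470473293004800) : KH τ s ⊤ cls2d2 2 cls2A cls2R cls2N false (GoodR s cls2R) :=
  KH.of b.x (cls2pc b) (by norm_num) (cls2ge b) (cls2nr b) _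

theorem qk3 (b : Base D τ s cls2d2 4089470473293004800) : KK s 2 cls2A (GoodR s cls2R) (E s []) 11 :=
  KH.kk (cls2kh b) [] KKs.nil (KT.split (KT.cons (KT.split (KT.cons (KT.split (KT.cons (KT.split (KT.cons (KT.split (KT.cons (KT.split (KT.cons (KT.split (KT.cons (KT.cj [] (nat_lit 3)) (KT.cons (KT.cj [] (nat_lit 2)) KT.nil))) (KT.cons (KT.merge [nat_lit 2] [] (KT.cj [nat_lit 29, nat_lit 41, nat_lit 24, nat_lit 94, nat_lit 2, nat_lit 90, nat_lit 48, nat_lit 6, nat_lit 41, nat_lit 41, nat_lit 94, nat_lit 18, nat_lit 16, nat_lit 54] (nat_lit 2))) KT.nil))) (KT.cons (KT.split (KT.cons (KT.split (KT.cons (KT.cj [nat_lit 19, nat_lit 51, nat_lit 19, nat_lit 95, nat_lit 103, nat_lit 11, nat_lit 9, nat_lit 70, nat_lit 38, nat_lit 5, nat_lit 3, nat_lit 87, nat_lit 34, nat_lit 24, nat_lit 95, nat_lit 3] (nat_lit 0)) (KT.cons (KT.cj [nat_lit 70, nat_lit 50, nat_lit 30, nat_lit 4, nat_lit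 36, nat_lit 47, nat_lit 10, nat_lit 44, nat_lit 47, nat_lit 53, nat_lit 8, nat_lit 18] (nat_lit 1)) KT.nil))) (KT.cons (KT.merge [nat_lit 2] [] (KT.cj [nat_lit 44, nat_lit 73, nat_lit 23, nat_lit 94, nat_lit 30, nat_lit 28, nat_lit 38, nat_lit 34, nat_lit 6, nat_lit 70, nat_lit 86, nat_lit 54, nat_lit 45, nat_lit 53, nat_lit 48] (nat_lit 1))) KT.nil))) KT.nil))) (KT.cons (KT.split (KT.cons (KT.merge [nat_lit 2] [] (KT.merge [nat_lit 0] [] (KT.cj [nat_lit 22, nat_lit 56, nat_lit 14, nat_lit 4, nat_lit 39, nat_lit 33, nat_lit 39, nat_lit 47, nat_lit 41, nat_lit 55, nat_lit 45, nat_lit 48, nat_lit 53, nat_lit 54, nat_lit 18, nat_lit 12] (nat_lit 2)))) (KT.cons (KT.merge [nat_lit 2] [] (KT.merge [nat_lit 0] [] (KT.cj [nat_lit 54, nat_lit 51, nat_lit 19, nat_lit 47, nat_lit 97, nat_lit 41, nat_lit 7, nat_lit 44, nat_lit 34, nat_lit 29, nat_lit 54, nat_lit 71, nat_lit 24, nat_lit 89,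 nat_lit 3] (nat_lit 2)))) KT.nil))) KT.nil))) (KT.cons (KT.split (KT.cons (KT.merge [nat_lit 2] [nat_lit 0, nat_lit 2] (KT.split (KT.cons (KT.merge [nat_lit 0] [] (KT.cj [nat_lit 59, nat_lit 102, nat_lit 65, nat_lit 34, nat_lit 33, nat_lit 28, nat_lit 96, nat_lit 71, nat_lit 6, nat_lit 86, nat_lit 43, nat_lit 44, nat_lit 88, nat_lit 50, nat_lit 16, nat_lit 54, nat_lit 54] (nat_lit 1))) (KT.cons (KT.merge [nat_lit 0] [] (KT.cj [nat_lit 14, nat_lit 60, nat_lit 14, nat_lit 70, nat_lit 41, nat_lit 31, nat_lit 52, nat_lit 34, nat_lit 42, nat_lit 88, nat_lit 10, nat_lit 55, nat_lit 46, nat_lit 18] (nat_lit 2))) KT.nil)))) (KT.cons (KT.merge [nat_lit 2] [nat_lit 2] (KT.split (KT.cons (KT.split (KT.cons (KT.cj [] (nat_lit 1)) (KT.cons (KT.cj [nat_lit 17, nat_lit 45, nat_lit 55, nat_lit 45, nat_lit 11, nat_lit 40, nat_lit 43, nat_lit 34, nat_lit 43, nat_lit 39, nat_lit 3, nat_lit 42,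 nat_lit 9, nat_lit 73] (nat_lit 0)) KT.nil))) (KT.cons (KT.merge [nat_lit 2, nat_lit 6] [] (KT.cj [nat_lit 72, nat_lit 32, nat_lit 104, nat_lit 29, nat_lit 52, nat_lit 47, nat_lit 6, nat_lit 41, nat_lit 82, nat_lit 55, nat_lit 74, nat_lit 0, nat_lit 50, nat_lit 48] (nat_lit 2))) KT.nil)))) KT.nil))) KT.nil))) (KT.cons (KT.split (KT.cons (KT.merge [nat_lit 0] [] (KT.split (KT.cons (KT.merge [nat_lit 6] [] (KT.merge [nat_lit 14] [] (KT.cj [nat_lit 70, nat_lit 61, nat_lit 28, nat_lit 16, nat_lit 28, nat_lit 80, nat_lit 35, nat_lit 6, nat_lit 96, nat_lit 43, nat_lit 10, nat_lit 44, nat_lit 47, nat_lit 44, nat_lit 48, nat_lit 55, nat_lit 12] (nat_lit 1)))) (KT.cons (KT.merge [nat_lit 6] [] (KT.merge [nat_lit 14] [] (KT.cj [nat_lit 44, nat_lit 64, nat_lit 44, nat_lit 14, nat_lit 94, nat_lit 35, nat_lit 70, nat_lit 16, nat_lit 45, nat_lit 46, nat_lit 52] (nat_lit 2)))) KT.nil)))) (KT.cons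 (KT.merge [nat_lit 0] [nat_lit 4] (KT.merge [nat_lit 2] [nat_lit 0, nat_lit 2] (KT.merge [nat_lit 12] [nat_lit 0] (KT.merge [nat_lit 8] [] (KT.cj [nat_lit 86, nat_lit 30, nat_lit 60, nat_lit 16, nat_lit 32, nat_lit 28, nat_lit 2, nat_lit 39, nat_lit 43, nat_lit 6, nat_lit 41, nat_lit 53, nat_lit 12, nat_lit 44, nat_lit 8, nat_lit 55, nat_lit 20] (nat_lit 2)))))) KT.nil))) KT.nil))) (KT.cons (KT.merge [nat_lit 0] [nat_lit 6] (KT.split (KT.cons (KT.merge [nat_lit 10] [nat_lit 4] (KT.split (KT.cons (KT.merge [nat_lit 2] [] (KT.merge [nat_lit 14] [] (KT.cj [nat_lit 83, nat_lit 84, nat_lit 61, nat_lit 44, nat_lit 35, nat_lit 30, nat_lit 40, nat_lit 34, nat_lit 8, nat_lit 43, nat_lit 44, nat_lit 88, nat_lit 8, nat_lit 55, nat_lit 18] (nat_lit 1)))) (KT.cons (KT.merge [nat_lit 2] [] (KT.merge [nat_lit 14] [] (KT.cj [nat_lit 23, nat_lit 48, nat_lit 67, nat_lit 23, nat_lit 29, nat_lit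 38, nat_lit 16, nat_lit 6, nat_lit 16, nat_lit 42, nat_lit 47, nat_lit 45, nat_lit 52] (nat_lit 2)))) KT.nil)))) (KT.cons (KT.merge [nat_lit 10] [nat_lit 4] (KT.merge [nat_lit 2] [nat_lit 2] (KT.merge [nat_lit 16] [nat_lit 0] (KT.merge [nat_lit 8] [] (KT.cj [nat_lit 46, nat_lit 24, nat_lit 22, nat_lit 39, nat_lit 18, nat_lit 29, nat_lit 53, nat_lit 42, nat_lit 6, nat_lit 102, nat_lit 42, nat_lit 52, nat_lit 80, nat_lit 55] (nat_lit 2)))))) KT.nil)))) KT.nil))) [] _ _ (by decide +kernel)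

theorem qk4 (b : Base D τ s cls2d2 4089470473293004800) : KK s 2 cls2A (GoodR s cls2R) (E s []) 9 :=
  KH.kk (cls2kh b) [([], nat_lit 11)] (KKs.cons (qk3 b) KKs.nil) (KT.split (KT.cons (KT.split (KT.cons (KT.into [] (nat_lit 0) []) (KT.cons (KT.split (KT.cons (KT.merge [nat_lit 2] [nat_lit 4] (KT.merge [nat_lit 0] [nat_lit 0, nat_lit 4] (KT.merge [nat_lit 12] [nat_lit 0, nat_lit 2] (KT.split (KT.cons (KT.split (KT.cons (KT.merge [nat_lit 22] [] (KT.cj [nat_lit 63, nat_lit 88, nat_lit 67, nat_lit 94, nat_lit 16, nat_lit 30, nat_lit 86, nat_lit 36, nat_lit 50, nat_lit 41, nat_lit 102, nat_lit 18, nat_lit 52, nat_lit 8, nat_lit 55, nat_lit 20, nat_lit 18] (nat_lit 1))) (KT.cons (KT.merge [nat_lit 22] [] (KT.cj [nat_lit 8, nat_lit 35, nat_lit 67, nat_lit 22, nat_lit 84, nat_lit 6, nat_lit 28, nat_lit 53, nat_lit 12, nat_lit 35, nat_lit 55, nat_lit 43, nat_lit 86, nat_lit 18, nat_lit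 48, nat_lit 20, nat_lit 18] (nat_lit 2))) KT.nil))) (KT.cons (KT.split (KT.cons (KT.merge [nat_lit 22] [] (KT.cj [nat_lit 12, nat_lit 78, nat_lit 61, nat_lit 22, nat_lit 28, nat_lit 43, nat_lit 38, nat_lit 6, nat_lit 55, nat_lit 41, nat_lit 45, nat_lit 12, nat_lit 45, nat_lit 50] (nat_lit 2))) (KT.cons (KT.merge [nat_lit 22] [] (KT.cj [nat_lit 51, nat_lit 36, nat_lit 74, nat_lit 31, nat_lit 54, nat_lit 38, nat_lit 36, nat_lit 53, nat_lit 10, nat_lit 52, nat_lit 44, nat_lit 55, nat_lit 20] (nat_lit 2))) KT.nil))) KT.nil)))))) (KT.cons (KT.merge [nat_lit 0] [nat_lit 0, nat_lit 2] (KT.merge [nat_lit 0, nat_lit 4] [] (KT.merge [nat_lit 10] [nat_lit 4] (KT.merge [nat_lit 2, nat_lit 4] [nat_lit 0] (KT.merge [nat_lit 16] [nat_lit 0] (KT.prune (nat_lit 17) (nat_lit 1) [])))))) KT.nil))) KT.nil))) (KT.cons (KT.split (KT.cons (KT.split (KT.cons (KT.merge [nat_lit 2] [nat_lit 0, nat_lit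 4] (KT.merge [nat_lit 0] [nat_lit 2, nat_lit 6] (KT.merge [nat_lit 12] [nat_lit 0, nat_lit 4] (KT.merge [nat_lit 8] [nat_lit 0, nat_lit 2] (KT.merge [nat_lit 0, nat_lit 2, nat_lit 6, nat_lit 12] [] (KT.merge [nat_lit 14] [] (KT.cj [nat_lit 39, nat_lit 23, nat_lit 24, nat_lit 35, nat_lit 36, nat_lit 33, nat_lit 74, nat_lit 43, nat_lit 34, nat_lit 74, nat_lit 45, nat_lit 10, nat_lit 96, nat_lit 16, nat_lit 44, nat_lit 48, nat_lit 53, nat_lit 18] (nat_lit 2)))))))) (KT.cons (KT.merge [nat_lit 0] [nat_lit 0, nat_lit 4, nat_lit 6, nat_lit 8] (KT.merge [nat_lit 0, nat_lit 4] [nat_lit 0, nat_lit 2, nat_lit 4, nat_lit 6] (KT.merge [nat_lit 10] [nat_lit 4] (KT.merge [nat_lit 6] [] (KT.merge [nat_lit 16] [nat_lit 0] (KT.prune (nat_lit 17) (nat_lit 1) [])))))) KT.nil))) (KT.cons (KT.split (KT.cons (KT.split (KT.cons (KT.merge [nat_lit 2] [] (KT.merge [nat_lit 0] [nat_lit 0, nat_lit 2, nat_lit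 4] (KT.merge [nat_lit 6] [nat_lit 2] (KT.merge [nat_lit 12] [nat_lit 0] (KT.merge [nat_lit 14] [] (KT.cj [nat_lit 54, nat_lit 49, nat_lit 55, nat_lit 47, nat_lit 89, nat_lit 71, nat_lit 53, nat_lit 7, nat_lit 5, nat_lit 39, nat_lit 3, nat_lit 34, nat_lit 7, nat_lit 25, nat_lit 22, nat_lit 38] (nat_lit 2))))))) (KT.cons (KT.merge [nat_lit 2] [] (KT.split (KT.cons (KT.merge [nat_lit 0] [nat_lit 0, nat_lit 2] (KT.split (KT.cons (KT.split (KT.cons (KT.cj [nat_lit 73, nat_lit 22, nat_lit 73, nat_lit 42, nat_lit 14, nat_lit 43, nat_lit 6, nat_lit 32, nat_lit 34, nat_lit 36, nat_lit 74, nat_lit 43, nat_lit 88, nat_lit 74, nat_lit 16] (nat_lit 0)) (KT.cons (KT.cj [nat_lit 54, nat_lit 24, nat_lit 22, nat_lit 39, nat_lit 18, nat_lit 29, nat_lit 39, nat_lit 44, nat_lit 34, nat_lit 8, nat_lit 10, nat_lit 47, nat_lit 80, nat_lit 4, nat_lit 16] (nat_lit 2)) KT.nil))) (KT.cons (KT.split (KT.cons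 (KT.cj [nat_lit 13, nat_lit 54, nat_lit 45, nat_lit 55, nat_lit 40, nat_lit 34, nat_lit 13, nat_lit 29, nat_lit 51, nat_lit 28] (nat_lit 2)) (KT.cons (KT.cj [nat_lit 55, nat_lit 60, nat_lit 45, nat_lit 14, nat_lit 52, nat_lit 35, nat_lit 55, nat_lit 10, nat_lit 55, nat_lit 47, nat_lit 53, nat_lit 48, nat_lit 54, nat_lit 20, nat_lit 18] (nat_lit 1)) KT.nil))) KT.nil)))) (KT.cons (KT.merge [nat_lit 0] [nat_lit 0] (KT.merge [nat_lit 6, nat_lit 8] [nat_lit 0] (KT.split (KT.cons (KT.cj [nat_lit 55, nat_lit 17, nat_lit 19, nat_lit 45, nat_lit 97, nat_lit 45, nat_lit 40, nat_lit 47, nat_lit 34, nat_lit 34] (nat_lit 2)) (KT.cons (KT.cj [nat_lit 88, nat_lit 73, nat_lit 23, nat_lit 35, nat_lit 80, nat_lit 33, nat_lit 50, nat_lit 39, nat_lit 6, nat_lit 46, nat_lit 10, nat_lit 55, nat_lit 80, nat_lit 4, nat_lit 18, nat_lit 50, nat_lit 54, nat_lit 12] (nat_lit 1)) KT.nil))))) KT.nil)))) KT.nil)))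 (KT.cons (KT.merge [nat_lit 0] [nat_lit 2, nat_lit 4, nat_lit 8] (KT.merge [nat_lit 2] [nat_lit 4] (KT.merge [nat_lit 10] [nat_lit 4] (KT.merge [nat_lit 8] [nat_lit 0, nat_lit 2] (KT.merge [nat_lit 12] [nat_lit 0] (KT.merge [nat_lit 18] [] (KT.cj [nat_lit 67, nat_lit 58, nat_lit 30, nat_lit 32, nat_lit 29, nat_lit 71, nat_lit 6, nat_lit 41, nat_lit 82, nat_lit 88, nat_lit 55, nat_lit 45, nat_lit 50] (nat_lit 2)))))))) KT.nil))) KT.nil))) KT.nil))) [] _ _ (by decide +kernel)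

theorem qk5 (b : Base D τ s cls2d2 4089470473293004800) : KK s 2 cls2A (GoodR s cls2R) (E s []) 7 :=
  KH.kk (cls2kh b) [([], nat_lit 9)] (KKs.cons (qk4 b) KKs.nil) (KT.split (KT.cons (KT.split (KT.cons (KT.into [] (nat_lit 0) []) (KT.cons (KT.merge [nat_lit 0] [nat_lit 0, nat_lit 8, nat_lit 14] (KT.merge [nat_lit 2] [nat_lit 2, nat_lit 8] (KT.split (KT.cons (KT.merge [nat_lit 6] [nat_lit 2, nat_lit 6, nat_lit 8] (KT.split (KT.cons (KT.merge [nat_lit 14] [nat_lit 0, nat_lit 2] (KT.split (KT.cons (KT.merge [nat_lit 22] [nat_lit 0] (KT.split (KT.cons (KT.cj [nat_lit 16, nat_lit 67, nat_lit 38, nat_lit 14, nat_lit 34, nat_lit 96, nat_lit 30, nat_lit 6, nat_lit 38, nat_lit 55, nat_lit 43, nat_lit 96, nat_lit 47, nat_lit 53, nat_lit 48, nat_lit 20, nat_lit 18] (nat_lit 1)) (KT.cons (KT.cj [nat_lit 19, nat_lit 55, nat_lit 45, nat_lit 53, nat_lit 45, nat_lit 11, nat_lit 42, nat_lit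 13, nat_lit 38, nat_lit 5, nat_lit 3, nat_lit 44, nat_lit 47, nat_lit 23, nat_lit 25, nat_lit 38] (nat_lit 2)) KT.nil)))) (KT.cons (KT.merge [nat_lit 22] [nat_lit 0] (KT.split (KT.cons (KT.cj [nat_lit 14, nat_lit 63, nat_lit 70, nat_lit 32, nat_lit 2, nat_lit 39, nat_lit 35, nat_lit 88, nat_lit 10, nat_lit 50, nat_lit 52, nat_lit 46, nat_lit 18, nat_lit 50, nat_lit 55, nat_lit 18] (nat_lit 2)) (KT.cons (KT.cj [nat_lit 65, nat_lit 54, nat_lit 59, nat_lit 18, nat_lit 50, nat_lit 30, nat_lit 46, nat_lit 36, nat_lit 45, nat_lit 43, nat_lit 45, nat_lit 54, nat_lit 46, nat_lit 48, nat_lit 53, nat_lit 18] (nat_lit 2)) KT.nil)))) KT.nil)))) (KT.cons (KT.merge [nat_lit 14] [nat_lit 0, nat_lit 2] (KT.merge [nat_lit 6, nat_lit 8, nat_lit 14] [nat_lit 0] (KT.merge [nat_lit 22] [nat_lit 0] (KT.split (KT.cons (KT.cj [nat_lit 35, nat_lit 67, nat_lit 22, nat_lit 78, nat_lit 42, nat_lit 4, nat_lit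 2, nat_lit 50, nat_lit 35, nat_lit 82, nat_lit 53, nat_lit 86, nat_lit 53, nat_lit 16, nat_lit 55, nat_lit 55, nat_lit 18] (nat_lit 2)) (KT.cons (KT.cj [nat_lit 19, nat_lit 2, nat_lit 94, nat_lit 25, nat_lit 55, nat_lit 38, nat_lit 29, nat_lit 40, nat_lit 36, nat_lit 10, nat_lit 46, nat_lit 16, nat_lit 47, nat_lit 48, nat_lit 54, nat_lit 20, nat_lit 18] (nat_lit 2)) KT.nil)))))) KT.nil)))) (KT.cons (KT.merge [nat_lit 4] [] (KT.split (KT.cons (KT.merge [nat_lit 10] [nat_lit 4] (KT.merge [nat_lit 4, nat_lit 8] [] (KT.prune (nat_lit 16) (nat_lit 1) [nat_lit 0]))) (KT.cons (KT.merge [nat_lit 10] [nat_lit 4] (KT.merge [nat_lit 6] [] (KT.prune (nat_lit 16) (nat_lit 1) [nat_lit 0]))) KT.nil)))) KT.nil))))) KT.nil))) (KT.cons (KT.split (KT.cons (KT.split (KT.cons (KT.merge [nat_lit 0] [nat_lit 6, nat_lit 8, nat_lit 10, nat_lit 12] (KT.merge [nat_lit 2] [nat_lit 0, nat_lit 4, nat_lit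 8] (KT.split (KT.cons (KT.merge [nat_lit 10] [nat_lit 0, nat_lit 4, nat_lit 6] (KT.merge [nat_lit 12] [nat_lit 0, nat_lit 2] (KT.split (KT.cons (KT.split (KT.cons (KT.merge [nat_lit 8] [] (KT.cj [nat_lit 19, nat_lit 21, nat_lit 49, nat_lit 55, nat_lit 45, nat_lit 103, nat_lit 42, nat_lit 87, nat_lit 29, nat_lit 30, nat_lit 93, nat_lit 22, nat_lit 44, nat_lit 15] (nat_lit 1))) (KT.cons (KT.merge [nat_lit 8] [] (KT.cj [nat_lit 1, nat_lit 74, nat_lit 61, nat_lit 22, nat_lit 86, nat_lit 33, nat_lit 47, nat_lit 10, nat_lit 34, nat_lit 43, nat_lit 71, nat_lit 86, nat_lit 46, nat_lit 44, nat_lit 54, nat_lit 20] (nat_lit 2))) KT.nil))) (KT.cons (KT.split (KT.cons (KT.merge [nat_lit 8] [] (KT.cj [nat_lit 13, nat_lit 19, nat_lit 52, nat_lit 17, nat_lit 87, nat_lit 17, nat_lit 103, nat_lit 41, nat_lit 39, nat_lit 71, nat_lit 15, nat_lit 23, nat_lit 3] (nat_lit 2))) (KT.cons (KT.merge [nat_lit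 8] [] (KT.cj [nat_lit 6, nat_lit 43, nat_lit 30, nat_lit 16, nat_lit 39, nat_lit 6, nat_lit 88, nat_lit 43, nat_lit 86, nat_lit 74, nat_lit 54, nat_lit 53, nat_lit 54, nat_lit 20, nat_lit 18] (nat_lit 2))) KT.nil))) KT.nil))))) (KT.cons (KT.merge [nat_lit 10] [nat_lit 0, nat_lit 4, nat_lit 6] (KT.merge [nat_lit 12] [nat_lit 0, nat_lit 4] (KT.merge [nat_lit 0, nat_lit 4, nat_lit 18, nat_lit 26, nat_lit 32, nat_lit 34] [nat_lit 0] (KT.merge [nat_lit 12, nat_lit 16] [nat_lit 0] (KT.prune (nat_lit 17) (nat_lit 1) []))))) KT.nil))))) (KT.cons (KT.merge [nat_lit 0] [nat_lit 4, nat_lit 6, nat_lit 10] (KT.merge [nat_lit 2] [nat_lit 2, nat_lit 4, nat_lit 6, nat_lit 8, nat_lit 10] (KT.split (KT.cons (KT.merge [nat_lit 10] [nat_lit 0, nat_lit 4, nat_lit 6] (KT.merge [nat_lit 16] [nat_lit 0, nat_lit 2] (KT.merge [nat_lit 8] [nat_lit 0] (KT.merge [nat_lit 12] [nat_lit 0] (KT.prune (nat_lit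 17) (nat_lit 1) []))))) (KT.cons (KT.merge [nat_lit 10] [nat_lit 0, nat_lit 4, nat_lit 6] (KT.merge [nat_lit 16] [nat_lit 0, nat_lit 2] (KT.merge [nat_lit 8] [nat_lit 0] (KT.merge [nat_lit 2, nat_lit 4, nat_lit 6, nat_lit 16] [] (KT.merge [nat_lit 18] [] (KT.cj [nat_lit 22, nat_lit 38, nat_lit 26, nat_lit 14, nat_lit 70, nat_lit 40, nat_lit 28, nat_lit 88, nat_lit 36, nat_lit 35, nat_lit 96, nat_lit 10, nat_lit 102, nat_lit 52, nat_lit 50, nat_lit 18] (nat_lit 2))))))) KT.nil))))) KT.nil))) (KT.cons (KT.merge [nat_lit 0] [nat_lit 10, nat_lit 12] (KT.merge [nat_lit 2] [nat_lit 0, nat_lit 6, nat_lit 8] (KT.merge [nat_lit 4, nat_lit 6] [nat_lit 2] (KT.merge [nat_lit 8] [nat_lit 4, nat_lit 8] (KT.merge [nat_lit 10] [nat_lit 0, nat_lit 4, nat_lit 6] (KT.prune (nat_lit 14) (nat_lit 1) [nat_lit 0, nat_lit 2])))))) KT.nil))) KT.nil))) [] _ _ (by decide +kernel)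

theorem qk6 (b : Base D τ s cls2d2 4089470473293004800) : KK s 2 cls2A (GoodR s cls2R) (E s []) 5 :=
  KH.kk (cls2kh b) [([], nat_lit 7)] (KKs.cons (qk5 b) KKs.nil) (KT.split (KT.cons (KT.split (KT.cons (KT.into [] (nat_lit 0) []) (KT.cons (KT.merge [nat_lit 2] [nat_lit 4, nat_lit 6, nat_lit 14, nat_lit 16] (KT.merge [nat_lit 0] [nat_lit 0, nat_lit 2, nat_lit 4, nat_lit 10, nat_lit 14] (KT.merge [nat_lit 10] [nat_lit 0, nat_lit 4, nat_lit 8] (KT.split (KT.cons (KT.merge [nat_lit 8] [nat_lit 8, nat_lit 10] (KT.split (KT.cons (KT.split (KT.cons (KT.merge [nat_lit 14] [nat_lit 0, nat_lit 2] (KT.merge [nat_lit 0, nat_lit 6] [nat_lit 0] (KT.merge [nat_lit 24] [nat_lit 0] (KT.split (KT.cons (KT.cj [nat_lit 54, nat_lit 49, nat_lit 81, nat_lit 54, nat_lit 42, nat_lit 91, nat_lit 7, nat_lit 46, nat_lit 42, nat_lit 3, nat_lit 1, nat_lit 41, nat_lit 29, nat_lit 24, nat_lit 89, nat_lit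 3] (nat_lit 2)) (KT.cons (KT.cj [nat_lit 36, nat_lit 58, nat_lit 14, nat_lit 78, nat_lit 53, nat_lit 30, nat_lit 4, nat_lit 36, nat_lit 80, nat_lit 43, nat_lit 47, nat_lit 0, nat_lit 18, nat_lit 48, nat_lit 12] (nat_lit 2)) KT.nil)))))) (KT.cons (KT.merge [nat_lit 14] [nat_lit 0, nat_lit 2] (KT.split (KT.cons (KT.merge [nat_lit 24] [nat_lit 0] (KT.split (KT.cons (KT.cj [nat_lit 21, nat_lit 53, nat_lit 54, nat_lit 44, nat_lit 54, nat_lit 43, nat_lit 55, nat_lit 7, nat_lit 51, nat_lit 11, nat_lit 31, nat_lit 13, nat_lit 103, nat_lit 61, nat_lit 81, nat_lit 34] (nat_lit 2)) (KT.cons (KT.cj [nat_lit 17, nat_lit 35, nat_lit 73, nat_lit 14, nat_lit 28, nat_lit 35, nat_lit 30, nat_lit 43, nat_lit 38, nat_lit 46, nat_lit 10, nat_lit 45, nat_lit 47, nat_lit 52, nat_lit 8, nat_lit 55] (nat_lit 2)) KT.nil)))) (KT.cons (KT.merge [nat_lit 24] [nat_lit 0] (KT.split (KT.cons (KT.cj [nat_lit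 14, nat_lit 36, nat_lit 62, nat_lit 41, nat_lit 30, nat_lit 55, nat_lit 10, nat_lit 34, nat_lit 80, nat_lit 42, nat_lit 16, nat_lit 47, nat_lit 4, nat_lit 18, nat_lit 16, nat_lit 12] (nat_lit 2)) (KT.cons (KT.cj [nat_lit 53, nat_lit 47, nat_lit 52, nat_lit 11, nat_lit 41, nat_lit 19, nat_lit 35, nat_lit 47, nat_lit 45, nat_lit 29, nat_lit 30, nat_lit 38, nat_lit 15, nat_lit 77, nat_lit 7] (nat_lit 1)) KT.nil)))) KT.nil)))) KT.nil))) (KT.cons (KT.split (KT.cons (KT.merge [nat_lit 14] [nat_lit 0, nat_lit 2, nat_lit 4] (KT.merge [nat_lit 4, nat_lit 6, nat_lit 8, nat_lit 10, nat_lit 20, nat_lit 30, nat_lit 32] [nat_lit 0, nat_lit 2] (KT.prune (nat_lit 16) (nat_lit 1) [nat_lit 0]))) (KT.cons (KT.merge [nat_lit 14] [nat_lit 0, nat_lit 2, nat_lit 4] (KT.merge [nat_lit 0, nat_lit 6, nat_lit 20] [nat_lit 0, nat_lit 2] (KT.prune (nat_lit 16) (nat_lit 1) [nat_lit 0]))) KT.nil))) KT.nil))))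 (KT.cons (KT.merge [nat_lit 8] [nat_lit 8] (KT.merge [nat_lit 0, nat_lit 6] [nat_lit 0, nat_lit 2, nat_lit 4] (KT.merge [nat_lit 0, nat_lit 4, nat_lit 8, nat_lit 10, nat_lit 16, nat_lit 18, nat_lit 20, nat_lit 24, nat_lit 26, nat_lit 30, nat_lit 32, nat_lit 34] [nat_lit 0, nat_lit 6] (KT.prune (nat_lit 14) (nat_lit 1) [nat_lit 0, nat_lit 2])))) KT.nil)))))) KT.nil))) (KT.cons (KT.split (KT.cons (KT.split (KT.cons (KT.merge [nat_lit 2] [nat_lit 2, nat_lit 6, nat_lit 8, nat_lit 14] (KT.merge [nat_lit 12] [nat_lit 0, nat_lit 4, nat_lit 8] (KT.merge [nat_lit 0] [nat_lit 6, nat_lit 8, nat_lit 10] (KT.split (KT.cons (KT.merge [nat_lit 2, nat_lit 6, nat_lit 8, nat_lit 12, nat_lit 22, nat_lit 32, nat_lit 34] [nat_lit 6, nat_lit 8] (KT.merge [nat_lit 14] [nat_lit 0, nat_lit 4, nat_lit 6] (KT.merge [nat_lit 22] [nat_lit 4] (KT.split (KT.cons (KT.split (KT.cons (KT.split (KT.cons (KT.cj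 [nat_lit 88, nat_lit 62, nat_lit 22, nat_lit 6, nat_lit 29, nat_lit 53, nat_lit 34, nat_lit 47, nat_lit 10, nat_lit 55, nat_lit 80, nat_lit 53, nat_lit 48, nat_lit 54] (nat_lit 1)) (KT.cons (KT.cj [nat_lit 76, nat_lit 61, nat_lit 22, nat_lit 30, nat_lit 39, nat_lit 44, nat_lit 34, nat_lit 41, nat_lit 55, nat_lit 10, nat_lit 88, nat_lit 16, nat_lit 44, nat_lit 50, nat_lit 20] (nat_lit 2)) KT.nil))) (KT.cons (KT.split (KT.cons (KT.cj [nat_lit 6, nat_lit 76, nat_lit 14, nat_lit 46, nat_lit 2, nat_lit 32, nat_lit 78, nat_lit 8, nat_lit 6, nat_lit 52, nat_lit 82, nat_lit 52, nat_lit 88, nat_lit 48, nat_lit 12] (nat_lit 2)) (KT.cons (KT.cj [nat_lit 19, nat_lit 21, nat_lit 17, nat_lit 45, nat_lit 51, nat_lit 53, nat_lit 42, nat_lit 53, nat_lit 37, nat_lit 91, nat_lit 31, nat_lit 44, nat_lit 34, nat_lit 59, nat_lit 66] (nat_lit 2)) KT.nil))) KT.nil))) (KT.cons (KT.split (KT.cons (KT.split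 (KT.cons (KT.cj [nat_lit 71, nat_lit 24, nat_lit 22, nat_lit 29, nat_lit 84, nat_lit 28, nat_lit 44, nat_lit 4, nat_lit 6, nat_lit 12, nat_lit 43, nat_lit 47, nat_lit 44, nat_lit 54, nat_lit 48, nat_lit 20, nat_lit 18, nat_lit 12] (nat_lit 2)) (KT.cons (KT.cj [nat_lit 13, nat_lit 51, nat_lit 44, nat_lit 44, nat_lit 55, nat_lit 41, nat_lit 17, nat_lit 37, nat_lit 31, nat_lit 85, nat_lit 13, nat_lit 23, nat_lit 44, nat_lit 15] (nat_lit 2)) KT.nil))) (KT.cons (KT.split (KT.cons (KT.cj [nat_lit 19, nat_lit 21, nat_lit 52, nat_lit 17, nat_lit 5, nat_lit 81, nat_lit 71, nat_lit 43, nat_lit 35, nat_lit 42, nat_lit 87, nat_lit 3, nat_lit 95, nat_lit 28, nat_lit 25, nat_lit 22, nat_lit 38] (nat_lit 2)) (KT.cons (KT.cj [nat_lit 54, nat_lit 52, nat_lit 49, nat_lit 47, nat_lit 71, nat_lit 44, nat_lit 34, nat_lit 43, nat_lit 39, nat_lit 3, nat_lit 5, nat_lit 81, nat_lit 54, nat_lit 23, nat_lit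 73, nat_lit 34] (nat_lit 2)) KT.nil))) KT.nil))) KT.nil)))))) (KT.cons (KT.merge [nat_lit 4] [] (KT.merge [nat_lit 14] [nat_lit 0, nat_lit 4] (KT.prune (nat_lit 14) (nat_lit 1) [nat_lit 4]))) KT.nil)))))) (KT.cons (KT.merge [nat_lit 2] [nat_lit 2, nat_lit 4, nat_lit 8, nat_lit 12, nat_lit 14, nat_lit 16] (KT.merge [nat_lit 12] [nat_lit 0, nat_lit 4, nat_lit 10, nat_lit 12] (KT.merge [nat_lit 4] [nat_lit 4, nat_lit 6, nat_lit 10] (KT.split (KT.cons (KT.merge [nat_lit 2, nat_lit 6, nat_lit 12] [nat_lit 4] (KT.prune (nat_lit 13) (nat_lit 1) [nat_lit 0, nat_lit 4, nat_lit 6])) (KT.cons (KT.merge [nat_lit 0] [nat_lit 6, nat_lit 8] (KT.prune (nat_lit 13) (nat_lit 1) [nat_lit 4, nat_lit 6])) KT.nil)))))) KT.nil))) (KT.cons (KT.merge [nat_lit 2] [nat_lit 0, nat_lit 6, nat_lit 8, nat_lit 10, nat_lit 14, nat_lit 16] (KT.merge [nat_lit 0] [nat_lit 0, nat_lit 4, nat_lit 10, nat_lit 14] (KT.prune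 (nat_lit 9) (nat_lit 1) [nat_lit 0, nat_lit 4, nat_lit 8]))) KT.nil))) KT.nil))) [] _ _ (by decide +kernel)

theorem qk7 (b : Base D τ s cls2d2 4089470473293004800) : KK s 2 cls2A (GoodR s cls2R) (E s []) 3 :=
  KH.kk (cls2kh b) [([], nat_lit 5)] (KKs.cons (qk6 b) KKs.nil) (KT.split (KT.cons (KT.split (KT.cons (KT.into [] (nat_lit 0) []) (KT.cons (KT.split (KT.cons (KT.split (KT.cons (KT.merge [nat_lit 0] [nat_lit 8, nat_lit 16, nat_lit 18] (KT.split (KT.cons (KT.split (KT.cons (KT.merge [nat_lit 6] [nat_lit 0, nat_lit 2, nat_lit 6] (KT.merge [nat_lit 12] [nat_lit 8, nat_lit 10] (KT.merge [nat_lit 2] [nat_lit 8] (KT.split (KT.cons (KT.split (KT.cons (KT.merge [nat_lit 18] [nat_lit 0, nat_lit 2] (KT.merge [nat_lit 2, nat_lit 16, nat_lit 18] [nat_lit 0] (KT.merge [nat_lit 14] [] (KT.cj [nat_lit 30, nat_lit 30, nat_lit 39, nat_lit 39, nat_lit 55, nat_lit 12, nat_lit 10, nat_lit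 53, nat_lit 47, nat_lit 53, nat_lit 55] (nat_lit 2))))) (KT.cons (KT.merge [nat_lit 18] [nat_lit 0, nat_lit 2] (KT.split (KT.cons (KT.prune (nat_lit 17) (nat_lit 1) []) (KT.cons (KT.prune (nat_lit 17) (nat_lit 1) []) KT.nil)))) KT.nil))) (KT.cons (KT.split (KT.cons (KT.merge [nat_lit 18] [nat_lit 0, nat_lit 2] (KT.merge [nat_lit 2, nat_lit 16] [] (KT.prune (nat_lit 17) (nat_lit 1) []))) (KT.cons (KT.merge [nat_lit 18] [nat_lit 0, nat_lit 2] (KT.split (KT.cons (KT.merge [nat_lit 14] [] (KT.cj [nat_lit 19, nat_lit 21, nat_lit 49, nat_lit 52, nat_lit 1, nat_lit 75, nat_lit 54, nat_lit 11, nat_lit 9, nat_lit 47, nat_lit 7, nat_lit 9, nat_lit 44, nat_lit 3, nat_lit 38, nat_lit 22, nat_lit 59] (nat_lit 2))) (KT.cons (KT.merge [nat_lit 14] [] (KT.cj [nat_lit 55, nat_lit 52, nat_lit 55, nat_lit 45, nat_lit 81, nat_lit 11, nat_lit 41, nat_lit 70, nat_lit 37, nat_lit 38, nat_lit 3, nat_lit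 29, nat_lit 33, nat_lit 17, nat_lit 61, nat_lit 31] (nat_lit 1))) KT.nil)))) KT.nil))) KT.nil)))))) (KT.cons (KT.merge [nat_lit 6] [nat_lit 0, nat_lit 8, nat_lit 12] (KT.merge [nat_lit 12] [nat_lit 4, nat_lit 6, nat_lit 8, nat_lit 10] (KT.merge [nat_lit 16] [nat_lit 4] (KT.merge [nat_lit 2] [nat_lit 2, nat_lit 6] (KT.split (KT.cons (KT.prune (nat_lit 15) (nat_lit 1) [nat_lit 0, nat_lit 2]) (KT.cons (KT.prune (nat_lit 15) (nat_lit 1) [nat_lit 0]) KT.nil))))))) KT.nil))) (KT.cons (KT.split (KT.cons (KT.merge [nat_lit 2] [nat_lit 8, nat_lit 12] (KT.merge [nat_lit 12] [] (KT.prune (nat_lit 12) (nat_lit 1) [nat_lit 4]))) (KT.cons (KT.merge [nat_lit 2] [nat_lit 2, nat_lit 4, nat_lit 12] (KT.merge [nat_lit 12] [nat_lit 4, nat_lit 6] (KT.prune (nat_lit 12) (nat_lit 1) [nat_lit 6, nat_lit 8]))) KT.nil))) KT.nil)))) (KT.cons (KT.merge [nat_lit 0] [nat_lit 0, nat_lit 2, nat_lit 4, nat_lit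 6, nat_lit 8, nat_lit 14] (KT.merge [nat_lit 4] [nat_lit 0, nat_lit 2, nat_lit 6, nat_lit 12, nat_lit 16] (KT.merge [nat_lit 10] [nat_lit 4] (KT.split (KT.cons (KT.prune (nat_lit 11) (nat_lit 1) [nat_lit 8, nat_lit 10]) (KT.cons (KT.prune (nat_lit 11) (nat_lit 1) [nat_lit 4, nat_lit 6, nat_lit 10]) KT.nil)))))) KT.nil))) (KT.cons (KT.split (KT.cons (KT.merge [nat_lit 0] [nat_lit 4, nat_lit 8, nat_lit 10, nat_lit 14, nat_lit 16] (KT.merge [nat_lit 2] [nat_lit 2, nat_lit 8, nat_lit 14, nat_lit 16] (KT.merge [nat_lit 12] [nat_lit 0, nat_lit 2, nat_lit 4, nat_lit 12] (KT.prune (nat_lit 10) (nat_lit 1) [nat_lit 8, nat_lit 10])))) (KT.cons (KT.merge [nat_lit 0] [nat_lit 0, nat_lit 2, nat_lit 6, nat_lit 8, nat_lit 10, nat_lit 12, nat_lit 14, nat_lit 16, nat_lit 18] (KT.merge [nat_lit 4] [nat_lit 0, nat_lit 2, nat_lit 6, nat_lit 12, nat_lit 16] (KT.prune (nat_lit 9) (nat_lit 1) [nat_lit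 2, nat_lit 4, nat_lit 10]))) KT.nil))) KT.nil))) KT.nil))) (KT.cons (KT.merge [nat_lit 2] [nat_lit 4, nat_lit 6, nat_lit 12, nat_lit 14, nat_lit 18, nat_lit 20, nat_lit 22, nat_lit 24] (KT.merge [nat_lit 0] [nat_lit 0, nat_lit 2, nat_lit 4, nat_lit 6, nat_lit 8, nat_lit 12, nat_lit 16, nat_lit 18] (KT.split (KT.cons (KT.split (KT.cons (KT.merge [nat_lit 4] [nat_lit 0, nat_lit 8, nat_lit 14, nat_lit 16] (KT.merge [nat_lit 4, nat_lit 12] [nat_lit 2, nat_lit 6, nat_lit 8, nat_lit 10, nat_lit 14] (KT.merge [nat_lit 8] [nat_lit 0, nat_lit 2, nat_lit 6, nat_lit 12] (KT.split (KT.cons (KT.merge [nat_lit 16] [nat_lit 2, nat_lit 6, nat_lit 8] (KT.split (KT.cons (KT.split (KT.cons (KT.merge [nat_lit 26] [nat_lit 0, nat_lit 2] (KT.merge [nat_lit 24] [] (KT.merge [nat_lit 20, nat_lit 22] [] (KT.cj [nat_lit 18, nat_lit 70, nat_lit 31, nat_lit 24, nat_lit 52, nat_lit 28, nat_lit 2, nat_lit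 48, nat_lit 36, nat_lit 47, nat_lit 40, nat_lit 88, nat_lit 74, nat_lit 48, nat_lit 53, nat_lit 55] (nat_lit 2))))) (KT.cons (KT.merge [nat_lit 26] [nat_lit 0, nat_lit 2] (KT.prune (nat_lit 16) (nat_lit 1) [])) KT.nil))) (KT.cons (KT.split (KT.cons (KT.prune (nat_lit 15) (nat_lit 1) [nat_lit 0, nat_lit 2]) (KT.cons (KT.prune (nat_lit 15) (nat_lit 1) [nat_lit 2]) KT.nil))) KT.nil)))) (KT.cons (KT.prune (nat_lit 12) (nat_lit 1) [nat_lit 2]) KT.nil)))))) (KT.cons (KT.merge [nat_lit 4] [nat_lit 0, nat_lit 2, nat_lit 12, nat_lit 14] (KT.merge [nat_lit 4, nat_lit 12] [nat_lit 0, nat_lit 2, nat_lit 8] (KT.prune (nat_lit 10) (nat_lit 1) [nat_lit 0, nat_lit 10, nat_lit 12]))) KT.nil))) (KT.cons (KT.split (KT.cons (KT.prune (nat_lit 8) (nat_lit 1) [nat_lit 4, nat_lit 6, nat_lit 10, nat_lit 12, nat_lit 14]) (KT.cons (KT.prune (nat_lit 8) (nat_lit 1) [nat_lit 2, nat_lit 6, nat_lit 10, nat_lit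 12]) KT.nil))) KT.nil))))) KT.nil))) [] _ _ (by decide +kernel)

theorem qk8 (b : Base D τ s cls2d2 4089470473293004800) : KK s 2 cls2A (GoodR s cls2R) (E s [nat_lit 74]) 11 :=
  KH.kk (cls2kh b) [] KKs.nil (KT.split (KT.cons (KT.merge [nat_lit 2] [] (KT.split (KT.cons (KT.split (KT.cons (KT.split (KT.cons (KT.split (KT.cons (KT.split (KT.cons (KT.cj [nat_lit 0, nat_lit 31, nat_lit 24, nat_lit 14, nat_lit 42, nat_lit 38, nat_lit 2, nat_lit 43, nat_lit 6, nat_lit 34, nat_lit 47, nat_lit 10, nat_lit 52, nat_lit 102, nat_lit 0, nat_lit 52, nat_lit 55] (nat_lit 0)) (KT.cons (KT.cj [nat_lit 54, nat_lit 53, nat_lit 54, nat_lit 45, nat_lit 54, nat_lit 45, nat_lit 42, nat_lit 81, nat_lit 7, nat_lit 38, nat_lit 44, nat_lit 32, nat_lit 87, nat_lit 23, nat_lit 60, nat_lit 43] (nat_lit 2)) KT.nil))) (KT.cons (KT.merge [nat_lit 2, nat_lit 22] [] (KT.cj [nat_lit 85, nat_lit 8, nat_lit 24,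 nat_lit 22, nat_lit 18, nat_lit 31, nat_lit 2, nat_lit 43, nat_lit 38, nat_lit 42, nat_lit 45, nat_lit 54, nat_lit 46, nat_lit 52, nat_lit 50] (nat_lit 2))) KT.nil))) (KT.cons (KT.split (KT.cons (KT.split (KT.cons (KT.cj [nat_lit 55, nat_lit 9, nat_lit 51, nat_lit 53, nat_lit 75, nat_lit 43, nat_lit 37, nat_lit 70, nat_lit 37, nat_lit 3, nat_lit 81, nat_lit 34, nat_lit 24, nat_lit 95, nat_lit 3] (nat_lit 1)) (KT.cons (KT.cj [nat_lit 21, nat_lit 55, nat_lit 45, nat_lit 17, nat_lit 99, nat_lit 11, nat_lit 41, nat_lit 37, nat_lit 70, nat_lit 30, nat_lit 75, nat_lit 37] (nat_lit 2)) KT.nil))) (KT.cons (KT.merge [nat_lit 2, nat_lit 22] [] (KT.cj [nat_lit 38, nat_lit 66, nat_lit 14, nat_lit 42, nat_lit 18, nat_lit 31, nat_lit 44, nat_lit 34, nat_lit 10, nat_lit 42, nat_lit 45, nat_lit 47, nat_lit 16, nat_lit 53, nat_lit 18] (nat_lit 2))) KT.nil))) KT.nil))) (KT.cons (KT.split (KT.cons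 (KT.merge [nat_lit 2, nat_lit 22] [] (KT.merge [nat_lit 8] [] (KT.cj [nat_lit 21, nat_lit 52, nat_lit 49, nat_lit 5, nat_lit 75, nat_lit 83, nat_lit 17, nat_lit 37, nat_lit 49, nat_lit 37, nat_lit 3, nat_lit 97, nat_lit 3, nat_lit 15, nat_lit 55, nat_lit 15] (nat_lit 2)))) (KT.cons (KT.merge [nat_lit 2, nat_lit 22] [] (KT.merge [nat_lit 8] [] (KT.cj [nat_lit 13, nat_lit 24, nat_lit 20, nat_lit 14, nat_lit 45, nat_lit 84, nat_lit 2, nat_lit 16, nat_lit 36, nat_lit 18, nat_lit 47, nat_lit 52, nat_lit 50, nat_lit 8, nat_lit 54, nat_lit 54] (nat_lit 2)))) KT.nil))) KT.nil))) (KT.cons (KT.split (KT.cons (KT.merge [nat_lit 2, nat_lit 22] [nat_lit 0, nat_lit 2] (KT.split (KT.cons (KT.merge [nat_lit 8] [] (KT.cj [nat_lit 66, nat_lit 16, nat_lit 62, nat_lit 70, nat_lit 33, nat_lit 28, nat_lit 92, nat_lit 6, nat_lit 34, nat_lit 54, nat_lit 46, nat_lit 10, nat_lit 90, nat_lit 50, nat_lit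 8, nat_lit 12] (nat_lit 2))) (KT.cons (KT.merge [nat_lit 8] [] (KT.cj [nat_lit 76, nat_lit 61, nat_lit 22, nat_lit 52, nat_lit 33, nat_lit 2, nat_lit 70, nat_lit 38, nat_lit 71, nat_lit 40, nat_lit 10, nat_lit 96, nat_lit 80, nat_lit 54, nat_lit 53, nat_lit 55] (nat_lit 2))) KT.nil)))) (KT.cons (KT.merge [nat_lit 2, nat_lit 22] [nat_lit 2] (KT.split (KT.cons (KT.split (KT.cons (KT.cj [nat_lit 2, nat_lit 94, nat_lit 25, nat_lit 71, nat_lit 6, nat_lit 32, nat_lit 90, nat_lit 8, nat_lit 6, nat_lit 96, nat_lit 54, nat_lit 46, nat_lit 18, nat_lit 16, nat_lit 55, nat_lit 55] (nat_lit 2)) (KT.cons (KT.cj [nat_lit 29, nat_lit 2, nat_lit 24, nat_lit 14, nat_lit 29, nat_lit 35, nat_lit 2, nat_lit 71, nat_lit 35, nat_lit 82, nat_lit 94, nat_lit 88, nat_lit 16, nat_lit 53, nat_lit 54, nat_lit 18] (nat_lit 1)) KT.nil))) (KT.cons (KT.merge [nat_lit 2, nat_lit 6, nat_lit 12, nat_lit 14, nat_lit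 24, nat_lit 28, nat_lit 32, nat_lit 34] [] (KT.cj [nat_lit 105, nat_lit 14, nat_lit 63, nat_lit 35, nat_lit 54, nat_lit 30, nat_lit 35, nat_lit 78, nat_lit 34, nat_lit 16, nat_lit 42, nat_lit 52, nat_lit 74, nat_lit 50, nat_lit 48] (nat_lit 2))) KT.nil)))) KT.nil))) KT.nil)))) (KT.cons (KT.prune (nat_lit 12) (nat_lit 1) []) KT.nil))) [nat_lit 4] _ _ (by decide +kernel)

theorem qk9 (b : Base D τ s cls2d2 4089470473293004800) : KK s 2 cls2A (GoodR s cls2R) (E s [nat_lit 74]) 4 :=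
  KH.kk (cls2kh b) [([nat_lit 74], nat_lit 11)] (KKs.cons (qk8 b) KKs.nil) (KT.split (KT.cons (KT.merge [nat_lit 0] [nat_lit 6, nat_lit 16] (KT.split (KT.cons (KT.split (KT.cons (KT.merge [nat_lit 6] [nat_lit 0, nat_lit 8, nat_lit 14, nat_lit 16] (KT.split (KT.cons (KT.merge [nat_lit 14] [nat_lit 4, nat_lit 6, nat_lit 10] (KT.into [] (nat_lit 0) [])) (KT.cons (KT.merge [nat_lit 14] [nat_lit 4, nat_lit 6, nat_lit 10, nat_lit 12] (KT.split (KT.cons (KT.merge [nat_lit 22] [nat_lit 8] (KT.merge [nat_lit 2] [nat_lit 2] (KT.split (KT.cons (KT.merge [nat_lit 8] [nat_lit 0, nat_lit 2] (KT.merge [nat_lit 6, nat_lit 12, nat_lit 14] [] (KT.split (KT.cons (KT.cj [nat_lit 13, nat_lit 19, nat_lit 55, nat_lit 44, nat_lit 55, nat_lit 95, nat_lit 11, nat_lit 13, nat_lit 41, nat_lit 35, nat_lit 53, nat_lit 47, nat_lit 30, nat_lit 35, nat_lit 97, nat_lit 59, nat_lit 66] (nat_lit 2)) (KT.cons (KT.cj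 [nat_lit 13, nat_lit 55, nat_lit 17, nat_lit 87, nat_lit 17, nat_lit 103, nat_lit 43, nat_lit 103, nat_lit 37, nat_lit 81, nat_lit 31, nat_lit 43, nat_lit 35, nat_lit 58, nat_lit 61] (nat_lit 2)) KT.nil))))) (KT.cons (KT.merge [nat_lit 8] [nat_lit 0] (KT.split (KT.cons (KT.split (KT.cons (KT.cj [nat_lit 74, nat_lit 66, nat_lit 14, nat_lit 36, nat_lit 8, nat_lit 31, nat_lit 71, nat_lit 94, nat_lit 6, nat_lit 84, nat_lit 40, nat_lit 10, nat_lit 53, nat_lit 45, nat_lit 0, nat_lit 50, nat_lit 48, nat_lit 12] (nat_lit 2)) (KT.cons (KT.cj [nat_lit 105, nat_lit 88, nat_lit 24, nat_lit 22, nat_lit 4, nat_lit 29, nat_lit 78, nat_lit 41, nat_lit 6, nat_lit 71, nat_lit 8, nat_lit 10, nat_lit 74, nat_lit 52, nat_lit 50, nat_lit 54] (nat_lit 2)) KT.nil))) (KT.cons (KT.split (KT.cons (KT.cj [nat_lit 54, nat_lit 17, nat_lit 51, nat_lit 5, nat_lit 44, nat_lit 43, nat_lit 7, nat_lit 35, nat_lit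 85, nat_lit 28, nat_lit 5, nat_lit 32, nat_lit 15, nat_lit 67, nat_lit 40] (nat_lit 2)) (KT.cons (KT.cj [nat_lit 90, nat_lit 84, nat_lit 76, nat_lit 14, nat_lit 42, nat_lit 30, nat_lit 30, nat_lit 39, nat_lit 36, nat_lit 12, nat_lit 43, nat_lit 86, nat_lit 18, nat_lit 48, nat_lit 20] (nat_lit 1)) KT.nil))) KT.nil)))) KT.nil))))) (KT.cons (KT.prune (nat_lit 12) (nat_lit 1) [nat_lit 8]) KT.nil)))) KT.nil)))) (KT.cons (KT.merge [nat_lit 6] [nat_lit 0, nat_lit 2, nat_lit 4, nat_lit 8, nat_lit 10, nat_lit 12, nat_lit 14] (KT.split (KT.cons (KT.prune (nat_lit 10) (nat_lit 1) [nat_lit 4, nat_lit 6, nat_lit 10]) (KT.cons (KT.prune (nat_lit 10) (nat_lit 1) [nat_lit 4, nat_lit 6, nat_lit 10, nat_lit 12]) KT.nil)))) KT.nil))) (KT.cons (KT.merge [nat_lit 2] [nat_lit 4, nat_lit 6, nat_lit 8, nat_lit 14] (KT.prune (nat_lit 8) (nat_lit 1) [nat_lit 0, nat_lit 2, nat_lit 6, nat_lit 12, nat_lit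 16])) KT.nil)))) (KT.cons (KT.merge [nat_lit 0] [nat_lit 2, nat_lit 6, nat_lit 8, nat_lit 12, nat_lit 16, nat_lit 20] (KT.split (KT.cons (KT.split (KT.cons (KT.merge [nat_lit 6] [nat_lit 0, nat_lit 2, nat_lit 4, nat_lit 8, nat_lit 10, nat_lit 16] (KT.split (KT.cons (KT.merge [nat_lit 10] [nat_lit 8, nat_lit 10] (KT.split (KT.cons (KT.merge [nat_lit 16] [nat_lit 4] (KT.merge [nat_lit 6, nat_lit 12] [nat_lit 0, nat_lit 6] (KT.split (KT.cons (KT.merge [nat_lit 18] [nat_lit 0, nat_lit 2] (KT.merge [nat_lit 16, nat_lit 18, nat_lit 22, nat_lit 34] [nat_lit 0] (KT.merge [nat_lit 2] [] (KT.cj [nat_lit 7, nat_lit 34, nat_lit 72, nat_lit 34, nat_lit 8, nat_lit 30, nat_lit 50, nat_lit 6, nat_lit 84, nat_lit 40, nat_lit 45, nat_lit 45, nat_lit 8, nat_lit 55] (nat_lit 2))))) (KT.cons (KT.merge [nat_lit 18] [nat_lit 0, nat_lit 2] (KT.merge [nat_lit 2] [nat_lit 0] (KT.prune (nat_lit 17) (nat_lit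 1) []))) KT.nil))))) (KT.cons (KT.prune (nat_lit 12) (nat_lit 1) []) KT.nil)))) (KT.cons (KT.merge [nat_lit 10] [nat_lit 8, nat_lit 10] (KT.split (KT.cons (KT.merge [nat_lit 2] [nat_lit 0, nat_lit 4, nat_lit 8] (KT.merge [nat_lit 2, nat_lit 22] [nat_lit 2] (KT.merge [nat_lit 2, nat_lit 10, nat_lit 14, nat_lit 22, nat_lit 28] [nat_lit 0, nat_lit 4] (KT.prune (nat_lit 15) (nat_lit 1) [nat_lit 0, nat_lit 2])))) (KT.cons (KT.prune (nat_lit 12) (nat_lit 1) [nat_lit 4, nat_lit 6]) KT.nil)))) KT.nil)))) (KT.cons (KT.merge [nat_lit 6] [nat_lit 0, nat_lit 8, nat_lit 12] (KT.split (KT.cons (KT.prune (nat_lit 10) (nat_lit 1) [nat_lit 4, nat_lit 6, nat_lit 10, nat_lit 12]) (KT.cons (KT.prune (nat_lit 10) (nat_lit 1) [nat_lit 4, nat_lit 6, nat_lit 8, nat_lit 12]) KT.nil)))) KT.nil))) (KT.cons (KT.merge [nat_lit 2] [nat_lit 4, nat_lit 6, nat_lit 14, nat_lit 16, nat_lit 18] (KT.prune (nat_lit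 8) (nat_lit 1) [nat_lit 0, nat_lit 2, nat_lit 4, nat_lit 12, nat_lit 16])) KT.nil)))) KT.nil))) [nat_lit 4] _ _ (by decide +kernel)

theorem qk10 (b : Base D τ s cls2d2 4089470473293004800) : KK s 2 cls2A (GoodR s cls2R) (E s [nat_lit 72, nat_lit 74, nat_lit 76]) 5 :=
  KH.kk (cls2kh b) [] KKs.nil (KT.split (KT.cons (KT.split (KT.cons (KT.prune (nat_lit 7) (nat_lit 1) [nat_lit 2, nat_lit 4, nat_lit 10, nat_lit 14, nat_lit 16]) (KT.cons (KT.merge [nat_lit 0] [nat_lit 4, nat_lit 6, nat_lit 8, nat_lit 10, nat_lit 14, nat_lit 16, nat_lit 18] (KT.split (KT.cons (KT.merge [nat_lit 0, nat_lit 12] [nat_lit 2, nat_lit 6, nat_lit 10, nat_lit 12] (KT.prune (nat_lit 10) (nat_lit 1) [nat_lit 2, nat_lit 8, nat_lit 12])) (KT.cons (KT.split (KT.cons (KT.merge [nat_lit 4] [nat_lit 4, nat_lit 6, nat_lit 10] (KT.merge [nat_lit 0, nat_lit 12, nat_lit 16] [nat_lit 6, nat_lit 10] (KT.prune (nat_lit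 12) (nat_lit 1) [nat_lit 2, nat_lit 8]))) (KT.cons (KT.merge [nat_lit 4] [nat_lit 4, nat_lit 6, nat_lit 10] (KT.merge [nat_lit 0, nat_lit 12, nat_lit 16] [nat_lit 2, nat_lit 4, nat_lit 6, nat_lit 10] (KT.prune (nat_lit 12) (nat_lit 1) [nat_lit 0, nat_lit 2, nat_lit 4, nat_lit 6, nat_lit 8]))) KT.nil))) KT.nil)))) KT.nil))) (KT.cons (KT.split (KT.cons (KT.prune (nat_lit 7) (nat_lit 1) [nat_lit 4, nat_lit 10, nat_lit 14, nat_lit 16]) (KT.cons (KT.merge [nat_lit 0] [nat_lit 6, nat_lit 8, nat_lit 12, nat_lit 14] (KT.split (KT.cons (KT.split (KT.cons (KT.merge [nat_lit 4] [nat_lit 4, nat_lit 6, nat_lit 10] (KT.merge [nat_lit 0, nat_lit 12] [nat_lit 0, nat_lit 2, nat_lit 4] (KT.merge [nat_lit 10, nat_lit 16] [nat_lit 2, nat_lit 8] (KT.prune (nat_lit 13) (nat_lit 1) [nat_lit 2, nat_lit 4, nat_lit 6])))) (KT.cons (KT.merge [nat_lit 4] [nat_lit 4, nat_lit 6, nat_lit 10] (KT.merge [nat_lit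 0, nat_lit 12] [nat_lit 0] (KT.merge [nat_lit 10, nat_lit 16] [nat_lit 2, nat_lit 8] (KT.merge [nat_lit 18] [nat_lit 2, nat_lit 4] (KT.split (KT.cons (KT.split (KT.cons (KT.split (KT.cons (KT.prune (nat_lit 17) (nat_lit 1) []) (KT.cons (KT.merge [nat_lit 20] [] (KT.cj [nat_lit 80, nat_lit 2, nat_lit 94, nat_lit 25, nat_lit 92, nat_lit 84, nat_lit 2, nat_lit 36, nat_lit 48, nat_lit 36, nat_lit 70, nat_lit 10, nat_lit 55, nat_lit 88, nat_lit 8, nat_lit 55] (nat_lit 2))) KT.nil))) (KT.cons (KT.split (KT.cons (KT.prune (nat_lit 17) (nat_lit 1) []) (KT.cons (KT.merge [nat_lit 20] [] (KT.cj [nat_lit 47, nat_lit 66, nat_lit 14, nat_lit 32, nat_lit 32, nat_lit 28, nat_lit 6, nat_lit 39, nat_lit 43, nat_lit 16, nat_lit 44, nat_lit 0, nat_lit 52, nat_lit 50, nat_lit 18, nat_lit 12] (nat_lit 2))) KT.nil))) KT.nil))) (KT.cons (KT.split (KT.cons (KT.split (KT.cons (KT.merge [nat_lit 8] []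 (KT.cj [nat_lit 9, nat_lit 25, nat_lit 27, nat_lit 14, nat_lit 43, nat_lit 74, nat_lit 30, nat_lit 88, nat_lit 38, nat_lit 36, nat_lit 42, nat_lit 42, nat_lit 47, nat_lit 86, nat_lit 18, nat_lit 50, nat_lit 18] (nat_lit 1))) (KT.cons (KT.prune (nat_lit 17) (nat_lit 1) []) KT.nil))) (KT.cons (KT.split (KT.cons (KT.merge [nat_lit 8] [] (KT.cj [nat_lit 21, nat_lit 55, nat_lit 9, nat_lit 52, nat_lit 1, nat_lit 45, nat_lit 52, nat_lit 41, nat_lit 85, nat_lit 35, nat_lit 11, nat_lit 46, nat_lit 32, nat_lit 87, nat_lit 23, nat_lit 60, nat_lit 73] (nat_lit 2))) (KT.cons (KT.prune (nat_lit 17) (nat_lit 1) []) KT.nil))) KT.nil))) KT.nil))))))) KT.nil))) (KT.cons (KT.merge [nat_lit 0, nat_lit 12] [nat_lit 0, nat_lit 2, nat_lit 4, nat_lit 6, nat_lit 12] (KT.prune (nat_lit 10) (nat_lit 1) [nat_lit 4, nat_lit 6, nat_lit 10, nat_lit 12])) KT.nil)))) KT.nil))) KT.nil))) [nat_lit 2, nat_lit 4,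 nat_lit 6] _ _ (by decide +kernel)

theorem qk11 (b : Base D τ s cls2d2 4089470473293004800) : KK s 2 cls2A (GoodR s cls2R) (E s []) 1 :=
  KH.kk (cls2kh b) [([], nat_lit 3), ([nat_lit 74], nat_lit 4), ([nat_lit 72, nat_lit 74, nat_lit 76], nat_lit 5)] (KKs.cons (qk7 b) (KKs.cons (qk9 b) (KKs.cons (qk10 b) KKs.nil))) (KT.split (KT.cons (KT.split (KT.cons (KT.into [] (nat_lit 0) []) (KT.cons (KT.split (KT.cons (KT.into [] (nat_lit 1) []) (KT.cons (KT.merge [nat_lit 2] [nat_lit 4, nat_lit 6, nat_lit 12, nat_lit 18, nat_lit 20] (KT.split (KT.cons (KT.merge [nat_lit 0] [nat_lit 0, nat_lit 4, nat_lit 6, nat_lit 10, nat_lit 12, nat_lit 14, nat_lit 20] (KT.split (KT.cons (KT.prune (nat_lit 8) (nat_lit 1) [nat_lit 0, nat_lit 8, nat_lit 14, nat_lit 16]) (KT.cons (KT.prune (nat_lit 8) (nat_lit 1) [nat_lit 0, nat_lit 4, nat_lit 6, nat_lit 12, nat_lit 14]) KT.nil)))) (KT.cons (KT.merge [nat_lit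 0] [nat_lit 0, nat_lit 6, nat_lit 16] (KT.split (KT.cons (KT.merge [nat_lit 4] [nat_lit 0, nat_lit 8, nat_lit 14, nat_lit 16] (KT.split (KT.cons (KT.split (KT.cons (KT.merge [nat_lit 8] [nat_lit 0, nat_lit 6, nat_lit 8, nat_lit 10] (KT.prune (nat_lit 12) (nat_lit 1) [nat_lit 2, nat_lit 4, nat_lit 6])) (KT.cons (KT.merge [nat_lit 8] [nat_lit 0, nat_lit 6, nat_lit 8] (KT.merge [nat_lit 16] [nat_lit 2, nat_lit 6, nat_lit 8] (KT.split (KT.cons (KT.split (KT.cons (KT.prune (nat_lit 15) (nat_lit 1) [nat_lit 0, nat_lit 2]) (KT.cons (KT.prune (nat_lit 15) (nat_lit 1) [nat_lit 2]) KT.nil))) (KT.cons (KT.split (KT.cons (KT.merge [nat_lit 26] [nat_lit 0, nat_lit 2] (KT.merge [nat_lit 22] [] (KT.merge [nat_lit 8, nat_lit 14] [] (KT.cj [nat_lit 47, nat_lit 24, nat_lit 94, nat_lit 27, nat_lit 42, nat_lit 18, nat_lit 30, nat_lit 45, nat_lit 6, nat_lit 74, nat_lit 43, nat_lit 44, nat_lit 74,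 nat_lit 4, nat_lit 52, nat_lit 18] (nat_lit 2))))) (KT.cons (KT.merge [nat_lit 26] [nat_lit 0, nat_lit 2] (KT.prune (nat_lit 16) (nat_lit 1) [])) KT.nil))) KT.nil))))) KT.nil))) (KT.cons (KT.split (KT.cons (KT.merge [nat_lit 8] [nat_lit 0, nat_lit 10] (KT.merge [nat_lit 16] [nat_lit 2, nat_lit 6, nat_lit 8] (KT.split (KT.cons (KT.split (KT.cons (KT.merge [nat_lit 26] [nat_lit 0, nat_lit 2] (KT.prune (nat_lit 16) (nat_lit 1) [])) (KT.cons (KT.merge [nat_lit 26] [nat_lit 0, nat_lit 2] (KT.merge [nat_lit 22] [] (KT.split (KT.cons (KT.cj [nat_lit 21, nat_lit 54, nat_lit 52, nat_lit 5, nat_lit 87, nat_lit 54, nat_lit 41, nat_lit 75, nat_lit 7, nat_lit 35, nat_lit 38, nat_lit 31, nat_lit 44, nat_lit 59, nat_lit 83, nat_lit 37] (nat_lit 1)) (KT.cons (KT.cj [nat_lit 47, nat_lit 59, nat_lit 14, nat_lit 45, nat_lit 39, nat_lit 88, nat_lit 42, nat_lit 47, nat_lit 45, nat_lit 18, nat_lit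 52, nat_lit 55, nat_lit 20] (nat_lit 2)) KT.nil))))) KT.nil))) (KT.cons (KT.split (KT.cons (KT.prune (nat_lit 15) (nat_lit 1) [nat_lit 2]) (KT.cons (KT.prune (nat_lit 15) (nat_lit 1) [nat_lit 0, nat_lit 2]) KT.nil))) KT.nil))))) (KT.cons (KT.merge [nat_lit 8] [nat_lit 0] (KT.prune (nat_lit 12) (nat_lit 1) [nat_lit 2, nat_lit 6, nat_lit 8])) KT.nil))) KT.nil)))) (KT.cons (KT.merge [nat_lit 4] [nat_lit 0, nat_lit 2, nat_lit 12, nat_lit 14] (KT.split (KT.cons (KT.merge [nat_lit 6] [nat_lit 0, nat_lit 2, nat_lit 6, nat_lit 8, nat_lit 12] (KT.prune (nat_lit 11) (nat_lit 1) [nat_lit 4, nat_lit 10])) (KT.cons (KT.merge [nat_lit 6] [nat_lit 0] (KT.prune (nat_lit 11) (nat_lit 1) [nat_lit 0, nat_lit 6, nat_lit 10])) KT.nil)))) KT.nil)))) KT.nil)))) KT.nil))) KT.nil))) (KT.cons (KT.split (KT.cons (KT.split (KT.cons (KT.prune (nat_lit 4) (nat_lit 1) [nat_lit 10, nat_lit 16, nat_lit 18, nat_lit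 24]) (KT.cons (KT.merge [nat_lit 2] [nat_lit 4, nat_lit 6, nat_lit 12, nat_lit 14, nat_lit 18, nat_lit 20, nat_lit 22, nat_lit 24] (KT.merge [nat_lit 0] [nat_lit 2, nat_lit 4, nat_lit 6, nat_lit 12, nat_lit 18, nat_lit 20] (KT.split (KT.cons (KT.prune (nat_lit 7) (nat_lit 1) [nat_lit 0, nat_lit 8, nat_lit 10, nat_lit 12, nat_lit 14, nat_lit 16]) (KT.cons (KT.merge [nat_lit 12] [nat_lit 0, nat_lit 18] (KT.split (KT.cons (KT.split (KT.cons (KT.merge [nat_lit 4] [nat_lit 4, nat_lit 6, nat_lit 10] (KT.split (KT.cons (KT.prune (nat_lit 12) (nat_lit 1) [nat_lit 0, nat_lit 2, nat_lit 4, nat_lit 6]) (KT.cons (KT.merge [nat_lit 22] [nat_lit 2] (KT.prune (nat_lit 13) (nat_lit 1) [nat_lit 2, nat_lit 4])) KT.nil)))) (KT.cons (KT.merge [nat_lit 4] [nat_lit 4, nat_lit 6, nat_lit 10] (KT.split (KT.cons (KT.prune (nat_lit 12) (nat_lit 1) [nat_lit 2]) (KT.cons (KT.merge [nat_lit 22] [nat_lit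 2, nat_lit 8] (KT.merge [nat_lit 18] [nat_lit 2, nat_lit 4, nat_lit 6] (KT.merge [nat_lit 8, nat_lit 16] [nat_lit 0, nat_lit 2] (KT.merge [nat_lit 10, nat_lit 14, nat_lit 22, nat_lit 28, nat_lit 30] [] (KT.split (KT.cons (KT.prune (nat_lit 17) (nat_lit 1) []) (KT.cons (KT.merge [nat_lit 24] [] (KT.cj [nat_lit 23, nat_lit 20, nat_lit 14, nat_lit 35, nat_lit 70, nat_lit 33, nat_lit 35, nat_lit 45, nat_lit 6, nat_lit 88, nat_lit 40, nat_lit 12, nat_lit 44, nat_lit 20, nat_lit 12] (nat_lit 2))) KT.nil))))))) KT.nil)))) KT.nil))) (KT.cons (KT.split (KT.cons (KT.prune (nat_lit 10) (nat_lit 1) [nat_lit 2, nat_lit 4, nat_lit 10]) (KT.cons (KT.prune (nat_lit 10) (nat_lit 1) [nat_lit 2, nat_lit 8]) KT.nil))) KT.nil)))) KT.nil))))) KT.nil))) (KT.cons (KT.split (KT.cons (KT.prune (nat_lit 4) (nat_lit 1) [nat_lit 10, nat_lit 14, nat_lit 16, nat_lit 18, nat_lit 24]) (KT.cons (KT.merge [nat_lit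 2] [nat_lit 4, nat_lit 6, nat_lit 12, nat_lit 18, nat_lit 20] (KT.into [] (nat_lit 2) [])) KT.nil))) KT.nil))) KT.nil))) [] _ _ (by decide +kernel)

theorem qk12 (b : Base D τ s cls2d2 4089470473293004800) : KK s 2 cls2A (GoodR s cls2R) (E s [nat_lit 70]) 2 :=
  KH.kk (cls2kh b) [] KKs.nil (KT.split (KT.cons (KT.split (KT.cons (KT.split (KT.cons (KT.prune (nat_lit 5) (nat_lit 1) [nat_lit 2, nat_lit 16, nat_lit 22]) (KT.cons (KT.prune (nat_lit 5) (nat_lit 1) [nat_lit 8, nat_lit 12, nat_lit 14, nat_lit 18, nat_lit 20, nat_lit 22]) KT.nil))) (KT.cons (KT.merge [nat_lit 2] [nat_lit 2, nat_lit 10, nat_lit 12, nat_lit 16, nat_lit 20, nat_lit 22] (KT.merge [nat_lit 0] [nat_lit 0, nat_lit 2, nat_lit 4, nat_lit 6, nat_lit 8, nat_lit 12, nat_lit 16, nat_lit 18] (KT.prune (nat_lit 6) (nat_lit 1) [nat_lit 8, nat_lit 12, nat_lit 14]))) KT.nil))) (KT.cons (KT.split (KT.cons (KT.split (KT.cons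 (KT.merge [nat_lit 0] [nat_lit 6, nat_lit 16] (KT.merge [nat_lit 2] [nat_lit 0, nat_lit 2, nat_lit 4, nat_lit 8, nat_lit 10, nat_lit 14, nat_lit 16, nat_lit 18] (KT.prune (nat_lit 7) (nat_lit 1) [nat_lit 2, nat_lit 4, nat_lit 10, nat_lit 12, nat_lit 16]))) (KT.cons (KT.merge [nat_lit 0] [nat_lit 2, nat_lit 6, nat_lit 8, nat_lit 12, nat_lit 16, nat_lit 20] (KT.merge [nat_lit 2] [nat_lit 0, nat_lit 2, nat_lit 4, nat_lit 10, nat_lit 14, nat_lit 16] (KT.merge [nat_lit 8] [nat_lit 8, nat_lit 14, nat_lit 18] (KT.split (KT.cons (KT.prune (nat_lit 9) (nat_lit 1) [nat_lit 0, nat_lit 4, nat_lit 6, nat_lit 8, nat_lit 10, nat_lit 12, nat_lit 14]) (KT.cons (KT.merge [nat_lit 12] [nat_lit 0, nat_lit 4, nat_lit 8, nat_lit 12, nat_lit 14] (KT.split (KT.cons (KT.merge [nat_lit 2, nat_lit 4, nat_lit 6, nat_lit 8, nat_lit 16] [nat_lit 0, nat_lit 2, nat_lit 4, nat_lit 6] (KT.split (KT.cons (KT.prune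 (nat_lit 13) (nat_lit 1) [nat_lit 0, nat_lit 4]) (KT.cons (KT.prune (nat_lit 13) (nat_lit 1) [nat_lit 4]) KT.nil)))) (KT.cons (KT.merge [nat_lit 2, nat_lit 4, nat_lit 6, nat_lit 8, nat_lit 16] [nat_lit 0, nat_lit 2, nat_lit 8] (KT.split (KT.cons (KT.merge [nat_lit 10] [nat_lit 4] (KT.merge [nat_lit 22] [] (KT.split (KT.cons (KT.split (KT.cons (KT.split (KT.cons (KT.cj [nat_lit 73, nat_lit 63, nat_lit 74, nat_lit 29, nat_lit 30, nat_lit 78, nat_lit 6, nat_lit 74, nat_lit 45, nat_lit 10, nat_lit 102, nat_lit 44, nat_lit 54, nat_lit 48, nat_lit 18] (nat_lit 1)) (KT.cons (KT.cj [nat_lit 0, nat_lit 14, nat_lit 70, nat_lit 14, nat_lit 29, nat_lit 36, nat_lit 28, nat_lit 55, nat_lit 102, nat_lit 6, nat_lit 40, nat_lit 45, nat_lit 47, nat_lit 54, nat_lit 18] (nat_lit 2)) KT.nil))) (KT.cons (KT.split (KT.cons (KT.cj [nat_lit 105, nat_lit 41, nat_lit 14, nat_lit 23, nat_lit 34, nat_lit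 41, nat_lit 32, nat_lit 4, nat_lit 35, nat_lit 48, nat_lit 42, nat_lit 52, nat_lit 102, nat_lit 0, nat_lit 48, nat_lit 20] (nat_lit 2)) (KT.cons (KT.cj [nat_lit 98, nat_lit 84, nat_lit 22, nat_lit 24, nat_lit 29, nat_lit 74, nat_lit 28, nat_lit 35, nat_lit 6, nat_lit 44, nat_lit 42, nat_lit 96, nat_lit 45, nat_lit 18, nat_lit 50, nat_lit 8] (nat_lit 2)) KT.nil))) KT.nil))) (KT.cons (KT.split (KT.cons (KT.split (KT.cons (KT.cj [nat_lit 55, nat_lit 17, nat_lit 51, nat_lit 5, nat_lit 75, nat_lit 81, nat_lit 11, nat_lit 13, nat_lit 42, nat_lit 39, nat_lit 55, nat_lit 28, nat_lit 5, nat_lit 52, nat_lit 22, nat_lit 83, nat_lit 63] (nat_lit 2)) (KT.cons (KT.cj [nat_lit 29, nat_lit 76, nat_lit 22, nat_lit 28, nat_lit 48, nat_lit 31, nat_lit 39, nat_lit 40, nat_lit 34, nat_lit 55, nat_lit 41, nat_lit 50, nat_lit 74] (nat_lit 2)) KT.nil))) (KT.cons (KT.split (KT.cons (KT.cj [nat_lit 2,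 nat_lit 94, nat_lit 25, nat_lit 36, nat_lit 84, nat_lit 2, nat_lit 39, nat_lit 36, nat_lit 44, nat_lit 42, nat_lit 16, nat_lit 47, nat_lit 4, nat_lit 8, nat_lit 55, nat_lit 20] (nat_lit 2)) (KT.cons (KT.cj [nat_lit 80, nat_lit 61, nat_lit 22, nat_lit 43, nat_lit 102, nat_lit 31, nat_lit 2, nat_lit 34, nat_lit 52, nat_lit 6, nat_lit 74, nat_lit 40, nat_lit 90, nat_lit 54, nat_lit 48, nat_lit 20] (nat_lit 2)) KT.nil))) KT.nil))) KT.nil))))) (KT.cons (KT.merge [nat_lit 10] [nat_lit 4] (KT.prune (nat_lit 14) (nat_lit 1) [])) KT.nil)))) KT.nil)))) KT.nil)))))) KT.nil))) (KT.cons (KT.merge [nat_lit 2] [nat_lit 2, nat_lit 6, nat_lit 8, nat_lit 10, nat_lit 12, nat_lit 18, nat_lit 22] (KT.prune (nat_lit 5) (nat_lit 1) [nat_lit 0, nat_lit 6, nat_lit 8, nat_lit 10, nat_lit 16, nat_lit 22])) KT.nil))) KT.nil))) [nat_lit 0] _ _ (by decide +kernel)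

theorem cls2kk (b : Base D τ s cls2d2 4089470473293004800) : KK s 2 cls2A (GoodR s cls2R) (E s []) 0 :=
  KH.kk (cls2kh b) [([], nat_lit 1), ([nat_lit 70], nat_lit 2)] (KKs.cons (qk11 b) (KKs.cons (qk12 b) KKs.nil)) (KT.split (KT.cons (KT.into [] (nat_lit 0) []) (KT.cons (KT.split (KT.cons (KT.into [] (nat_lit 1) []) (KT.cons (KT.split (KT.cons (KT.split (KT.cons (KT.prune (nat_lit 4) (nat_lit 1) [nat_lit 0, nat_lit 2, nat_lit 18, nat_lit 22]) (KT.cons (KT.merge [nat_lit 2] [nat_lit 2, nat_lit 4, nat_lit 10, nat_lit 12, nat_lit 14, nat_lit 16, nat_lit 18, nat_lit 20, nat_lit 22, nat_lit 24] (KT.merge [nat_lit 0] [nat_lit 2, nat_lit 4, nat_lit 6, nat_lit 12, nat_lit 18, nat_lit 20] (KT.split (KT.cons (KT.prune (nat_lit 7) (nat_lit 1) [nat_lit 2, nat_lit 4, nat_lit 10, nat_lit 12, nat_lit 14, nat_lit 16]) (KT.cons (KT.merge [nat_lit 8] [nat_lit 4, nat_lit 8, nat_lit 10, nat_lit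 12, nat_lit 18] (KT.split (KT.cons (KT.prune (nat_lit 9) (nat_lit 1) [nat_lit 2, nat_lit 6, nat_lit 8, nat_lit 10, nat_lit 12]) (KT.cons (KT.merge [nat_lit 16] [nat_lit 6, nat_lit 8, nat_lit 10] (KT.split (KT.cons (KT.prune (nat_lit 11) (nat_lit 1) [nat_lit 8, nat_lit 10]) (KT.cons (KT.prune (nat_lit 11) (nat_lit 1) [nat_lit 2, nat_lit 4, nat_lit 10]) KT.nil)))) KT.nil)))) KT.nil))))) KT.nil))) (KT.cons (KT.split (KT.cons (KT.prune (nat_lit 4) (nat_lit 1) [nat_lit 2, nat_lit 6, nat_lit 18, nat_lit 20, nat_lit 22]) (KT.cons (KT.merge [nat_lit 2] [nat_lit 2, nat_lit 4, nat_lit 6, nat_lit 8, nat_lit 12, nat_lit 14, nat_lit 16, nat_lit 18, nat_lit 24] (KT.prune (nat_lit 5) (nat_lit 1) [nat_lit 2, nat_lit 4, nat_lit 6, nat_lit 12, nat_lit 14, nat_lit 18, nat_lit 20, nat_lit 22])) KT.nil))) KT.nil))) KT.nil))) KT.nil))) [] _ _ (by decide +kernel)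

theorem cls2 (b0 : Base D τ s d0 4089470473293004800) {y : G} (hy : y ^ 2 = 1) : GoodR s [[nat_lit 20], [nat_lit 0, nat_lit 20], [nat_lit 4, nat_lit 0, nat_lit 20]] y := by
  obtain ⟨s1, b1, h1⟩ := cls2d0_up b0
  obtain ⟨s2, b2, h2⟩ := cls2d1_up b1
  obtain ⟨s3, b3, h3⟩ := cls2d2_up b2
  exact GoodR.of_ext h1 (by decide +kernel) (GoodR.of_ext h2 (by decide +kernel) (GoodR.of_ext h3 (by decide +kernel) ((cls2kh b3).all (cls2kk b3) (by rw [b0.card]; decide +kernel) GoodR.conj hy)))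

end Cfsg.Agent.FiC.F23
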