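import Cfsg.Agent.FiC.F23.C3n

set_option autoImplicit false
set_option maxRecDepth 100000
set_option Elab.async false
set_option linter.unusedSectionVars false
set_option linter.unusedVariables false

namespace Cfsg.Agent.FiC.F23
open Cfsg.Agent.Comp Cfsg.Agent.FiC

variable {G : Type*} [Group G] [Finite G] {D : Set G} {τ s : ℕ → G}

noncomputable def cls3A : List (List Nat) := [[nat_lit 70], [nat_lit 72], [nat_lit 74], [nat_lit 76], [nat_lit 78], [nat_lit 80], [nat_lit 82], [nat_lit 84], [nat_lit 86], [nat_lit 88], [nat_lit 90], [nat_lit 92], [nat_lit 94]]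

noncomputable def cls3R : List (List Nat) := [[nat_lit 0, nat_lit 2], [nat_lit 0, nat_lit 2, nat_lit 6, nat_lit 8], [nat_lit 30, nat_lit 30, nat_lit 30, nat_lit 30], [nat_lit 0, nat_lit 2, nat_lit 10, nat_lit 12, nat_lit 16, nat_lit 18]]

noncomputable def cls3N : List (List Nat) := [[nat_lit 96], [nat_lit 98], [nat_lit 100]]

theorem cls3pc (b : Base D τ s cls3d2 4089470473293004800) : PC s 3 cls3A :=
  Cx.pcs b.x _ _ [[[nat_lit 13, nat_lit 16, nat_lit 21, nat_lit 23]], [[nat_lit 6, nat_lit 10, nat_lit 13, nat_lit 17, nat_lit 20], []], [[nat_lit 1, nat_lit 3, nat_lit 4, nat_lit 6, nat_lit 13, nat_lit 14, nat_lit 17, nat_lit 19], [nat_lit 3, nat_lit 4, nat_lit 6, nat_lit 9, nat_lit 10, nat_lit 13, nat_lit 15, nat_lit 16, nat_lit 19], []], [[nat_lit 2, nat_lit 8, nat_lit 12, nat_lit 15], [nat_lit 2, nat_lit 9, nat_lit 12, nat_lit 16], [nat_lit 10, nat_lit 13, nat_lit 16], []],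 [[nat_lit 0, nat_lit 3, nat_lit 5, nat_lit 7, nat_lit 9, nat_lit 11, nat_lit 12, nat_lit 15], [nat_lit 3, nat_lit 7, nat_lit 9], [nat_lit 7, nat_lit 9, nat_lit 10, nat_lit 15], [nat_lit 9, nat_lit 12, nat_lit 14], []], [[nat_lit 2, nat_lit 10], [nat_lit 2, nat_lit 7, nat_lit 11, nat_lit 13], [nat_lit 6, nat_lit 9, nat_lit 10], [], [nat_lit 5, nat_lit 8, nat_lit 12], []], [[nat_lit 1, nat_lit 3, nat_lit 5, nat_lit 7], [nat_lit 4, nat_lit 7, nat_lit 8, nat_lit 11], [nat_lit 2, nat_lit 5, nat_lit 6], [nat_lit 2, nat_lit 4, nat_lit 7, nat_lit 8, nat_lit 11], [], [nat_lit 5, nat_lit 6, nat_lit 8, nat_lit 11], []], [[nat_lit 4], [], [nat_lit 1, nat_lit 2, nat_lit 5, nat_lit 7, nat_lit 9], [], [nat_lit 3, nat_lit 6, nat_lit 8], [nat_lit 9], [nat_lit 4], []], [[nat_lit 1, nat_lit 6], [nat_lit 1, nat_lit 5, nat_lit 7], [], [nat_lit 6], [nat_lit 4, nat_lit 6], [nat_lit 6], [nat_lit 4,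 nat_lit 6], [nat_lit 6], []], [[nat_lit 0, nat_lit 5], [nat_lit 0, nat_lit 5], [nat_lit 3, nat_lit 4], [], [nat_lit 3, nat_lit 5], [nat_lit 4], [], [], [], []], [[nat_lit 2], [], [nat_lit 1, nat_lit 2], [nat_lit 3], [], [], [], [], [], [], []], [[nat_lit 1], [], [], [], [], [], [], [], [], [], [], []], [[], [], [], [], [], [], [], [], [], [], [], [], []]] (by decide +kernel)

theorem rge1 (b : Base D τ s cls3d2 4089470473293004800) : GE s [[nat_lit 72], [nat_lit 74, nat_lit 83, nat_lit 44, nat_lit 53, nat_lit 33, nat_lit 55, nat_lit 41, nat_lit 6, nat_lit 43, nat_lit 44, nat_lit 53, nat_lit 45, nat_lit 50, nat_lit 8, nat_lit 55], [nat_lit 76, nat_lit 75, nat_lit 36, nat_lit 28, nat_lit 47, nat_lit 53, nat_lit 34, nat_lit 8, nat_lit 42, nat_lit 54, nat_lit 12, nat_lit 44, nat_lit 50, nat_lit 54, nat_lit 20, nat_lit 18]] 81 :=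
  GE.step b.x (GE.base []) _ [] (nat_lit 0) [nat_lit 0, nat_lit 0, nat_lit 1, nat_lit 0, nat_lit 0, nat_lit 2, nat_lit 0, nat_lit 0, nat_lit 2, nat_lit 2] (nat_lit 81) 81 (by decide +kernel)

theorem rge2 (b : Base D τ s cls3d2 4089470473293004800) : GE s [[nat_lit 70], [nat_lit 72], [nat_lit 74], [nat_lit 76], [nat_lit 78], [nat_lit 80], [nat_lit 82], [nat_lit 84], [nat_lit 86], [nat_lit 88], [nat_lit 90], [nat_lit 92], [nat_lit 94]] 1594323 :=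
  GE.step b.x (rge1 b) _ [([nat_lit 74, nat_lit 83, nat_lit 44, nat_lit 53, nat_lit 33, nat_lit 55, nat_lit 41, nat_lit 6, nat_lit 43, nat_lit 44, nat_lit 53, nat_lit 45, nat_lit 50, nat_lit 8, nat_lit 55], [nat_lit 8, nat_lit 11, nat_lit 12]), ([nat_lit 76, nat_lit 75, nat_lit 36, nat_lit 28, nat_lit 47, nat_lit 53, nat_lit 34, nat_lit 8, nat_lit 42, nat_lit 54, nat_lit 12, nat_lit 44, nat_lit 50, nat_lit 54, nat_lit 20, nat_lit 18], [nat_lit 16, nat_lit 26, nat_lit 7, nat_lit 17])] (nat_lit 14225) [nat_lit 0, nat_lit 2, nat_lit 3, nat_lit 4, nat_lit 5, nat_lit 6, nat_lit 7, nat_lit 11, nat_lit 12, nat_lit 0, nat_lit 9, nat_lit 10, nat_lit 3, nat_lit 8, nat_lit 0, nat_lit 5, nat_lit 3, nat_lit 2] (nat_lit 19683) 1594323 (by decide +kernel)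

theorem cls3ge (b : Base D τ s cls3d2 4089470473293004800) : GE s cls3A (3 ^ cls3A.length) :=
  (rge2 b)

theorem cls3nr (b : Base D τ s cls3d2 4089470473293004800) : Nrm s cls3A cls3N :=
  Cx.nrm b.x _ _ [[[nat_lit 1, nat_lit 10, nat_lit 15, nat_lit 16, nat_lit 18, nat_lit 20, nat_lit 22], [nat_lit 1, nat_lit 8, nat_lit 10, nat_lit 12, nat_lit 14, nat_lit 17, nat_lit 21], [nat_lit 0, nat_lit 3, nat_lit 6, nat_lit 14, nat_lit 18], [nat_lit 1, nat_lit 5, nat_lit 11, nat_lit 15, nat_lit 16], [nat_lit 1, nat_lit 2, nat_lit 4, nat_lit 7, nat_lit 9, nat_lit 16], [nat_lit 0, nat_lit 7, nat_lit 8, nat_lit 10, nat_lit 12, nat_lit 14], [nat_lit 0, nat_lit 2, nat_lit 7, nat_lit 12], [nat_lit 1, nat_lit 5, nat_lit 6, nat_lit 10], [nat_lit 1, nat_lit 3, nat_lit 4, nat_lit 9], [nat_lit 0, nat_lit 2], [nat_lit 1], [nat_lit 1], [nat_lit 0]], [[nat_lit 1, nat_lit 3, nat_lit 13, nat_lit 15,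 nat_lit 17, nat_lit 19, nat_lit 20, nat_lit 23, nat_lit 24], [nat_lit 0, nat_lit 9, nat_lit 14, nat_lit 16, nat_lit 18, nat_lit 20], [nat_lit 0, nat_lit 2, nat_lit 7, nat_lit 13, nat_lit 15, nat_lit 19, nat_lit 21], [nat_lit 1, nat_lit 19], [nat_lit 0, nat_lit 8, nat_lit 13, nat_lit 14, nat_lit 16], [nat_lit 1, nat_lit 14], [nat_lit 0, nat_lit 7, nat_lit 9, nat_lit 12], [nat_lit 1], [nat_lit 1], [nat_lit 1, nat_lit 7], [nat_lit 1], [nat_lit 1, nat_lit 2], [nat_lit 0]], [[nat_lit 1, nat_lit 9, nat_lit 12, nat_lit 19, nat_lit 20, nat_lit 22, nat_lit 24], [nat_lit 1, nat_lit 7, nat_lit 9, nat_lit 10, nat_lit 13, nat_lit 16, nat_lit 20, nat_lit 23], [nat_lit 1, nat_lit 2, nat_lit 7, nat_lit 13, nat_lit 15, nat_lit 19, nat_lit 21], [nat_lit 0, nat_lit 4, nat_lit 10, nat_lit 13, nat_lit 15, nat_lit 17, nat_lit 19], [nat_lit 0, nat_lit 3, nat_lit 5, nat_lit 6, nat_lit 11, nat_lit 12,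 nat_lit 14], [nat_lit 1, nat_lit 12], [nat_lit 1, nat_lit 3, nat_lit 5, nat_lit 6, nat_lit 8, nat_lit 11, nat_lit 13], [nat_lit 0, nat_lit 3, nat_lit 4, nat_lit 8, nat_lit 11], [nat_lit 1, nat_lit 3, nat_lit 4, nat_lit 9], [nat_lit 0, nat_lit 2, nat_lit 4, nat_lit 7], [nat_lit 1, nat_lit 2], [nat_lit 0], [nat_lit 1]]] (by decide +kernel)

theorem cls3kh (b : Base D τ s cls3d2 4089470473293004800) : KH τ s ⊤ cls3d2 3 cls3A cls3R cls3N false (GoodR s cls3R) :=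
  KH.of b.x (cls3pc b) (by norm_num) (cls3ge b) (cls3nr b) _

theorem rk3 (b : Base D τ s cls3d2 4089470473293004800) : KK s 3 cls3A (GoodR s cls3R) (E s [nat_lit 86]) 9 :=
  KH.kk (cls3kh b) [] KKs.nil (KT.merge [nat_lit 0] [nat_lit 4] (KT.split (KT.cons (KT.merge [nat_lit 9] [nat_lit 1] (KT.merge [nat_lit 7] [] (KT.cj [nat_lit 32, nat_lit 48, nat_lit 27, nat_lit 46, nat_lit 45, nat_lit 2, nat_lit 40, nat_lit 38, nat_lit 8, nat_lit 42, nat_lit 55, nat_lit 47, nat_lit 53, nat_lit 48, nat_lit 54, nat_lit 18, nat_lit 12] (nat_lit 2)))) (KT.cons (KT.merge [nat_lit 4] [nat_lit 0] (KT.merge [nat_lit 11] [] (KT.cj [nat_lit 19, nat_lit 54, nat_lit 54, nat_lit 52, nat_lit 5, nat_lit 47, nat_lit 11, nat_lit 40, nat_lit 46, nat_lit 35, nat_lit 42, nat_lit 53, nat_lit 94, nat_lit 38, nat_lit 44, nat_lit 97] (nat_lit 1)))) (KT.cons (KT.merge [nat_lit 5] [nat_lit 0] (KT.merge [nat_lit 6]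 [] (KT.cj [nat_lit 6, nat_lit 22, nat_lit 73, nat_lit 58, nat_lit 39, nat_lit 48, nat_lit 30, nat_lit 40, nat_lit 34, nat_lit 47, nat_lit 42, nat_lit 55, nat_lit 53, nat_lit 16, nat_lit 54, nat_lit 54, nat_lit 18] (nat_lit 3)))) KT.nil))))) [nat_lit 16] _ _ (by decide +kernel)

theorem rk4 (b : Base D τ s cls3d2 4089470473293004800) : KK s 3 cls3A (GoodR s cls3R) (E s [nat_lit 84]) 8 :=
  KH.kk (cls3kh b) [] KKs.nil (KT.merge [nat_lit 4] [nat_lit 0, nat_lit 3, nat_lit 5, nat_lit 7] (KT.merge [nat_lit 8] [nat_lit 2, nat_lit 4] (KT.merge [nat_lit 13] [] (KT.split (KT.cons (KT.merge [nat_lit 10] [] (KT.cj [nat_lit 23, nat_lit 28, nat_lit 78, nat_lit 25, nat_lit 40, nat_lit 53, nat_lit 29, nat_lit 46, nat_lit 10, nat_lit 34, nat_lit 46, nat_lit 10, nat_lit 18, nat_lit 44, nat_lit 53, nat_lit 55, nat_lit 18, nat_lit 12] (nat_lit 2))) (KT.cons (KT.merge [nat_lit 10] [] (KT.cj [nat_lit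 33, nat_lit 27, nat_lit 69, nat_lit 28, nat_lit 94, nat_lit 30, nat_lit 52, nat_lit 43, nat_lit 35, nat_lit 43, nat_lit 45, nat_lit 10, nat_lit 47, nat_lit 44, nat_lit 0, nat_lit 53, nat_lit 54, nat_lit 20] (nat_lit 3))) (KT.cons (KT.merge [nat_lit 10] [] (KT.cj [nat_lit 27, nat_lit 83, nat_lit 32, nat_lit 26, nat_lit 34, nat_lit 8, nat_lit 80, nat_lit 40, nat_lit 35, nat_lit 52, nat_lit 41, nat_lit 44, nat_lit 12, nat_lit 44, nat_lit 18, nat_lit 50, nat_lit 12] (nat_lit 1))) KT.nil))))))) [nat_lit 14] _ _ (by decide +kernel)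

theorem rk5 (b : Base D τ s cls3d2 4089470473293004800) : KK s 3 cls3A (GoodR s cls3R) (E s [nat_lit 82]) 7 :=
  KH.kk (cls3kh b) [] KKs.nil (KT.merge [nat_lit 0] [nat_lit 1, nat_lit 3, nat_lit 5] (KT.merge [nat_lit 5] [nat_lit 0, nat_lit 3] (KT.merge [nat_lit 3] [nat_lit 1, nat_lit 3] (KT.merge [nat_lit 14] [] (KT.merge [nat_lit 16] [nat_lit 1] (KT.split (KT.cons (KT.cj [nat_lit 55, nat_lit 55, nat_lit 49, nat_lit 55, nat_lit 45, nat_lit 46, nat_lit 51, nat_lit 41, nat_lit 44, nat_lit 43, nat_lit 37, nat_lit 42, nat_lit 3, nat_lit 94, nat_lit 33, nat_lit 15, nat_lit 101, nat_lit 40] (nat_lit 2)) (KT.cons (KT.cj [nat_lit 83, nat_lit 22, nat_lit 66, nat_lit 29, nat_lit 80, nat_lit 40, nat_lit 35, nat_lit 6, nat_lit 55, nat_lit 43, nat_lit 45, nat_lit 47, nat_lit 50, nat_lit 54, nat_lit 18] (nat_lit 1)) (KT.cons (KT.cj [nat_lit 71, nat_lit 48, nat_lit 69, nat_lit 41, nat_lit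 2, nat_lit 41, nat_lit 41, nat_lit 6, nat_lit 44, nat_lit 46, nat_lit 10, nat_lit 18, nat_lit 16, nat_lit 44, nat_lit 50, nat_lit 54, nat_lit 12] (nat_lit 3)) KT.nil))))))))) [nat_lit 12] _ _ (by decide +kernel)

theorem rk6 (b : Base D τ s cls3d2 4089470473293004800) : KK s 3 cls3A (GoodR s cls3R) (E s [nat_lit 80, nat_lit 90, nat_lit 90]) 11 :=
  KH.kk (cls3kh b) [] KKs.nil (KT.split (KT.cons (KT.merge [nat_lit 7] [] (KT.cj [nat_lit 86, nat_lit 65, nat_lit 47, nat_lit 24, nat_lit 42, nat_lit 80, nat_lit 40, nat_lit 40, nat_lit 35, nat_lit 40, nat_lit 44, nat_lit 10, nat_lit 55, nat_lit 47, nat_lit 55, nat_lit 53, nat_lit 16] (nat_lit 0))) (KT.cons (KT.merge [nat_lit 7] [] (KT.cj [nat_lit 21, nat_lit 1, nat_lit 5, nat_lit 44, nat_lit 47, nat_lit 40, nat_lit 46, nat_lit 35, nat_lit 40, nat_lit 7, nat_lit 80, nat_lit 39, nat_lit 39, nat_lit 99, nat_lit 78] (nat_lit 3))) (KT.cons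 (KT.merge [nat_lit 7] [] (KT.cj [nat_lit 12, nat_lit 20, nat_lit 89, nat_lit 27, nat_lit 94, nat_lit 42, nat_lit 29, nat_lit 34, nat_lit 39, nat_lit 8, nat_lit 10, nat_lit 44, nat_lit 47, nat_lit 20, nat_lit 12] (nat_lit 3))) KT.nil)))) [nat_lit 10, nat_lit 20, nat_lit 20] _ _ (by decide +kernel)

theorem rk7 (b : Base D τ s cls3d2 4089470473293004800) : KK s 3 cls3A (GoodR s cls3R) (E s [nat_lit 80]) 7 :=
  KH.kk (cls3kh b) [([nat_lit 80, nat_lit 90, nat_lit 90], nat_lit 11)] (KKs.cons (rk6 b) KKs.nil) (KT.merge [nat_lit 3] [nat_lit 2, nat_lit 5, nat_lit 6, nat_lit 9] (KT.merge [nat_lit 8] [nat_lit 2, nat_lit 6] (KT.merge [nat_lit 5] [nat_lit 0, nat_lit 3] (KT.split (KT.cons (KT.merge [nat_lit 4, nat_lit 13] [] (KT.merge [nat_lit 15] [] (KT.cj [nat_lit 32, nat_lit 96, nat_lit 22, nat_lit 39, nat_lit 32, nat_lit 29, nat_lit 47, nat_lit 45, nat_lit 6, nat_lit 8, nat_lit 41, nat_lit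 10, nat_lit 52, nat_lit 47, nat_lit 52, nat_lit 50, nat_lit 54, nat_lit 12] (nat_lit 3)))) (KT.cons (KT.merge [nat_lit 5, nat_lit 12, nat_lit 16, nat_lit 19, nat_lit 20, nat_lit 23, nat_lit 25] [nat_lit 1] (KT.merge [nat_lit 6] [] (KT.cj [nat_lit 85, nat_lit 25, nat_lit 98, nat_lit 22, nat_lit 36, nat_lit 33, nat_lit 6, nat_lit 39, nat_lit 53, nat_lit 46, nat_lit 10, nat_lit 50, nat_lit 16, nat_lit 44, nat_lit 0, nat_lit 54, nat_lit 48] (nat_lit 3)))) (KT.cons (KT.into [] (nat_lit 0) []) KT.nil))))))) [nat_lit 10] _ _ (by decide +kernel)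

theorem rk8 (b : Base D τ s cls3d2 4089470473293004800) : KK s 3 cls3A (GoodR s cls3R) (E s [nat_lit 80, nat_lit 80]) 6 :=
  KH.kk (cls3kh b) [([nat_lit 80], nat_lit 7)] (KKs.cons (rk7 b) KKs.nil) (KT.split (KT.cons (KT.into [nat_lit 2] (nat_lit 0) [nat_lit 11]) (KT.cons (KT.merge [nat_lit 2] [nat_lit 3, nat_lit 7, nat_lit 9] (KT.merge [nat_lit 5] [nat_lit 1, nat_lit 2, nat_lit 4, nat_lit 6] (KT.merge [nat_lit 10] [nat_lit 0, nat_lit 2, nat_lit 5] (KT.merge [nat_lit 14] [nat_lit 3] (KT.merge [nat_lit 16] [] (KT.prune (nat_lit 12) (nat_lit 2) [])))))) (KT.cons (KT.merge [nat_lit 2] [nat_lit 8] (KT.merge [nat_lit 4] [nat_lit 4, nat_lit 6] (KT.merge [nat_lit 11] [nat_lit 0, nat_lit 2] (KT.merge [nat_lit 15] [nat_lit 2] (KT.merge [nat_lit 17] [nat_lit 0] (KT.prune (nat_lit 12) (nat_lit 1) [])))))) KT.nil)))) [nat_lit 10, nat_lit 10] _ _ (by decide +kernel)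

theorem rk9 (b : Base D τ s cls3d2 4089470473293004800) : KK s 3 cls3A (GoodR s cls3R) (E s [nat_lit 78]) 8 :=
  KH.kk (cls3kh b) [] KKs.nil (KT.merge [nat_lit 4] [nat_lit 1, nat_lit 2, nat_lit 7] (KT.merge [nat_lit 6] [nat_lit 2, nat_lit 4] (KT.split (KT.cons (KT.merge [nat_lit 16] [nat_lit 1] (KT.split (KT.cons (KT.cj [nat_lit 43, nat_lit 70, nat_lit 24, nat_lit 55, nat_lit 30, nat_lit 12, nat_lit 46, nat_lit 6, nat_lit 52, nat_lit 42, nat_lit 52, nat_lit 16, nat_lit 47, nat_lit 16, nat_lit 54, nat_lit 12] (nat_lit 0)) (KT.cons (KT.cj [nat_lit 96, nat_lit 75, nat_lit 26, nat_lit 34, nat_lit 39, nat_lit 81, nat_lit 38, nat_lit 47, nat_lit 35, nat_lit 46, nat_lit 40, nat_lit 53, nat_lit 47, nat_lit 18, nat_lit 50, nat_lit 20, nat_lit 12] (nat_lit 3)) (KT.cons (KT.cj [nat_lit 74, nat_lit 34, nat_lit 70, nat_lit 24, nat_lit 94, nat_lit 2, nat_lit 38, nat_lit 41, nat_lit 35, nat_lit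 42, nat_lit 45, nat_lit 40, nat_lit 53, nat_lit 45, nat_lit 0, nat_lit 16, nat_lit 18] (nat_lit 3)) KT.nil))))) (KT.cons (KT.merge [nat_lit 16] [nat_lit 1] (KT.merge [nat_lit 6, nat_lit 14, nat_lit 19] [] (KT.cj [nat_lit 54, nat_lit 51, nat_lit 53, nat_lit 1, nat_lit 46, nat_lit 52, nat_lit 55, nat_lit 42, nat_lit 40, nat_lit 7, nat_lit 35, nat_lit 55, nat_lit 3, nat_lit 81, nat_lit 7, nat_lit 65, nat_lit 77, nat_lit 33] (nat_lit 3)))) (KT.cons (KT.merge [nat_lit 16] [nat_lit 1] (KT.merge [nat_lit 7, nat_lit 15, nat_lit 18] [] (KT.cj [nat_lit 73, nat_lit 96, nat_lit 22, nat_lit 28, nat_lit 41, nat_lit 28, nat_lit 38, nat_lit 4, nat_lit 6, nat_lit 18, nat_lit 40, nat_lit 10, nat_lit 47, nat_lit 50, nat_lit 12, nat_lit 44, nat_lit 16, nat_lit 54, nat_lit 12] (nat_lit 3)))) KT.nil)))))) [nat_lit 8] _ _ (by decide +kernel)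

theorem rk10 (b : Base D τ s cls3d2 4089470473293004800) : KK s 3 cls3A (GoodR s cls3R) (E s []) 4 :=
  KH.kk (cls3kh b) [([nat_lit 86], nat_lit 9), ([nat_lit 84], nat_lit 8), ([nat_lit 82], nat_lit 7), ([nat_lit 80], nat_lit 7), ([nat_lit 80, nat_lit 80], nat_lit 6), ([nat_lit 78], nat_lit 8)] (KKs.cons (rk3 b) (KKs.cons (rk4 b) (KKs.cons (rk5 b) (KKs.cons (rk7 b) (KKs.cons (rk8 b) (KKs.cons (rk9 b) KKs.nil)))))) (KT.split (KT.cons (KT.split (KT.cons (KT.split (KT.cons (KT.split (KT.cons (KT.split (KT.cons (KT.split (KT.cons (KT.split (KT.cons (KT.split (KT.cons (KT.split (KT.cons (KT.cj [] (nat_lit 4)) (KT.cons (KT.cj [] (nat_lit 2)) (KT.cons (KT.cj [nat_lit 72, nat_lit 64, nat_lit 55, nat_lit 26, nat_lit 45, nat_lit 8, nat_lit 33, nat_lit 43, nat_lit 36, nat_lit 50, nat_lit 40, nat_lit 55, nat_lit 46, nat_lit 0, nat_lit 8, nat_lit 12] (nat_lit 2)) KT.nil)))) (KT.cons (KT.merge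 [nat_lit 0] [] (KT.cj [nat_lit 83, nat_lit 26, nat_lit 25, nat_lit 42, nat_lit 39, nat_lit 81, nat_lit 40, nat_lit 38, nat_lit 50, nat_lit 40, nat_lit 55, nat_lit 47, nat_lit 48, nat_lit 53, nat_lit 55, nat_lit 20] (nat_lit 2))) (KT.cons (KT.merge [nat_lit 1, nat_lit 15, nat_lit 18, nat_lit 23, nat_lit 25] [] (KT.cj [nat_lit 13, nat_lit 54, nat_lit 51, nat_lit 45, nat_lit 53, nat_lit 46, nat_lit 40, nat_lit 53, nat_lit 11, nat_lit 35, nat_lit 40, nat_lit 55, nat_lit 81, nat_lit 42, nat_lit 15, nat_lit 87, nat_lit 67] (nat_lit 2))) KT.nil)))) (KT.cons (KT.merge [nat_lit 4] [nat_lit 0] (KT.merge [nat_lit 6] [] (KT.cj [nat_lit 38, nat_lit 85, nat_lit 58, nat_lit 54, nat_lit 38, nat_lit 2, nat_lit 34, nat_lit 4, nat_lit 36, nat_lit 53, nat_lit 47, nat_lit 10, nat_lit 46, nat_lit 0, nat_lit 52] (nat_lit 2)))) (KT.cons (KT.merge [nat_lit 5] [nat_lit 0] (KT.merge [nat_lit 0] [] (KT.cj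 [nat_lit 14, nat_lit 100, nat_lit 25, nat_lit 45, nat_lit 46, nat_lit 28, nat_lit 34, nat_lit 36, nat_lit 45, nat_lit 8, nat_lit 10, nat_lit 44, nat_lit 44, nat_lit 44, nat_lit 0, nat_lit 8, nat_lit 54, nat_lit 18, nat_lit 12] (nat_lit 2)))) KT.nil)))) (KT.cons (KT.merge [nat_lit 3] [nat_lit 2] (KT.merge [nat_lit 4] [nat_lit 0] (KT.merge [nat_lit 11] [] (KT.cj [nat_lit 41, nat_lit 72, nat_lit 20, nat_lit 14, nat_lit 35, nat_lit 18, nat_lit 31, nat_lit 45, nat_lit 53, nat_lit 34, nat_lit 46, nat_lit 12, nat_lit 10, nat_lit 50, nat_lit 44, nat_lit 4, nat_lit 18] (nat_lit 0))))) (KT.cons (KT.merge [nat_lit 0] [nat_lit 2] (KT.merge [nat_lit 5] [nat_lit 0] (KT.merge [nat_lit 10] [] (KT.cj [nat_lit 19, nat_lit 44, nat_lit 46, nat_lit 41, nat_lit 54, nat_lit 40, nat_lit 7, nat_lit 34, nat_lit 43, nat_lit 31, nat_lit 51, nat_lit 37, nat_lit 60, nat_lit 73, nat_lit 31] (nat_lit 0)))))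 KT.nil)))) (KT.cons (KT.into [] (nat_lit 0) []) (KT.cons (KT.into [nat_lit 0] (nat_lit 0) [nat_lit 0, nat_lit 3, nat_lit 6]) KT.nil)))) (KT.cons (KT.into [] (nat_lit 1) []) (KT.cons (KT.into [nat_lit 0] (nat_lit 1) [nat_lit 2, nat_lit 5, nat_lit 9]) KT.nil)))) (KT.cons (KT.into [] (nat_lit 2) []) (KT.cons (KT.into [nat_lit 4] (nat_lit 2) [nat_lit 0, nat_lit 2, nat_lit 5, nat_lit 6, nat_lit 11]) KT.nil)))) (KT.cons (KT.split (KT.cons (KT.into [] (nat_lit 3) []) (KT.cons (KT.merge [nat_lit 3] [nat_lit 5, nat_lit 9] (KT.merge [nat_lit 0] [nat_lit 1, nat_lit 2, nat_lit 4] (KT.merge [nat_lit 10] [nat_lit 0, nat_lit 2, nat_lit 5] (KT.merge [nat_lit 14] [nat_lit 2] (KT.merge [nat_lit 16] [nat_lit 0] (KT.prune (nat_lit 12) (nat_lit 2) [])))))) (KT.cons (KT.merge [nat_lit 0] [nat_lit 0, nat_lit 2, nat_lit 7] (KT.merge [nat_lit 4] [nat_lit 1, nat_lit 2, nat_lit 7] (KT.merge [nat_lit 11]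 [nat_lit 0, nat_lit 2] (KT.merge [nat_lit 15] [nat_lit 3] (KT.merge [nat_lit 17] [] (KT.prune (nat_lit 12) (nat_lit 1) [])))))) KT.nil)))) (KT.cons (KT.into [] (nat_lit 4) []) KT.nil)))) (KT.cons (KT.merge [nat_lit 1, nat_lit 15, nat_lit 18, nat_lit 23, nat_lit 25] [nat_lit 0, nat_lit 5, nat_lit 7, nat_lit 9, nat_lit 10, nat_lit 12] (KT.merge [nat_lit 2] [nat_lit 3, nat_lit 5] (KT.split (KT.cons (KT.into [] (nat_lit 5) []) (KT.cons (KT.merge [nat_lit 5] [nat_lit 4, nat_lit 6] (KT.merge [nat_lit 6] [nat_lit 2, nat_lit 4] (KT.merge [nat_lit 13] [] (KT.prune (nat_lit 11) (nat_lit 1) [nat_lit 0])))) (KT.cons (KT.merge [nat_lit 11] [nat_lit 2, nat_lit 4] (KT.merge [nat_lit 5] [nat_lit 0, nat_lit 3] (KT.merge [nat_lit 12] [] (KT.prune (nat_lit 11) (nat_lit 2) [nat_lit 1])))) KT.nil)))))) (KT.cons (KT.merge [nat_lit 0] [nat_lit 0, nat_lit 2, nat_lit 5, nat_lit 7, nat_lit 13] (KT.merge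 [nat_lit 3] [nat_lit 3, nat_lit 5] (KT.split (KT.cons (KT.into [nat_lit 4, nat_lit 0] (nat_lit 5) [nat_lit 7, nat_lit 9]) (KT.cons (KT.merge [nat_lit 10] [nat_lit 2] (KT.merge [nat_lit 4] [nat_lit 0, nat_lit 3, nat_lit 5] (KT.merge [nat_lit 13] [] (KT.prune (nat_lit 11) (nat_lit 1) [nat_lit 0])))) (KT.cons (KT.merge [nat_lit 4] [nat_lit 4, nat_lit 6] (KT.merge [nat_lit 7] [nat_lit 3, nat_lit 5] (KT.merge [nat_lit 12] [] (KT.prune (nat_lit 11) (nat_lit 2) [nat_lit 1])))) KT.nil)))))) KT.nil)))) [] _ _ (by decide +kernel)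

theorem rk11 (b : Base D τ s cls3d2 4089470473293004800) : KK s 3 cls3A (GoodR s cls3R) (E s [nat_lit 76]) 8 :=
  KH.kk (cls3kh b) [] KKs.nil (KT.merge [nat_lit 12] [nat_lit 1, nat_lit 2, nat_lit 4, nat_lit 7] (KT.merge [nat_lit 5] [nat_lit 0, nat_lit 5] (KT.merge [nat_lit 4, nat_lit 9] [nat_lit 1, nat_lit 2] (KT.split (KT.cons (KT.merge [nat_lit 16] [] (KT.cj [nat_lit 13, nat_lit 54, nat_lit 17, nat_lit 5, nat_lit 44, nat_lit 41, nat_lit 44, nat_lit 42, nat_lit 7, nat_lit 49, nat_lit 34, nat_lit 28, nat_lit 5, nat_lit 80, nat_lit 78, nat_lit 21] (nat_lit 1))) (KT.cons (KT.merge [nat_lit 16] [] (KT.cj [nat_lit 78, nat_lit 56, nat_lit 39, nat_lit 74, nat_lit 2, nat_lit 39, nat_lit 31, nat_lit 35, nat_lit 38, nat_lit 41, nat_lit 45, nat_lit 54, nat_lit 44, nat_lit 12] (nat_lit 3))) (KT.cons (KT.merge [nat_lit 16] [] (KT.cj [nat_lit 19, nat_lit 21, nat_lit 54, nat_lit 9, nat_lit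 52, nat_lit 44, nat_lit 46, nat_lit 44, nat_lit 11, nat_lit 54, nat_lit 40, nat_lit 39, nat_lit 41, nat_lit 33, nat_lit 1, nat_lit 91] (nat_lit 3))) KT.nil))))))) [nat_lit 6] _ _ (by decide +kernel)

theorem rk12 (b : Base D τ s cls3d2 4089470473293004800) : KK s 3 cls3A (GoodR s cls3R) (E s [nat_lit 76, nat_lit 84, nat_lit 88, nat_lit 88]) 10 :=
  KH.kk (cls3kh b) [] KKs.nil (KT.merge [nat_lit 4, nat_lit 13] [nat_lit 1] (KT.split (KT.cons (KT.merge [nat_lit 11] [] (KT.cj [nat_lit 54, nat_lit 52, nat_lit 55, nat_lit 1, nat_lit 45, nat_lit 45, nat_lit 45, nat_lit 41, nat_lit 34, nat_lit 54, nat_lit 28, nat_lit 41, nat_lit 39, nat_lit 79, nat_lit 81] (nat_lit 1))) (KT.cons (KT.merge [nat_lit 11] [] (KT.cj [nat_lit 41, nat_lit 79, nat_lit 67, nat_lit 38, nat_lit 45, nat_lit 29, nat_lit 12, nat_lit 35, nat_lit 6, nat_lit 44, nat_lit 43, nat_lit 54, nat_lit 50, nat_lit 8, nat_lit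 20, nat_lit 18, nat_lit 12] (nat_lit 2))) (KT.cons (KT.merge [nat_lit 11] [] (KT.cj [nat_lit 66, nat_lit 81, nat_lit 22, nat_lit 24, nat_lit 29, nat_lit 54, nat_lit 33, nat_lit 47, nat_lit 6, nat_lit 42, nat_lit 45, nat_lit 10, nat_lit 46, nat_lit 53, nat_lit 16, nat_lit 54, nat_lit 18] (nat_lit 3))) KT.nil))))) [nat_lit 6, nat_lit 14, nat_lit 18, nat_lit 18] _ _ (by decide +kernel)

theorem rk13 (b : Base D τ s cls3d2 4089470473293004800) : KK s 3 cls3A (GoodR s cls3R) (E s [nat_lit 76, nat_lit 84]) 8 :=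
  KH.kk (cls3kh b) [([nat_lit 76, nat_lit 84, nat_lit 88, nat_lit 88], nat_lit 10)] (KKs.cons (rk12 b) KKs.nil) (KT.merge [nat_lit 4] [nat_lit 1, nat_lit 2, nat_lit 5] (KT.split (KT.cons (KT.merge [nat_lit 4, nat_lit 13] [nat_lit 0, nat_lit 2] (KT.merge [nat_lit 8] [nat_lit 1] (KT.merge [nat_lit 10] [] (KT.cj [nat_lit 19, nat_lit 55, nat_lit 53, nat_lit 45, nat_lit 45, nat_lit 51, nat_lit 40, nat_lit 43, nat_lit 35, nat_lit 38, nat_lit 3, nat_lit 33, nat_lit 81, nat_lit 26, nat_lit 39, nat_lit 83] (nat_lit 3))))) (KT.cons (KT.merge [nat_lit 4, nat_lit 13] [nat_lit 3] (KT.merge [nat_lit 9] [nat_lit 1] (KT.merge [nat_lit 17] [] (KT.cj [nat_lit 70, nat_lit 83, nat_lit 98, nat_lit 24, nat_lit 43, nat_lit 43, nat_lit 94, nat_lit 40, nat_lit 54, nat_lit 39, nat_lit 46, nat_lit 12, nat_lit 10, nat_lit 45, nat_lit 46, nat_lit 50, nat_lit 8, nat_lit 20, nat_lit 12] (nat_lit 3))))) (KT.cons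 (KT.into [] (nat_lit 0) []) KT.nil))))) [nat_lit 6, nat_lit 14] _ _ (by decide +kernel)

theorem rk14 (b : Base D τ s cls3d2 4089470473293004800) : KK s 3 cls3A (GoodR s cls3R) (E s [nat_lit 76, nat_lit 84, nat_lit 84]) 11 :=
  KH.kk (cls3kh b) [] KKs.nil (KT.split (KT.cons (KT.merge [nat_lit 11] [] (KT.cj [nat_lit 55, nat_lit 55, nat_lit 9, nat_lit 51, nat_lit 45, nat_lit 46, nat_lit 11, nat_lit 42, nat_lit 19, nat_lit 34, nat_lit 37, nat_lit 30, nat_lit 28, nat_lit 24, nat_lit 1, nat_lit 46] (nat_lit 2))) (KT.cons (KT.merge [nat_lit 11] [] (KT.cj [nat_lit 21, nat_lit 54, nat_lit 53, nat_lit 19, nat_lit 1, nat_lit 45, nat_lit 43, nat_lit 54, nat_lit 39, nat_lit 34, nat_lit 37, nat_lit 28, nat_lit 52, nat_lit 26, nat_lit 43, nat_lit 25] (nat_lit 0))) (KT.cons (KT.merge [nat_lit 11] [] (KT.cj [nat_lit 14, nat_lit 61, nat_lit 6, nat_lit 80, nat_lit 43, nat_lit 36, nat_lit 47,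 nat_lit 40, nat_lit 45, nat_lit 54, nat_lit 12, nat_lit 44, nat_lit 18, nat_lit 50, nat_lit 54, nat_lit 20] (nat_lit 1))) KT.nil)))) [nat_lit 6, nat_lit 14, nat_lit 14] _ _ (by decide +kernel)

theorem rk15 (b : Base D τ s cls3d2 4089470473293004800) : KK s 3 cls3A (GoodR s cls3R) (E s [nat_lit 76, nat_lit 84, nat_lit 84]) 8 :=
  KH.kk (cls3kh b) [([nat_lit 76, nat_lit 84, nat_lit 84], nat_lit 11)] (KKs.cons (rk14 b) KKs.nil) (KT.merge [nat_lit 5] [nat_lit 5] (KT.merge [nat_lit 8] [] (KT.split (KT.cons (KT.into [] (nat_lit 0) []) (KT.cons (KT.merge [nat_lit 4, nat_lit 9, nat_lit 12] [] (KT.merge [nat_lit 6] [] (KT.cj [nat_lit 19, nat_lit 54, nat_lit 49, nat_lit 45, nat_lit 13, nat_lit 45, nat_lit 11, nat_lit 35, nat_lit 7, nat_lit 33, nat_lit 29, nat_lit 43, nat_lit 24, nat_lit 72, nat_lit 11] (nat_lit 3)))) (KT.cons (KT.merge [nat_lit 5, nat_lit 8, nat_lit 13, nat_lit 16, nat_lit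 22] [nat_lit 1] (KT.merge [nat_lit 7] [] (KT.cj [nat_lit 23, nat_lit 45, nat_lit 24, nat_lit 54, nat_lit 38, nat_lit 29, nat_lit 52, nat_lit 38, nat_lit 6, nat_lit 54, nat_lit 10, nat_lit 50, nat_lit 45, nat_lit 0, nat_lit 16, nat_lit 54, nat_lit 54] (nat_lit 3)))) KT.nil)))))) [nat_lit 6, nat_lit 14, nat_lit 14] _ _ (by decide +kernel)

theorem rk16 (b : Base D τ s cls3d2 4089470473293004800) : KK s 3 cls3A (GoodR s cls3R) (E s [nat_lit 76, nat_lit 78]) 5 :=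
  KH.kk (cls3kh b) [] KKs.nil (KT.merge [nat_lit 0] [nat_lit 1, nat_lit 3, nat_lit 4, nat_lit 7, nat_lit 9, nat_lit 12] (KT.merge [nat_lit 1, nat_lit 3, nat_lit 11, nat_lit 16, nat_lit 19, nat_lit 24] [nat_lit 0, nat_lit 2, nat_lit 5, nat_lit 6, nat_lit 8] (KT.split (KT.cons (KT.merge [nat_lit 4] [nat_lit 4, nat_lit 6] (KT.merge [nat_lit 6] [nat_lit 2, nat_lit 4] (KT.merge [nat_lit 4, nat_lit 13, nat_lit 15] [] (KT.prune (nat_lit 11) (nat_lit 2) [nat_lit 1])))) (KT.cons (KT.merge [nat_lit 5] [nat_lit 1, nat_lit 2, nat_lit 7] (KT.merge [nat_lit 6] [nat_lit 2, nat_lit 4] (KT.merge [nat_lit 5, nat_lit 13, nat_lit 17, nat_lit 18, nat_lit 21, nat_lit 22, nat_lit 24] [nat_lit 1, nat_lit 3] (KT.merge [nat_lit 16] [] (KT.merge [nat_lit 21] [] (KT.cj [nat_lit 77, nat_lit 60, nat_lit 23, nat_lit 58, nat_lit 38, nat_lit 38, nat_lit 29, nat_lit 36, nat_lit 39, nat_lit 42, nat_lit 10, nat_lit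 44, nat_lit 44, nat_lit 16, nat_lit 53, nat_lit 55] (nat_lit 3))))))) (KT.cons (KT.merge [nat_lit 11] [nat_lit 2, nat_lit 4] (KT.merge [nat_lit 4] [nat_lit 0, nat_lit 3, nat_lit 5] (KT.merge [nat_lit 10, nat_lit 12, nat_lit 14] [nat_lit 2] (KT.prune (nat_lit 11) (nat_lit 1) [nat_lit 0])))) KT.nil)))))) [nat_lit 6, nat_lit 8] _ _ (by decide +kernel)

theorem rk17 (b : Base D τ s cls3d2 4089470473293004800) : KK s 3 cls3A (GoodR s cls3R) (E s [nat_lit 76]) 4 :=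
  KH.kk (cls3kh b) [([nat_lit 76], nat_lit 8), ([nat_lit 76, nat_lit 84], nat_lit 8), ([nat_lit 76, nat_lit 84, nat_lit 84], nat_lit 8), ([nat_lit 76, nat_lit 78], nat_lit 5)] (KKs.cons (rk11 b) (KKs.cons (rk13 b) (KKs.cons (rk15 b) (KKs.cons (rk16 b) KKs.nil)))) (KT.split (KT.cons (KT.merge [nat_lit 3] [nat_lit 2, nat_lit 4, nat_lit 9, nat_lit 12] (KT.split (KT.cons (KT.split (KT.cons (KT.into [] (nat_lit 0) []) (KT.cons (KT.into [] (nat_lit 1) []) (KT.cons (KT.into [] (nat_lit 2) []) KT.nil)))) (KT.cons (KT.merge [nat_lit 0, nat_lit 3] [nat_lit 0, nat_lit 4, nat_lit 6, nat_lit 8] (KT.merge [nat_lit 5] [nat_lit 7] (KT.merge [nat_lit 9] [nat_lit 2, nat_lit 4] (KT.merge [nat_lit 14] [] (KT.prune (nat_lit 11) (nat_lit 2) [nat_lit 0]))))) (KT.cons (KT.merge [nat_lit 1, nat_lit 2, nat_lit 10, nat_lit 14, nat_lit 17, nat_lit 22] [nat_lit 3, nat_lit 5, nat_lit 6] (KT.merge [nat_lit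 4] [nat_lit 1, nat_lit 2, nat_lit 5] (KT.merge [nat_lit 9] [nat_lit 2, nat_lit 4] (KT.merge [nat_lit 15] [] (KT.prune (nat_lit 11) (nat_lit 2) []))))) KT.nil))))) (KT.cons (KT.into [] (nat_lit 3) []) (KT.cons (KT.into [nat_lit 2, nat_lit 0] (nat_lit 3) [nat_lit 1, nat_lit 3, nat_lit 5, nat_lit 9, nat_lit 11, nat_lit 12, nat_lit 15]) KT.nil)))) [nat_lit 6] _ _ (by decide +kernel)

theorem rk18 (b : Base D τ s cls3d2 4089470473293004800) : KK s 3 cls3A (GoodR s cls3R) (E s [nat_lit 74]) 8 :=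
  KH.kk (cls3kh b) [] KKs.nil (KT.merge [nat_lit 9] [nat_lit 1, nat_lit 2, nat_lit 7] (KT.merge [nat_lit 6] [nat_lit 0, nat_lit 4] (KT.split (KT.cons (KT.merge [nat_lit 19] [nat_lit 0] (KT.split (KT.cons (KT.cj [nat_lit 5, nat_lit 88, nat_lit 24, nat_lit 29, nat_lit 35, nat_lit 28, nat_lit 48, nat_lit 39, nat_lit 44, nat_lit 42, nat_lit 52, nat_lit 45, nat_lit 50, nat_lit 18, nat_lit 16, nat_lit 55] (nat_lit 2)) (KT.cons (KT.cj [nat_lit 79, nat_lit 67, nat_lit 25, nat_lit 22, nat_lit 52, nat_lit 43, nat_lit 2, nat_lit 36, nat_lit 43, nat_lit 34, nat_lit 46, nat_lit 40, nat_lit 46, nat_lit 16, nat_lit 12] (nat_lit 1)) (KT.cons (KT.cj [nat_lit 101, nat_lit 96, nat_lit 25, nat_lit 14, nat_lit 41, nat_lit 32, nat_lit 35, nat_lit 38, nat_lit 18, nat_lit 42, nat_lit 52, nat_lit 50, nat_lit 44, nat_lit 52, nat_lit 50, nat_lit 55, nat_lit 55] (nat_lit 0)) KT.nil))))) (KT.cons (KT.merge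 [nat_lit 4] [nat_lit 0] (KT.merge [nat_lit 6, nat_lit 11, nat_lit 21] [] (KT.cj [nat_lit 65, nat_lit 26, nat_lit 68, nat_lit 14, nat_lit 44, nat_lit 53, nat_lit 29, nat_lit 18, nat_lit 40, nat_lit 35, nat_lit 41, nat_lit 47, nat_lit 41, nat_lit 55, nat_lit 46, nat_lit 53, nat_lit 16] (nat_lit 3)))) (KT.cons (KT.merge [nat_lit 5] [nat_lit 0] (KT.merge [nat_lit 7, nat_lit 10, nat_lit 20, nat_lit 25] [] (KT.cj [nat_lit 0, nat_lit 24, nat_lit 34, nat_lit 14, nat_lit 36, nat_lit 18, nat_lit 29, nat_lit 10, nat_lit 43, nat_lit 34, nat_lit 43, nat_lit 10, nat_lit 16, nat_lit 47, nat_lit 0, nat_lit 20] (nat_lit 3)))) KT.nil)))))) [nat_lit 4] _ _ (by decide +kernel)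

theorem rk19 (b : Base D τ s cls3d2 4089470473293004800) : KK s 3 cls3A (GoodR s cls3R) (E s [nat_lit 74, nat_lit 82, nat_lit 84]) 8 :=
  KH.kk (cls3kh b) [] KKs.nil (KT.merge [nat_lit 7] [nat_lit 5, nat_lit 7] (KT.merge [nat_lit 11] [nat_lit 0, nat_lit 4] (KT.merge [nat_lit 7, nat_lit 10, nat_lit 14] [nat_lit 1] (KT.merge [nat_lit 4] [nat_lit 0] (KT.split (KT.cons (KT.cj [nat_lit 50, nat_lit 68, nat_lit 77, nat_lit 23, nat_lit 10, nat_lit 41, nat_lit 28, nat_lit 18, nat_lit 39, nat_lit 40, nat_lit 54, nat_lit 41, nat_lit 52, nat_lit 18, nat_lit 44, nat_lit 52, nat_lit 12] (nat_lit 1)) (KT.cons (KT.cj [nat_lit 21, nat_lit 54, nat_lit 9, nat_lit 52, nat_lit 45, nat_lit 19, nat_lit 11, nat_lit 9, nat_lit 41, nat_lit 35, nat_lit 11, nat_lit 38, nat_lit 95, nat_lit 37, nat_lit 54, nat_lit 59, nat_lit 70, nat_lit 32] (nat_lit 3)) (KT.cons (KT.cj [nat_lit 38, nat_lit 71, nat_lit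 24, nat_lit 50, nat_lit 32, nat_lit 0, nat_lit 2, nat_lit 54, nat_lit 44, nat_lit 6, nat_lit 10, nat_lit 41, nat_lit 41, nat_lit 16, nat_lit 18, nat_lit 47, nat_lit 18, nat_lit 52, nat_lit 55] (nat_lit 3)) KT.nil)))))))) [nat_lit 4, nat_lit 12, nat_lit 14] _ _ (by decide +kernel)

theorem rk20 (b : Base D τ s cls3d2 4089470473293004800) : KK s 3 cls3A (GoodR s cls3R) (E s [nat_lit 74, nat_lit 82, nat_lit 82, nat_lit 84, nat_lit 84, nat_lit 88]) 10 :=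
  KH.kk (cls3kh b) [] KKs.nil (KT.merge [nat_lit 7, nat_lit 15] [nat_lit 3] (KT.merge [nat_lit 4] [nat_lit 0] (KT.split (KT.cons (KT.cj [nat_lit 101, nat_lit 88, nat_lit 35, nat_lit 64, nat_lit 33, nat_lit 47, nat_lit 30, nat_lit 44, nat_lit 4, nat_lit 6, nat_lit 10, nat_lit 44, nat_lit 47, nat_lit 53, nat_lit 12] (nat_lit 1)) (KT.cons (KT.cj [nat_lit 55, nat_lit 55, nat_lit 53, nat_lit 54, nat_lit 44, nat_lit 44, nat_lit 11, nat_lit 13, nat_lit 47, nat_lit 37, nat_lit 38, nat_lit 53, nat_lit 3, nat_lit 32, nat_lit 32, nat_lit 73, nat_lit 21] (nat_lit 3)) (KT.cons (KT.cj [nat_lit 0, nat_lit 23, nat_lit 46, nat_lit 65, nat_lit 18, nat_lit 0, nat_lit 33, nat_lit 35, nat_lit 42, nat_lit 6, nat_lit 52, nat_lit 41, nat_lit 52, nat_lit 47, nat_lit 4, nat_lit 54, nat_lit 54, nat_lit 18] (nat_lit 2)) KT.nil)))))) [nat_lit 4, nat_lit 12, nat_lit 12, nat_lit 14, nat_lit 14, nat_lit 18]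 _ _ (by decide +kernel)

theorem rk21 (b : Base D τ s cls3d2 4089470473293004800) : KK s 3 cls3A (GoodR s cls3R) (E s [nat_lit 74, nat_lit 82, nat_lit 82, nat_lit 84, nat_lit 84]) 8 :=
  KH.kk (cls3kh b) [([nat_lit 74, nat_lit 82, nat_lit 82, nat_lit 84, nat_lit 84, nat_lit 88], nat_lit 10)] (KKs.cons (rk20 b) KKs.nil) (KT.merge [nat_lit 6] [nat_lit 0, nat_lit 3, nat_lit 4] (KT.split (KT.cons (KT.merge [nat_lit 7, nat_lit 15] [nat_lit 3] (KT.merge [nat_lit 11] [nat_lit 1] (KT.merge [nat_lit 10, nat_lit 21] [] (KT.cj [nat_lit 53, nat_lit 80, nat_lit 65, nat_lit 39, nat_lit 94, nat_lit 31, nat_lit 54, nat_lit 53, nat_lit 6, nat_lit 45, nat_lit 54, nat_lit 10, nat_lit 16, nat_lit 12, nat_lit 44, nat_lit 0, nat_lit 50, nat_lit 16, nat_lit 55] (nat_lit 3))))) (KT.cons (KT.into [] (nat_lit 0) []) (KT.cons (KT.merge [nat_lit 7, nat_lit 15] [nat_lit 3] (KT.merge [nat_lit 5] [nat_lit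 0] (KT.merge [nat_lit 11, nat_lit 20] [] (KT.cj [nat_lit 46, nat_lit 46, nat_lit 100, nat_lit 59, nat_lit 41, nat_lit 43, nat_lit 29, nat_lit 54, nat_lit 34, nat_lit 36, nat_lit 16, nat_lit 47, nat_lit 10, nat_lit 53, nat_lit 44, nat_lit 50] (nat_lit 3))))) KT.nil))))) [nat_lit 4, nat_lit 12, nat_lit 12, nat_lit 14, nat_lit 14] _ _ (by decide +kernel)

theorem rk22 (b : Base D τ s cls3d2 4089470473293004800) : KK s 3 cls3A (GoodR s cls3R) (E s [nat_lit 74]) 6 :=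
  KH.kk (cls3kh b) [([nat_lit 74], nat_lit 8), ([nat_lit 74, nat_lit 82, nat_lit 84], nat_lit 8), ([nat_lit 74, nat_lit 82, nat_lit 82, nat_lit 84, nat_lit 84], nat_lit 8)] (KKs.cons (rk18 b) (KKs.cons (rk19 b) (KKs.cons (rk21 b) KKs.nil))) (KT.split (KT.cons (KT.split (KT.cons (KT.into [] (nat_lit 0) []) (KT.cons (KT.merge [nat_lit 4] [nat_lit 0, nat_lit 3, nat_lit 5, nat_lit 7] (KT.merge [nat_lit 6] [nat_lit 0, nat_lit 4] (KT.merge [nat_lit 13, nat_lit 15, nat_lit 21] [nat_lit 1, nat_lit 2] (KT.merge [nat_lit 19] [nat_lit 0] (KT.prune (nat_lit 12) (nat_lit 1) []))))) (KT.cons (KT.merge [nat_lit 5] [nat_lit 0, nat_lit 3, nat_lit 5, nat_lit 6] (KT.merge [nat_lit 6] [nat_lit 0, nat_lit 4] (KT.merge [nat_lit 12, nat_lit 14] [nat_lit 0, nat_lit 3] (KT.merge [nat_lit 19] [nat_lit 0] (KT.prune (nat_lit 12) (nat_lit 1) []))))) KT.nil)))) (KT.cons (KT.split (KT.cons (KT.merge [nat_lit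 5] [nat_lit 0, nat_lit 3] (KT.merge [nat_lit 11] [nat_lit 0] (KT.merge [nat_lit 12, nat_lit 14] [nat_lit 0, nat_lit 3] (KT.prune (nat_lit 11) (nat_lit 2) [nat_lit 1])))) (KT.cons (KT.into [] (nat_lit 1) []) (KT.cons (KT.merge [nat_lit 4] [nat_lit 0, nat_lit 3, nat_lit 4] (KT.merge [nat_lit 11] [nat_lit 0, nat_lit 5] (KT.merge [nat_lit 4, nat_lit 14] [nat_lit 1, nat_lit 2] (KT.prune (nat_lit 11) (nat_lit 1) [])))) KT.nil)))) (KT.cons (KT.split (KT.cons (KT.merge [nat_lit 4] [nat_lit 0, nat_lit 3, nat_lit 5, nat_lit 7] (KT.merge [nat_lit 8, nat_lit 15] [nat_lit 4] (KT.merge [nat_lit 7, nat_lit 15] [nat_lit 3] (KT.prune (nat_lit 11) (nat_lit 2) [nat_lit 1])))) (KT.cons (KT.merge [nat_lit 5] [nat_lit 0, nat_lit 3, nat_lit 5, nat_lit 6] (KT.merge [nat_lit 9, nat_lit 14, nat_lit 19] [nat_lit 2] (KT.merge [nat_lit 4, nat_lit 15] [] (KT.prune (nat_lit 11) (nat_lit 1) [])))) (KT.cons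 (KT.into [] (nat_lit 2) []) KT.nil)))) KT.nil)))) [nat_lit 4] _ _ (by decide +kernel)

theorem rk23 (b : Base D τ s cls3d2 4089470473293004800) : KK s 3 cls3A (GoodR s cls3R) (E s [nat_lit 74, nat_lit 80]) 7 :=
  KH.kk (cls3kh b) [] KKs.nil (KT.split (KT.cons (KT.merge [nat_lit 12] [nat_lit 1, nat_lit 2, nat_lit 4, nat_lit 7] (KT.merge [nat_lit 5] [nat_lit 0, nat_lit 3] (KT.merge [nat_lit 9, nat_lit 12, nat_lit 14, nat_lit 19] [nat_lit 1, nat_lit 3] (KT.merge [nat_lit 19] [nat_lit 1] (KT.prune (nat_lit 12) (nat_lit 2) []))))) (KT.cons (KT.merge [nat_lit 4] [nat_lit 1, nat_lit 2, nat_lit 7] (KT.merge [nat_lit 6] [nat_lit 0, nat_lit 5] (KT.merge [nat_lit 4, nat_lit 13] [nat_lit 1] (KT.merge [nat_lit 9] [nat_lit 1] (KT.merge [nat_lit 17] [] (KT.cj [nat_lit 13, nat_lit 21, nat_lit 51, nat_lit 19, nat_lit 5, nat_lit 44, nat_lit 11, nat_lit 41, nat_lit 53, nat_lit 37, nat_lit 43,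 nat_lit 3, nat_lit 43, nat_lit 11, nat_lit 22, nat_lit 89, nat_lit 26] (nat_lit 3))))))) (KT.cons (KT.merge [nat_lit 5] [nat_lit 4, nat_lit 6] (KT.merge [nat_lit 6] [nat_lit 0, nat_lit 5] (KT.merge [nat_lit 6, nat_lit 12, nat_lit 14] [nat_lit 2] (KT.merge [nat_lit 19] [nat_lit 1] (KT.merge [nat_lit 18, nat_lit 21] [] (KT.cj [nat_lit 95, nat_lit 35, nat_lit 22, nat_lit 6, nat_lit 33, nat_lit 30, nat_lit 2, nat_lit 10, nat_lit 42, nat_lit 45, nat_lit 50, nat_lit 44, nat_lit 18, nat_lit 50, nat_lit 55, nat_lit 55, nat_lit 18] (nat_lit 3))))))) KT.nil)))) [nat_lit 4, nat_lit 10] _ _ (by decide +kernel)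

theorem rk24 (b : Base D τ s cls3d2 4089470473293004800) : KK s 3 cls3A (GoodR s cls3R) (E s [nat_lit 74, nat_lit 80, nat_lit 82]) 7 :=
  KH.kk (cls3kh b) [] KKs.nil (KT.split (KT.cons (KT.merge [nat_lit 5] [nat_lit 5] (KT.merge [nat_lit 9] [nat_lit 3, nat_lit 5] (KT.merge [nat_lit 4, nat_lit 13, nat_lit 14, nat_lit 20] [nat_lit 1, nat_lit 2] (KT.prune (nat_lit 11) (nat_lit 2) [])))) (KT.cons (KT.merge [nat_lit 7] [nat_lit 5, nat_lit 6] (KT.merge [nat_lit 5] [nat_lit 0, nat_lit 5] (KT.merge [nat_lit 7, nat_lit 12, nat_lit 15, nat_lit 16, nat_lit 18, nat_lit 21, nat_lit 24] [nat_lit 1, nat_lit 2] (KT.merge [nat_lit 9] [nat_lit 1] (KT.prune (nat_lit 12) (nat_lit 1) []))))) (KT.cons (KT.merge [nat_lit 4] [nat_lit 1, nat_lit 2, nat_lit 5] (KT.merge [nat_lit 8] [nat_lit 3, nat_lit 5] (KT.merge [nat_lit 10, nat_lit 13, nat_lit 15, nat_lit 21] [nat_lit 3] (KT.prune (nat_lit 11) (nat_lit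 1) [nat_lit 0])))) KT.nil)))) [nat_lit 4, nat_lit 10, nat_lit 12] _ _ (by decide +kernel)

theorem rk25 (b : Base D τ s cls3d2 4089470473293004800) : KK s 3 cls3A (GoodR s cls3R) (E s [nat_lit 74, nat_lit 80, nat_lit 82, nat_lit 82]) 7 :=
  KH.kk (cls3kh b) [] KKs.nil (KT.split (KT.cons (KT.merge [nat_lit 4] [nat_lit 1, nat_lit 2, nat_lit 7] (KT.merge [nat_lit 9] [nat_lit 3, nat_lit 5] (KT.merge [nat_lit 7, nat_lit 15] [] (KT.prune (nat_lit 11) (nat_lit 2) [nat_lit 1])))) (KT.cons (KT.merge [nat_lit 5] [nat_lit 4, nat_lit 6] (KT.merge [nat_lit 13, nat_lit 15, nat_lit 21] [nat_lit 1] (KT.merge [nat_lit 7, nat_lit 15] [] (KT.prune (nat_lit 11) (nat_lit 1) [])))) (KT.cons (KT.merge [nat_lit 6] [nat_lit 0, nat_lit 3, nat_lit 4, nat_lit 6] (KT.merge [nat_lit 5] [nat_lit 0, nat_lit 3] (KT.merge [nat_lit 7, nat_lit 15] [] (KT.merge [nat_lit 11] [nat_lit 0] (KT.merge [nat_lit 16, nat_lit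 21] [] (KT.cj [nat_lit 13, nat_lit 54, nat_lit 9, nat_lit 51, nat_lit 55, nat_lit 46, nat_lit 17, nat_lit 47, nat_lit 41, nat_lit 52, nat_lit 7, nat_lit 40, nat_lit 3, nat_lit 5, nat_lit 28, nat_lit 25, nat_lit 101, nat_lit 25] (nat_lit 3))))))) KT.nil)))) [nat_lit 4, nat_lit 10, nat_lit 12, nat_lit 12] _ _ (by decide +kernel)

theorem rk26 (b : Base D τ s cls3d2 4089470473293004800) : KK s 3 cls3A (GoodR s cls3R) (E s [nat_lit 74, nat_lit 80, nat_lit 80]) 7 :=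
  KH.kk (cls3kh b) [] KKs.nil (KT.split (KT.cons (KT.merge [nat_lit 8] [nat_lit 0, nat_lit 2] (KT.merge [nat_lit 4] [nat_lit 0, nat_lit 3, nat_lit 5] (KT.merge [nat_lit 8, nat_lit 14] [] (KT.merge [nat_lit 19] [] (KT.prune (nat_lit 12) (nat_lit 2) []))))) (KT.cons (KT.merge [nat_lit 4] [nat_lit 4, nat_lit 6] (KT.merge [nat_lit 6] [nat_lit 0] (KT.merge [nat_lit 4, nat_lit 13] [nat_lit 0] (KT.merge [nat_lit 19] [] (KT.merge [nat_lit 19, nat_lit 20] [] (KT.cj [nat_lit 52, nat_lit 17, nat_lit 45, nat_lit 19, nat_lit 46, nat_lit 41, nat_lit 43, nat_lit 44, nat_lit 39, nat_lit 40, nat_lit 17, nat_lit 33, nat_lit 44, nat_lit 55, nat_lit 27, nat_lit 64, nat_lit 38] (nat_lit 3))))))) (KT.cons (KT.merge [nat_lit 5] [nat_lit 1, nat_lit 2, nat_lit 7] (KT.merge [nat_lit 6] [nat_lit 0] (KT.merge [nat_lit 8, nat_lit 12, nat_lit 15, nat_lit 21] [nat_lit 1] (KT.merge [nat_lit 19] [] (KT.merge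 [nat_lit 16] [] (KT.cj [nat_lit 64, nat_lit 76, nat_lit 72, nat_lit 56, nat_lit 95, nat_lit 47, nat_lit 28, nat_lit 47, nat_lit 34, nat_lit 40, nat_lit 10, nat_lit 46, nat_lit 45, nat_lit 45, nat_lit 50, nat_lit 55] (nat_lit 3))))))) KT.nil)))) [nat_lit 4, nat_lit 10, nat_lit 10] _ _ (by decide +kernel)

theorem rk27 (b : Base D τ s cls3d2 4089470473293004800) : KK s 3 cls3A (GoodR s cls3R) (E s [nat_lit 74, nat_lit 80, nat_lit 80, nat_lit 82]) 7 :=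
  KH.kk (cls3kh b) [] KKs.nil (KT.split (KT.cons (KT.merge [nat_lit 5] [nat_lit 1, nat_lit 2, nat_lit 4, nat_lit 6] (KT.merge [nat_lit 11] [nat_lit 0, nat_lit 4] (KT.merge [nat_lit 9, nat_lit 15, nat_lit 18] [] (KT.prune (nat_lit 11) (nat_lit 2) [])))) (KT.cons (KT.merge [nat_lit 7] [nat_lit 5] (KT.merge [nat_lit 4] [nat_lit 0, nat_lit 2] (KT.merge [nat_lit 7, nat_lit 13, nat_lit 17, nat_lit 19, nat_lit 25] [nat_lit 2] (KT.merge [nat_lit 16] [nat_lit 1] (KT.prune (nat_lit 12) (nat_lit 1) []))))) (KT.cons (KT.merge [nat_lit 4] [nat_lit 7] (KT.merge [nat_lit 11] [nat_lit 0] (KT.merge [nat_lit 6, nat_lit 12, nat_lit 20] [] (KT.prune (nat_lit 11) (nat_lit 1) [nat_lit 0])))) KT.nil)))) [nat_lit 4, nat_lit 10, nat_lit 10, nat_lit 12] _ _ (by decide +kernel)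

theorem rk28 (b : Base D τ s cls3d2 4089470473293004800) : KK s 3 cls3A (GoodR s cls3R) (E s [nat_lit 74, nat_lit 80, nat_lit 80, nat_lit 82, nat_lit 82]) 7 :=
  KH.kk (cls3kh b) [] KKs.nil (KT.split (KT.cons (KT.merge [nat_lit 4] [nat_lit 4, nat_lit 6] (KT.merge [nat_lit 4, nat_lit 14] [nat_lit 1, nat_lit 3, nat_lit 4] (KT.merge [nat_lit 7, nat_lit 15] [nat_lit 2] (KT.prune (nat_lit 11) (nat_lit 2) [nat_lit 1])))) (KT.cons (KT.merge [nat_lit 5] [nat_lit 1, nat_lit 2, nat_lit 7] (KT.merge [nat_lit 4, nat_lit 15] [nat_lit 3] (KT.merge [nat_lit 7, nat_lit 15] [nat_lit 2] (KT.prune (nat_lit 11) (nat_lit 1) [])))) (KT.cons (KT.merge [nat_lit 6] [nat_lit 0, nat_lit 3, nat_lit 4, nat_lit 7] (KT.merge [nat_lit 4] [nat_lit 0, nat_lit 3, nat_lit 5] (KT.merge [nat_lit 7, nat_lit 15] [nat_lit 2] (KT.merge [nat_lit 11] [] (KT.merge [nat_lit 11, nat_lit 20] [] (KT.cj [nat_lit 92, nat_lit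 50, nat_lit 8, nat_lit 24, nat_lit 80, nat_lit 40, nat_lit 2, nat_lit 45, nat_lit 35, nat_lit 6, nat_lit 55, nat_lit 41, nat_lit 55, nat_lit 47, nat_lit 18, nat_lit 16] (nat_lit 3))))))) KT.nil)))) [nat_lit 4, nat_lit 10, nat_lit 10, nat_lit 12, nat_lit 12] _ _ (by decide +kernel)

theorem rk29 (b : Base D τ s cls3d2 4089470473293004800) : KK s 3 cls3A (GoodR s cls3R) (E s [nat_lit 74, nat_lit 74]) 3 :=
  KH.kk (cls3kh b) [([nat_lit 74], nat_lit 6), ([nat_lit 74, nat_lit 80], nat_lit 7), ([nat_lit 74, nat_lit 80, nat_lit 82], nat_lit 7), ([nat_lit 74, nat_lit 80, nat_lit 82, nat_lit 82], nat_lit 7), ([nat_lit 74, nat_lit 80, nat_lit 80], nat_lit 7), ([nat_lit 74, nat_lit 80, nat_lit 80, nat_lit 82], nat_lit 7), ([nat_lit 74, nat_lit 80, nat_lit 80, nat_lit 82, nat_lit 82], nat_lit 7)] (KKs.cons (rk22 b) (KKs.cons (rk23 b) (KKs.cons (rk24 b) (KKs.cons (rk25 b) (KKs.cons (rk26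 b) (KKs.cons (rk27 b) (KKs.cons (rk28 b) KKs.nil))))))) (KT.merge [nat_lit 1, nat_lit 15, nat_lit 18, nat_lit 23, nat_lit 25] [nat_lit 1, nat_lit 7, nat_lit 8, nat_lit 13] (KT.merge [nat_lit 3] [nat_lit 0, nat_lit 4, nat_lit 8, nat_lit 11, nat_lit 12] (KT.split (KT.cons (KT.into [nat_lit 4, nat_lit 0] (nat_lit 0) [nat_lit 5, nat_lit 7, nat_lit 8, nat_lit 13]) (KT.cons (KT.split (KT.cons (KT.into [nat_lit 4, nat_lit 0] (nat_lit 4) [nat_lit 4, nat_lit 8, nat_lit 11]) (KT.cons (KT.into [nat_lit 4, nat_lit 0] (nat_lit 6) [nat_lit 2, nat_lit 5, nat_lit 10]) (KT.cons (KT.into [nat_lit 4, nat_lit 0] (nat_lit 5) [nat_lit 3, nat_lit 10]) KT.nil)))) (KT.cons (KT.split (KT.cons (KT.into [nat_lit 4, nat_lit 0] (nat_lit 1) [nat_lit 2, nat_lit 7, nat_lit 9, nat_lit 11]) (KT.cons (KT.into [nat_lit 4, nat_lit 0] (nat_lit 3) [nat_lit 3, nat_lit 4, nat_lit 7, nat_lit 9, nat_lit 11]) (KT.cons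 (KT.into [nat_lit 4, nat_lit 0] (nat_lit 2) [nat_lit 5, nat_lit 7]) KT.nil)))) KT.nil)))))) [nat_lit 4, nat_lit 4] _ _ (by decide +kernel)

theorem rk30 (b : Base D τ s cls3d2 4089470473293004800) : KK s 3 cls3A (GoodR s cls3R) (E s [nat_lit 72]) 9 :=
  KH.kk (cls3kh b) [] KKs.nil (KT.merge [nat_lit 12] [nat_lit 1, nat_lit 3] (KT.merge [nat_lit 18] [nat_lit 2] (KT.split (KT.cons (KT.split (KT.cons (KT.cj [nat_lit 56, nat_lit 34, nat_lit 60, nat_lit 29, nat_lit 16, nat_lit 94, nat_lit 46, nat_lit 34, nat_lit 6, nat_lit 42, nat_lit 46, nat_lit 40, nat_lit 18, nat_lit 44, nat_lit 50, nat_lit 54, nat_lit 12] (nat_lit 0)) (KT.cons (KT.cj [nat_lit 64, nat_lit 60, nat_lit 48, nat_lit 26, nat_lit 32, nat_lit 39, nat_lit 2, nat_lit 6, nat_lit 39, nat_lit 35, nat_lit 46, nat_lit 41, nat_lit 12, nat_lit 46, nat_lit 18, nat_lit 48, nat_lit 54] (nat_lit 3)) (KT.cons (KT.cj [nat_lit 49, nat_lit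 55, nat_lit 47, nat_lit 44, nat_lit 17, nat_lit 11, nat_lit 13, nat_lit 54, nat_lit 35, nat_lit 42, nat_lit 44, nat_lit 33, nat_lit 19, nat_lit 52, nat_lit 26, nat_lit 42, nat_lit 19] (nat_lit 3)) KT.nil)))) (KT.cons (KT.merge [nat_lit 0, nat_lit 6, nat_lit 10, nat_lit 18] [] (KT.cj [nat_lit 11, nat_lit 59, nat_lit 54, nat_lit 14, nat_lit 30, nat_lit 18, nat_lit 29, nat_lit 12, nat_lit 39, nat_lit 36, nat_lit 40, nat_lit 46, nat_lit 10, nat_lit 55, nat_lit 47, nat_lit 50, nat_lit 16, nat_lit 20] (nat_lit 3))) (KT.cons (KT.merge [nat_lit 1, nat_lit 7, nat_lit 10, nat_lit 15, nat_lit 17, nat_lit 19, nat_lit 21, nat_lit 24] [] (KT.cj [nat_lit 72, nat_lit 45, nat_lit 25, nat_lit 2, nat_lit 47, nat_lit 31, nat_lit 39, nat_lit 48, nat_lit 6, nat_lit 8, nat_lit 42, nat_lit 47, nat_lit 55, nat_lit 45, nat_lit 52, nat_lit 54, nat_lit 18, nat_lit 12] (nat_lit 3))) KT.nil)))))) [nat_lit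 2] _ _ (by decide +kernel)

theorem rk31 (b : Base D τ s cls3d2 4089470473293004800) : KK s 3 cls3A (GoodR s cls3R) (E s [nat_lit 72]) 3 :=
  KH.kk (cls3kh b) [([nat_lit 72], nat_lit 9)] (KKs.cons (rk30 b) KKs.nil) (KT.split (KT.cons (KT.merge [nat_lit 5] [nat_lit 0, nat_lit 4, nat_lit 8, nat_lit 11, nat_lit 12] (KT.merge [nat_lit 6] [nat_lit 2, nat_lit 4, nat_lit 9] (KT.merge [nat_lit 9] [nat_lit 3, nat_lit 5] (KT.merge [nat_lit 10] [nat_lit 2, nat_lit 5, nat_lit 6, nat_lit 8] (KT.split (KT.cons (KT.into [] (nat_lit 0) []) (KT.cons (KT.merge [nat_lit 2] [nat_lit 3, nat_lit 5] (KT.prune (nat_lit 10) (nat_lit 2) [nat_lit 2])) (KT.cons (KT.merge [nat_lit 3] [nat_lit 0, nat_lit 3, nat_lit 4] (KT.prune (nat_lit 10) (nat_lit 1) [nat_lit 3])) KT.nil)))))))) (KT.cons (KT.merge [nat_lit 5] [nat_lit 0, nat_lit 4, nat_lit 9, nat_lit 14] (KT.merge [nat_lit 0] [nat_lit 2, nat_lit 11] (KT.merge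 [nat_lit 9] [nat_lit 5, nat_lit 7] (KT.prune (nat_lit 7) (nat_lit 1) [nat_lit 8])))) (KT.cons (KT.merge [nat_lit 5] [nat_lit 0, nat_lit 4, nat_lit 10, nat_lit 13] (KT.merge [nat_lit 2] [nat_lit 4, nat_lit 9, nat_lit 13] (KT.merge [nat_lit 9] [nat_lit 2, nat_lit 5, nat_lit 6, nat_lit 10] (KT.prune (nat_lit 7) (nat_lit 2) [])))) KT.nil)))) [nat_lit 2] _ _ (by decide +kernel)

theorem rk32 (b : Base D τ s cls3d2 4089470473293004800) : KK s 3 cls3A (GoodR s cls3R) (E s [nat_lit 70, nat_lit 78, nat_lit 78]) 5 :=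
  KH.kk (cls3kh b) [] KKs.nil (KT.merge [nat_lit 0] [nat_lit 0, nat_lit 2, nat_lit 5, nat_lit 7, nat_lit 13] (KT.merge [nat_lit 6, nat_lit 9] [nat_lit 0, nat_lit 3, nat_lit 6, nat_lit 9, nat_lit 10] (KT.merge [nat_lit 10] [nat_lit 1, nat_lit 2, nat_lit 5, nat_lit 6, nat_lit 8] (KT.split (KT.cons (KT.merge [nat_lit 14] [nat_lit 1, nat_lit 2, nat_lit 5] (KT.prune (nat_lit 10) (nat_lit 2) [nat_lit 1, nat_lit 3])) (KT.cons (KT.merge [nat_lit 14] [nat_lit 1, nat_lit 2] (KT.prune (nat_lit 10) (nat_lit 1) [nat_lit 0, nat_lit 2])) (KT.cons (KT.merge [nat_lit 14] [nat_lit 1, nat_lit 2, nat_lit 4] (KT.merge [nat_lit 18] [nat_lit 1, nat_lit 2] (KT.merge [nat_lit 2, nat_lit 9, nat_lit 16, nat_lit 18] [nat_lit 1] (KT.merge [nat_lit 20] [] (KT.cj [nat_lit 17, nat_lit 45, nat_lit 13, nat_lit 52, nat_lit 43, nat_lit 11, nat_lit 51, nat_lit 7, nat_lit 47, nat_lit 37, nat_lit 3, nat_lit 29, nat_lit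 32, nat_lit 37, nat_lit 69, nat_lit 46, nat_lit 95] (nat_lit 3)))))) KT.nil))))))) [nat_lit 0, nat_lit 8, nat_lit 8] _ _ (by decide +kernel)

theorem rk33 (b : Base D τ s cls3d2 4089470473293004800) : KK s 3 cls3A (GoodR s cls3R) (E s [nat_lit 70]) 2 :=
  KH.kk (cls3kh b) [([nat_lit 70, nat_lit 78, nat_lit 78], nat_lit 5)] (KKs.cons (rk32 b) KKs.nil) (KT.split (KT.cons (KT.merge [nat_lit 5] [nat_lit 1, nat_lit 7, nat_lit 8, nat_lit 10, nat_lit 15, nat_lit 17] (KT.split (KT.cons (KT.merge [nat_lit 2] [nat_lit 3, nat_lit 4, nat_lit 6, nat_lit 8, nat_lit 10] (KT.merge [nat_lit 2, nat_lit 9] [nat_lit 3, nat_lit 6, nat_lit 8, nat_lit 11] (KT.prune (nat_lit 7) (nat_lit 2) [nat_lit 2, nat_lit 7, nat_lit 9]))) (KT.cons (KT.merge [nat_lit 2] [nat_lit 1, nat_lit 3, nat_lit 5, nat_lit 7, nat_lit 8, nat_lit 11] (KT.merge [nat_lit 6, nat_lit 9] [nat_lit 0, nat_lit 3, nat_lit 6, nat_lit 11]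 (KT.prune (nat_lit 7) (nat_lit 1) [nat_lit 1, nat_lit 8]))) (KT.cons (KT.into [] (nat_lit 0) []) KT.nil))))) (KT.cons (KT.merge [nat_lit 0] [nat_lit 1, nat_lit 2, nat_lit 4, nat_lit 11, nat_lit 12, nat_lit 15, nat_lit 17] (KT.merge [nat_lit 2] [nat_lit 2, nat_lit 4, nat_lit 7, nat_lit 10, nat_lit 13, nat_lit 15] (KT.prune (nat_lit 5) (nat_lit 1) [nat_lit 0, nat_lit 4, nat_lit 7, nat_lit 12]))) (KT.cons (KT.merge [nat_lit 5] [nat_lit 1, nat_lit 7, nat_lit 12] (KT.merge [nat_lit 3] [nat_lit 1, nat_lit 4, nat_lit 6, nat_lit 8, nat_lit 11, nat_lit 12] (KT.prune (nat_lit 5) (nat_lit 2) [nat_lit 1, nat_lit 2, nat_lit 4, nat_lit 6, nat_lit 9, nat_lit 11, nat_lit 12]))) KT.nil)))) [nat_lit 0] _ _ (by decide +kernel)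

theorem rk34 (b : Base D τ s cls3d2 4089470473293004800) : KK s 3 cls3A (GoodR s cls3R) (E s [nat_lit 70, nat_lit 72, nat_lit 72, nat_lit 82, nat_lit 82]) 11 :=
  KH.kk (cls3kh b) [] KKs.nil (KT.split (KT.cons (KT.merge [nat_lit 15] [] (KT.cj [nat_lit 68, nat_lit 68, nat_lit 93, nat_lit 23, nat_lit 34, nat_lit 45, nat_lit 2, nat_lit 40, nat_lit 34, nat_lit 41, nat_lit 41, nat_lit 44, nat_lit 44, nat_lit 50, nat_lit 55, nat_lit 55] (nat_lit 3))) (KT.cons (KT.merge [nat_lit 15] [] (KT.cj [nat_lit 55, nat_lit 9, nat_lit 53, nat_lit 19, nat_lit 45, nat_lit 45, nat_lit 51, nat_lit 11, nat_lit 54, nat_lit 34, nat_lit 45, nat_lit 46, nat_lit 29, nat_lit 42, nat_lit 81, nat_lit 23, nat_lit 58, nat_lit 24] (nat_lit 1))) (KT.cons (KT.merge [nat_lit 15] [] (KT.cj [nat_lit 79, nat_lit 86, nat_lit 61, nat_lit 42, nat_lit 41, nat_lit 29, nat_lit 35, nat_lit 39, nat_lit 44, nat_lit 12, nat_lit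 10, nat_lit 46, nat_lit 12, nat_lit 44, nat_lit 8, nat_lit 55, nat_lit 20] (nat_lit 1))) KT.nil)))) [nat_lit 0, nat_lit 2, nat_lit 2, nat_lit 12, nat_lit 12] _ _ (by decide +kernel)

theorem rk35 (b : Base D τ s cls3d2 4089470473293004800) : KK s 3 cls3A (GoodR s cls3R) (E s [nat_lit 70, nat_lit 72, nat_lit 72, nat_lit 82, nat_lit 82, nat_lit 90]) 11 :=
  KH.kk (cls3kh b) [] KKs.nil (KT.split (KT.cons (KT.merge [nat_lit 6] [] (KT.cj [nat_lit 38, nat_lit 74, nat_lit 27, nat_lit 35, nat_lit 0, nat_lit 33, nat_lit 40, nat_lit 34, nat_lit 34, nat_lit 45, nat_lit 50, nat_lit 40, nat_lit 50, nat_lit 52, nat_lit 46, nat_lit 48, nat_lit 53, nat_lit 55, nat_lit 20] (nat_lit 3))) (KT.cons (KT.merge [nat_lit 6] [] (KT.cj [nat_lit 59, nat_lit 55, nat_lit 52, nat_lit 90, nat_lit 53, nat_lit 28, nat_lit 30, nat_lit 10, nat_lit 42, nat_lit 6, nat_lit 16, nat_lit 42, nat_lit 16, nat_lit 46,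 nat_lit 16, nat_lit 55, nat_lit 55] (nat_lit 2))) (KT.cons (KT.merge [nat_lit 6] [] (KT.cj [nat_lit 13, nat_lit 19, nat_lit 9, nat_lit 51, nat_lit 19, nat_lit 45, nat_lit 13, nat_lit 51, nat_lit 46, nat_lit 11, nat_lit 54, nat_lit 37, nat_lit 41, nat_lit 3, nat_lit 35, nat_lit 95, nat_lit 79, nat_lit 21] (nat_lit 3))) KT.nil)))) [nat_lit 0, nat_lit 2, nat_lit 2, nat_lit 12, nat_lit 12, nat_lit 20] _ _ (by decide +kernel)

theorem rk36 (b : Base D τ s cls3d2 4089470473293004800) : KK s 3 cls3A (GoodR s cls3R) (E s [nat_lit 70, nat_lit 72, nat_lit 72, nat_lit 82, nat_lit 82, nat_lit 90, nat_lit 90]) 11 :=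
  KH.kk (cls3kh b) [] KKs.nil (KT.split (KT.cons (KT.merge [nat_lit 7] [] (KT.cj [nat_lit 78, nat_lit 45, nat_lit 18, nat_lit 29, nat_lit 38, nat_lit 41, nat_lit 35, nat_lit 48, nat_lit 42, nat_lit 50, nat_lit 12, nat_lit 45, nat_lit 55, nat_lit 52, nat_lit 55, nat_lit 12] (nat_lit 2))) (KT.cons (KT.merge [nat_lit 7] [] (KT.cj [nat_lit 28, nat_lit 25, nat_lit 60, nat_lit 30, nat_lit 18, nat_lit 29, nat_lit 45, nat_lit 34, nat_lit 45, nat_lit 43, nat_lit 12, nat_lit 47, nat_lit 0, nat_lit 53, nat_lit 48, nat_lit 20, nat_lit 18] (nat_lit 2))) (KT.cons (KT.merge [nat_lit 7] [] (KT.cj [nat_lit 19, nat_lit 54, nat_lit 49, nat_lit 47, nat_lit 44, nat_lit 51, nat_lit 41, nat_lit 42, nat_lit 7, nat_lit 45, nat_lit 41, nat_lit 33, nat_lit 53, nat_lit 23, nat_lit 39, nat_lit 62] (nat_lit 1))) KT.nil)))) [nat_lit 0, nat_lit 2, nat_lit 2, nat_lit 12, nat_lit 12, nat_lit 20, nat_lit 20]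 _ _ (by decide +kernel)

theorem rk37 (b : Base D τ s cls3d2 4089470473293004800) : KK s 3 cls3A (GoodR s cls3R) (E s [nat_lit 70, nat_lit 72, nat_lit 72, nat_lit 82, nat_lit 82, nat_lit 88]) 10 :=
  KH.kk (cls3kh b) [] KKs.nil (KT.merge [nat_lit 3, nat_lit 8, nat_lit 13, nat_lit 17, nat_lit 19] [nat_lit 1, nat_lit 2] (KT.split (KT.cons (KT.merge [nat_lit 11] [] (KT.cj [nat_lit 26, nat_lit 32, nat_lit 76, nat_lit 18, nat_lit 38, nat_lit 80, nat_lit 36, nat_lit 8, nat_lit 6, nat_lit 40, nat_lit 40, nat_lit 10, nat_lit 52, nat_lit 18, nat_lit 44, nat_lit 50, nat_lit 18, nat_lit 16] (nat_lit 3))) (KT.cons (KT.merge [nat_lit 11] [] (KT.cj [nat_lit 54, nat_lit 53, nat_lit 46, nat_lit 17, nat_lit 47, nat_lit 41, nat_lit 52, nat_lit 43, nat_lit 35, nat_lit 51, nat_lit 46, nat_lit 80, nat_lit 5, nat_lit 78] (nat_lit 3))) (KT.cons (KT.merge [nat_lit 11] [] (KT.cj [nat_lit 22, nat_lit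 84, nat_lit 75, nat_lit 22, nat_lit 34, nat_lit 42, nat_lit 2, nat_lit 6, nat_lit 38, nat_lit 45, nat_lit 10, nat_lit 4, nat_lit 52, nat_lit 50, nat_lit 8, nat_lit 54] (nat_lit 3))) KT.nil))))) [nat_lit 0, nat_lit 2, nat_lit 2, nat_lit 12, nat_lit 12, nat_lit 18] _ _ (by decide +kernel)

theorem rk38 (b : Base D τ s cls3d2 4089470473293004800) : KK s 3 cls3A (GoodR s cls3R) (E s [nat_lit 70, nat_lit 72, nat_lit 72, nat_lit 82, nat_lit 82, nat_lit 88, nat_lit 88]) 10 :=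
  KH.kk (cls3kh b) [] KKs.nil (KT.merge [nat_lit 2, nat_lit 9] [nat_lit 1, nat_lit 3] (KT.split (KT.cons (KT.merge [nat_lit 10] [] (KT.cj [nat_lit 55, nat_lit 53, nat_lit 54, nat_lit 44, nat_lit 51, nat_lit 45, nat_lit 11, nat_lit 44, nat_lit 43, nat_lit 35, nat_lit 35, nat_lit 55, nat_lit 94, nat_lit 40, nat_lit 72, nat_lit 70] (nat_lit 3))) (KT.cons (KT.merge [nat_lit 10] [] (KT.cj [nat_lit 13, nat_lit 19, nat_lit 9, nat_lit 45, nat_lit 45, nat_lit 42, nat_lit 13, nat_lit 34, nat_lit 42, nat_lit 3, nat_lit 43, nat_lit 41, nat_lit 22, nat_lit 25, nat_lit 26] (nat_lit 3))) (KT.cons (KT.merge [nat_lit 10] [] (KT.cj [nat_lit 21, nat_lit 55, nat_lit 53, nat_lit 44, nat_lit 46, nat_lit 13, nat_lit 42, nat_lit 19, nat_lit 38, nat_lit 40, nat_lit 38, nat_lit 29, nat_lit 30, nat_lit 13, nat_lit 74, nat_lit 71] (nat_lit 3))) KT.nil))))) [nat_lit 0, nat_lit 2, nat_lit 2, nat_lit 12,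 nat_lit 12, nat_lit 18, nat_lit 18] _ _ (by decide +kernel)

theorem rk39 (b : Base D τ s cls3d2 4089470473293004800) : KK s 3 cls3A (GoodR s cls3R) (E s [nat_lit 70, nat_lit 72, nat_lit 72, nat_lit 82, nat_lit 82, nat_lit 86]) 11 :=
  KH.kk (cls3kh b) [] KKs.nil (KT.split (KT.cons (KT.merge [nat_lit 7] [] (KT.cj [nat_lit 54, nat_lit 9, nat_lit 52, nat_lit 46, nat_lit 17, nat_lit 54, nat_lit 11, nat_lit 52, nat_lit 46, nat_lit 35, nat_lit 35, nat_lit 42, nat_lit 33, nat_lit 45, nat_lit 47, nat_lit 74, nat_lit 85] (nat_lit 1))) (KT.cons (KT.merge [nat_lit 7] [] (KT.cj [nat_lit 95, nat_lit 68, nat_lit 31, nat_lit 8, nat_lit 31, nat_lit 44, nat_lit 39, nat_lit 6, nat_lit 41, nat_lit 45, nat_lit 10, nat_lit 45, nat_lit 18, nat_lit 47, nat_lit 48, nat_lit 55, nat_lit 20] (nat_lit 3))) (KT.cons (KT.merge [nat_lit 7] [] (KT.cj [nat_lit 54, nat_lit 54, nat_lit 51, nat_lit 53, nat_lit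 45, nat_lit 47, nat_lit 45, nat_lit 43, nat_lit 53, nat_lit 44, nat_lit 7, nat_lit 39, nat_lit 49, nat_lit 32, nat_lit 5, nat_lit 73] (nat_lit 3))) KT.nil)))) [nat_lit 0, nat_lit 2, nat_lit 2, nat_lit 12, nat_lit 12, nat_lit 16] _ _ (by decide +kernel)

theorem rk40 (b : Base D τ s cls3d2 4089470473293004800) : KK s 3 cls3A (GoodR s cls3R) (E s [nat_lit 70, nat_lit 72, nat_lit 72, nat_lit 82, nat_lit 82, nat_lit 86, nat_lit 90]) 11 :=
  KH.kk (cls3kh b) [] KKs.nil (KT.split (KT.cons (KT.merge [nat_lit 11] [] (KT.cj [nat_lit 2, nat_lit 43, nat_lit 8, nat_lit 90, nat_lit 28, nat_lit 34, nat_lit 31, nat_lit 36, nat_lit 8, nat_lit 6, nat_lit 45, nat_lit 41, nat_lit 47, nat_lit 18, nat_lit 50] (nat_lit 3))) (KT.cons (KT.merge [nat_lit 11] [] (KT.cj [nat_lit 13, nat_lit 21, nat_lit 49, nat_lit 19, nat_lit 45, nat_lit 53, nat_lit 46, nat_lit 11, nat_lit 47, nat_lit 38, nat_lit 45,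 nat_lit 3, nat_lit 80, nat_lit 53, nat_lit 15, nat_lit 43, nat_lit 59] (nat_lit 0))) (KT.cons (KT.merge [nat_lit 11] [] (KT.cj [nat_lit 13, nat_lit 55, nat_lit 52, nat_lit 1, nat_lit 45, nat_lit 51, nat_lit 44, nat_lit 11, nat_lit 44, nat_lit 37, nat_lit 17, nat_lit 28, nat_lit 34, nat_lit 30, nat_lit 78, nat_lit 75] (nat_lit 3))) KT.nil)))) [nat_lit 0, nat_lit 2, nat_lit 2, nat_lit 12, nat_lit 12, nat_lit 16, nat_lit 20] _ _ (by decide +kernel)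

theorem rk41 (b : Base D τ s cls3d2 4089470473293004800) : KK s 3 cls3A (GoodR s cls3R) (E s [nat_lit 70, nat_lit 72, nat_lit 72, nat_lit 82, nat_lit 82, nat_lit 86, nat_lit 90, nat_lit 90]) 11 :=
  KH.kk (cls3kh b) [] KKs.nil (KT.split (KT.cons (KT.merge [nat_lit 6] [] (KT.cj [nat_lit 68, nat_lit 87, nat_lit 61, nat_lit 33, nat_lit 52, nat_lit 29, nat_lit 18, nat_lit 44, nat_lit 35, nat_lit 41, nat_lit 53, nat_lit 40, nat_lit 45, nat_lit 46, nat_lit 4, nat_lit 55, nat_lit 52, nat_lit 55, nat_lit 20] (nat_lit 3))) (KT.cons (KT.merge [nat_lit 6] [] (KT.cj [nat_lit 29, nat_lit 40, nat_lit 24, nat_lit 28, nat_lit 31, nat_lit 2, nat_lit 54, nat_lit 39, nat_lit 42, nat_lit 41, nat_lit 12, nat_lit 45, nat_lit 45, nat_lit 16, nat_lit 53, nat_lit 54, nat_lit 54, nat_lit 18] (nat_lit 3))) (KT.cons (KT.merge [nat_lit 6] [] (KT.cj [nat_lit 54, nat_lit 49, nat_lit 51, nat_lit 5, nat_lit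 45, nat_lit 47, nat_lit 41, nat_lit 51, nat_lit 39, nat_lit 52, nat_lit 37, nat_lit 81, nat_lit 41, nat_lit 34, nat_lit 23, nat_lit 87, nat_lit 34] (nat_lit 2))) KT.nil)))) [nat_lit 0, nat_lit 2, nat_lit 2, nat_lit 12, nat_lit 12, nat_lit 16, nat_lit 20, nat_lit 20] _ _ (by decide +kernel)

theorem rk42 (b : Base D τ s cls3d2 4089470473293004800) : KK s 3 cls3A (GoodR s cls3R) (E s [nat_lit 70, nat_lit 72, nat_lit 72, nat_lit 82, nat_lit 82, nat_lit 86, nat_lit 86]) 11 :=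
  KH.kk (cls3kh b) [] KKs.nil (KT.split (KT.cons (KT.merge [nat_lit 6] [] (KT.cj [nat_lit 19, nat_lit 54, nat_lit 45, nat_lit 13, nat_lit 41, nat_lit 19, nat_lit 44, nat_lit 35, nat_lit 51, nat_lit 39, nat_lit 31, nat_lit 17, nat_lit 101, nat_lit 31] (nat_lit 3))) (KT.cons (KT.merge [nat_lit 6] [] (KT.cj [nat_lit 21, nat_lit 54, nat_lit 17, nat_lit 47, nat_lit 44, nat_lit 47, nat_lit 40, nat_lit 42, nat_lit 7, nat_lit 49, nat_lit 19, nat_lit 80, nat_lit 3, nat_lit 54, nat_lit 26, nat_lit 28] (nat_lit 3))) (KT.cons (KT.merge [nat_lit 6] [] (KT.cj [nat_lit 75, nat_lit 61, nat_lit 23, nat_lit 29, nat_lit 34, nat_lit 31, nat_lit 40, nat_lit 34, nat_lit 36, nat_lit 46, nat_lit 41, nat_lit 18, nat_lit 45, nat_lit 45, nat_lit 50, nat_lit 54, nat_lit 18, nat_lit 12] (nat_lit 3))) KT.nil)))) [nat_lit 0, nat_lit 2, nat_lit 2, nat_lit 12, nat_lit 12, nat_lit 16, nat_lit 16] _ _ (by decide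 +kernel)

theorem rk43 (b : Base D τ s cls3d2 4089470473293004800) : KK s 3 cls3A (GoodR s cls3R) (E s [nat_lit 70, nat_lit 72, nat_lit 72, nat_lit 82, nat_lit 82, nat_lit 86, nat_lit 86, nat_lit 90]) 11 :=
  KH.kk (cls3kh b) [] KKs.nil (KT.split (KT.cons (KT.merge [nat_lit 7] [] (KT.cj [nat_lit 19, nat_lit 21, nat_lit 55, nat_lit 9, nat_lit 53, nat_lit 19, nat_lit 45, nat_lit 52, nat_lit 47, nat_lit 43, nat_lit 40, nat_lit 34, nat_lit 17, nat_lit 7, nat_lit 29, nat_lit 17, nat_lit 101, nat_lit 31] (nat_lit 3))) (KT.cons (KT.merge [nat_lit 7] [] (KT.cj [nat_lit 13, nat_lit 19, nat_lit 52, nat_lit 17, nat_lit 44, nat_lit 54, nat_lit 41, nat_lit 54, nat_lit 7, nat_lit 17, nat_lit 29, nat_lit 43, nat_lit 95, nat_lit 75, nat_lit 41] (nat_lit 1))) (KT.cons (KT.merge [nat_lit 7] [] (KT.cj [nat_lit 46, nat_lit 45, nat_lit 70, nat_lit 60, nat_lit 38, nat_lit 16, nat_lit 95, nat_lit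 46, nat_lit 40, nat_lit 6, nat_lit 47, nat_lit 42, nat_lit 55, nat_lit 45, nat_lit 54, nat_lit 16] (nat_lit 3))) KT.nil)))) [nat_lit 0, nat_lit 2, nat_lit 2, nat_lit 12, nat_lit 12, nat_lit 16, nat_lit 16, nat_lit 20] _ _ (by decide +kernel)

theorem rk44 (b : Base D τ s cls3d2 4089470473293004800) : KK s 3 cls3A (GoodR s cls3R) (E s [nat_lit 70, nat_lit 72, nat_lit 72, nat_lit 82, nat_lit 82, nat_lit 86, nat_lit 86, nat_lit 90, nat_lit 90]) 11 :=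
  KH.kk (cls3kh b) [] KKs.nil (KT.split (KT.cons (KT.merge [nat_lit 10] [] (KT.cj [nat_lit 49, nat_lit 53, nat_lit 47, nat_lit 27, nat_lit 52, nat_lit 35, nat_lit 33, nat_lit 44, nat_lit 6, nat_lit 55, nat_lit 42, nat_lit 16, nat_lit 47, nat_lit 18, nat_lit 50, nat_lit 55] (nat_lit 1))) (KT.cons (KT.merge [nat_lit 10] [] (KT.cj [nat_lit 59, nat_lit 94, nat_lit 61, nat_lit 27, nat_lit 47, nat_lit 30, nat_lit 29, nat_lit 12, nat_lit 41, nat_lit 6, nat_lit 45, nat_lit 8, nat_lit 10, nat_lit 44, nat_lit 54, nat_lit 45, nat_lit 48, nat_lit 20] (nat_lit 1))) (KT.cons (KT.merge [nat_lit 10] [] (KT.cj [nat_lit 21, nat_lit 49, nat_lit 1, nat_lit 44, nat_lit 44, nat_lit 42, nat_lit 54, nat_lit 37, nat_lit 5, nat_lit 47, nat_lit 31, nat_lit 33, nat_lit 47, nat_lit 62, nat_lit 42, nat_lit 82] (nat_lit 3))) KT.nil)))) [nat_lit 0, nat_lit 2, nat_lit 2, nat_lit 12, nat_lit 12, nat_lit 16,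 nat_lit 16, nat_lit 20, nat_lit 20] _ _ (by decide +kernel)

theorem rk45 (b : Base D τ s cls3d2 4089470473293004800) : KK s 3 cls3A (GoodR s cls3R) (E s [nat_lit 70, nat_lit 72, nat_lit 72, nat_lit 82, nat_lit 82]) 7 :=
  KH.kk (cls3kh b) [([nat_lit 70, nat_lit 72, nat_lit 72, nat_lit 82, nat_lit 82], nat_lit 11), ([nat_lit 70, nat_lit 72, nat_lit 72, nat_lit 82, nat_lit 82, nat_lit 90], nat_lit 11), ([nat_lit 70, nat_lit 72, nat_lit 72, nat_lit 82, nat_lit 82, nat_lit 90, nat_lit 90], nat_lit 11), ([nat_lit 70, nat_lit 72, nat_lit 72, nat_lit 82, nat_lit 82, nat_lit 88], nat_lit 10), ([nat_lit 70, nat_lit 72, nat_lit 72, nat_lit 82, nat_lit 82, nat_lit 88, nat_lit 88], nat_lit 10), ([nat_lit 70, nat_lit 72, nat_lit 72, nat_lit 82, nat_lit 82, nat_lit 86], nat_lit 11), ([nat_lit 70, nat_lit 72, nat_lit 72, nat_lit 82, nat_lit 82, nat_lit 86, nat_lit 90], nat_lit 11), ([nat_lit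 70, nat_lit 72, nat_lit 72, nat_lit 82, nat_lit 82, nat_lit 86, nat_lit 90, nat_lit 90], nat_lit 11), ([nat_lit 70, nat_lit 72, nat_lit 72, nat_lit 82, nat_lit 82, nat_lit 86, nat_lit 86], nat_lit 11), ([nat_lit 70, nat_lit 72, nat_lit 72, nat_lit 82, nat_lit 82, nat_lit 86, nat_lit 86, nat_lit 90], nat_lit 11), ([nat_lit 70, nat_lit 72, nat_lit 72, nat_lit 82, nat_lit 82, nat_lit 86, nat_lit 86, nat_lit 90, nat_lit 90], nat_lit 11)] (KKs.cons (rk34 b) (KKs.cons (rk35 b) (KKs.cons (rk36 b) (KKs.cons (rk37 b) (KKs.cons (rk38 b) (KKs.cons (rk39 b) (KKs.cons (rk40 b) (KKs.cons (rk41 b) (KKs.cons (rk42 b) (KKs.cons (rk43 b) (KKs.cons (rk44 b) KKs.nil))))))))))) (KT.merge [nat_lit 13] [nat_lit 1, nat_lit 2, nat_lit 7] (KT.split (KT.cons (KT.split (KT.cons (KT.split (KT.cons (KT.into [] (nat_lit 0) []) (KT.cons (KT.into [] (nat_lit 1) []) (KT.cons (KT.into [] (nat_lit 2) []) KT.nil))))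 (KT.cons (KT.into [] (nat_lit 3) []) (KT.cons (KT.into [] (nat_lit 4) []) KT.nil)))) (KT.cons (KT.merge [nat_lit 2, nat_lit 9] [nat_lit 2] (KT.split (KT.cons (KT.into [] (nat_lit 5) []) (KT.cons (KT.into [] (nat_lit 6) []) (KT.cons (KT.into [] (nat_lit 7) []) KT.nil))))) (KT.cons (KT.merge [nat_lit 3, nat_lit 8, nat_lit 13, nat_lit 17, nat_lit 19] [nat_lit 0, nat_lit 3, nat_lit 5] (KT.split (KT.cons (KT.into [] (nat_lit 8) []) (KT.cons (KT.into [] (nat_lit 9) []) (KT.cons (KT.into [] (nat_lit 10) []) KT.nil))))) KT.nil))))) [nat_lit 0, nat_lit 2, nat_lit 2, nat_lit 12, nat_lit 12] _ _ (by decide +kernel)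

theorem rk46 (b : Base D τ s cls3d2 4089470473293004800) : KK s 3 cls3A (GoodR s cls3R) (E s [nat_lit 70, nat_lit 72, nat_lit 72]) 3 :=
  KH.kk (cls3kh b) [([nat_lit 70, nat_lit 72, nat_lit 72, nat_lit 82, nat_lit 82], nat_lit 7)] (KKs.cons (rk45 b) KKs.nil) (KT.merge [nat_lit 5] [nat_lit 2, nat_lit 8, nat_lit 11, nat_lit 13, nat_lit 15] (KT.split (KT.cons (KT.merge [nat_lit 0] [nat_lit 2, nat_lit 4, nat_lit 8, nat_lit 12] (KT.split (KT.cons (KT.merge [nat_lit 13] [nat_lit 1, nat_lit 2, nat_lit 4, nat_lit 8] (KT.merge [nat_lit 7] [nat_lit 1, nat_lit 2, nat_lit 5] (KT.merge [nat_lit 10] [nat_lit 0, nat_lit 2, nat_lit 5] (KT.prune (nat_lit 10) (nat_lit 1) [nat_lit 0, nat_lit 3])))) (KT.cons (KT.merge [nat_lit 13] [nat_lit 1, nat_lit 2, nat_lit 5, nat_lit 6, nat_lit 9] (KT.merge [nat_lit 6] [nat_lit 1, nat_lit 2, nat_lit 4] (KT.merge [nat_lit 11] [nat_lit 0, nat_lit 2] (KT.prune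 (nat_lit 10) (nat_lit 1) [nat_lit 0])))) (KT.cons (KT.into [] (nat_lit 0) []) KT.nil))))) (KT.cons (KT.merge [nat_lit 2] [nat_lit 1, nat_lit 2, nat_lit 5, nat_lit 6, nat_lit 8, nat_lit 11] (KT.merge [nat_lit 0] [nat_lit 3, nat_lit 7, nat_lit 8, nat_lit 10] (KT.merge [nat_lit 13] [nat_lit 1, nat_lit 4, nat_lit 7] (KT.prune (nat_lit 8) (nat_lit 1) [nat_lit 1, nat_lit 4, nat_lit 7])))) (KT.cons (KT.merge [nat_lit 2] [nat_lit 0, nat_lit 2, nat_lit 6, nat_lit 11, nat_lit 12] (KT.merge [nat_lit 3, nat_lit 8, nat_lit 13, nat_lit 17, nat_lit 19] [nat_lit 3, nat_lit 4, nat_lit 7, nat_lit 8] (KT.merge [nat_lit 13] [nat_lit 1, nat_lit 3, nat_lit 4, nat_lit 8] (KT.prune (nat_lit 8) (nat_lit 1) [nat_lit 6])))) KT.nil))))) [nat_lit 0, nat_lit 2, nat_lit 2] _ _ (by decide +kernel)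

theorem rk47 (b : Base D τ s cls3d2 4089470473293004800) : KK s 3 cls3A (GoodR s cls3R) (E s [nat_lit 70, nat_lit 72, nat_lit 72, nat_lit 74, nat_lit 82, nat_lit 82]) 7 :=
  KH.kk (cls3kh b) [] KKs.nil (KT.merge [nat_lit 13] [nat_lit 1, nat_lit 2, nat_lit 9] (KT.merge [nat_lit 15] [nat_lit 0, nat_lit 3, nat_lit 5, nat_lit 7] (KT.merge [nat_lit 6] [nat_lit 0, nat_lit 4] (KT.split (KT.cons (KT.merge [nat_lit 19] [] (KT.prune (nat_lit 12) (nat_lit 2) [])) (KT.cons (KT.merge [nat_lit 19] [] (KT.merge [nat_lit 23] [] (KT.cj [nat_lit 71, nat_lit 74, nat_lit 59, nat_lit 47, nat_lit 28, nat_lit 28, nat_lit 12, nat_lit 38, nat_lit 10, nat_lit 12, nat_lit 47, nat_lit 0, nat_lit 54, nat_lit 50, nat_lit 54, nat_lit 18, nat_lit 12] (nat_lit 3)))) (KT.cons (KT.merge [nat_lit 19] [] (KT.prune (nat_lit 12) (nat_lit 1) [])) KT.nil))))))) [nat_lit 0, nat_lit 2, nat_lit 2, nat_lit 4, nat_lit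 12, nat_lit 12] _ _ (by decide +kernel)

theorem rk48 (b : Base D τ s cls3d2 4089470473293004800) : KK s 3 cls3A (GoodR s cls3R) (E s [nat_lit 70, nat_lit 72, nat_lit 72, nat_lit 74, nat_lit 74, nat_lit 82, nat_lit 82]) 7 :=
  KH.kk (cls3kh b) [] KKs.nil (KT.merge [nat_lit 13] [nat_lit 1, nat_lit 2, nat_lit 6, nat_lit 8] (KT.merge [nat_lit 14] [nat_lit 0, nat_lit 3, nat_lit 5] (KT.merge [nat_lit 7] [nat_lit 0, nat_lit 5] (KT.split (KT.cons (KT.merge [nat_lit 18] [nat_lit 1] (KT.prune (nat_lit 12) (nat_lit 1) [])) (KT.cons (KT.merge [nat_lit 18] [nat_lit 1] (KT.merge [nat_lit 23] [] (KT.cj [nat_lit 54, nat_lit 54, nat_lit 1, nat_lit 44, nat_lit 47, nat_lit 55, nat_lit 11, nat_lit 55, nat_lit 43, nat_lit 37, nat_lit 39, nat_lit 9, nat_lit 28, nat_lit 1, nat_lit 52, nat_lit 73, nat_lit 21] (nat_lit 3)))) (KT.cons (KT.merge [nat_lit 18] [nat_lit 1] (KT.prune (nat_lit 12) (nat_lit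 2) [])) KT.nil))))))) [nat_lit 0, nat_lit 2, nat_lit 2, nat_lit 4, nat_lit 4, nat_lit 12, nat_lit 12] _ _ (by decide +kernel)

theorem rk49 (b : Base D τ s cls3d2 4089470473293004800) : KK s 3 cls3A (GoodR s cls3R) (E s [nat_lit 70, nat_lit 72, nat_lit 72]) 2 :=
  KH.kk (cls3kh b) [([nat_lit 70, nat_lit 72, nat_lit 72], nat_lit 3), ([nat_lit 70, nat_lit 72, nat_lit 72, nat_lit 74, nat_lit 82, nat_lit 82], nat_lit 7), ([nat_lit 70, nat_lit 72, nat_lit 72, nat_lit 74, nat_lit 74, nat_lit 82, nat_lit 82], nat_lit 7)] (KKs.cons (rk46 b) (KKs.cons (rk47 b) (KKs.cons (rk48 b) KKs.nil))) (KT.split (KT.cons (KT.into [] (nat_lit 0) []) (KT.cons (KT.merge [nat_lit 0] [nat_lit 1, nat_lit 4, nat_lit 6, nat_lit 10, nat_lit 15] (KT.merge [nat_lit 2] [nat_lit 2, nat_lit 6, nat_lit 9, nat_lit 11, nat_lit 14] (KT.merge [nat_lit 8] [nat_lit 3, nat_lit 5, nat_lit 6, nat_lit 9, nat_lit 12] (KT.split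 (KT.cons (KT.merge [nat_lit 13] [nat_lit 1, nat_lit 2, nat_lit 4, nat_lit 6] (KT.prune (nat_lit 8) (nat_lit 1) [nat_lit 1, nat_lit 3, nat_lit 5, nat_lit 6])) (KT.cons (KT.merge [nat_lit 13] [nat_lit 1, nat_lit 2, nat_lit 5, nat_lit 7, nat_lit 8] (KT.prune (nat_lit 8) (nat_lit 2) [nat_lit 0, nat_lit 4, nat_lit 7])) (KT.cons (KT.into [] (nat_lit 1) []) KT.nil))))))) (KT.cons (KT.merge [nat_lit 5] [nat_lit 2, nat_lit 8, nat_lit 11, nat_lit 13, nat_lit 15] (KT.merge [nat_lit 3] [nat_lit 1, nat_lit 5, nat_lit 8, nat_lit 15] (KT.merge [nat_lit 8] [nat_lit 3, nat_lit 5, nat_lit 6, nat_lit 9, nat_lit 12] (KT.split (KT.cons (KT.merge [nat_lit 13] [nat_lit 1, nat_lit 2, nat_lit 4, nat_lit 7, nat_lit 9] (KT.prune (nat_lit 8) (nat_lit 2) [nat_lit 0])) (KT.cons (KT.merge [nat_lit 13] [nat_lit 1, nat_lit 2, nat_lit 5] (KT.prune (nat_lit 8) (nat_lit 1) [nat_lit 1, nat_lit 3, nat_lit 4, nat_lit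 6])) (KT.cons (KT.into [] (nat_lit 2) []) KT.nil))))))) KT.nil)))) [nat_lit 0, nat_lit 2, nat_lit 2] _ _ (by decide +kernel)

theorem cls3kk (b : Base D τ s cls3d2 4089470473293004800) : KK s 3 cls3A (GoodR s cls3R) (E s []) 0 :=
  KH.kk (cls3kh b) [([], nat_lit 4), ([nat_lit 76], nat_lit 4), ([nat_lit 74], nat_lit 6), ([nat_lit 74, nat_lit 80], nat_lit 7), ([nat_lit 74, nat_lit 80, nat_lit 82], nat_lit 7), ([nat_lit 74, nat_lit 80, nat_lit 82, nat_lit 82], nat_lit 7), ([nat_lit 74, nat_lit 80, nat_lit 80], nat_lit 7), ([nat_lit 74, nat_lit 80, nat_lit 80, nat_lit 82], nat_lit 7), ([nat_lit 74, nat_lit 80, nat_lit 80, nat_lit 82, nat_lit 82], nat_lit 7), ([nat_lit 74, nat_lit 74], nat_lit 3), ([nat_lit 72], nat_lit 3), ([nat_lit 70], nat_lit 2), ([nat_lit 70, nat_lit 72, nat_lit 72], nat_lit 2)] (KKs.cons (rk10 b) (KKs.cons (rk17 b) (KKs.cons (rk22 b) (KKs.cons (rk23 b) (KKs.cons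 (rk24 b) (KKs.cons (rk25 b) (KKs.cons (rk26 b) (KKs.cons (rk27 b) (KKs.cons (rk28 b) (KKs.cons (rk29 b) (KKs.cons (rk31 b) (KKs.cons (rk33 b) (KKs.cons (rk49 b) KKs.nil))))))))))))) (KT.split (KT.cons (KT.split (KT.cons (KT.split (KT.cons (KT.split (KT.cons (KT.into [] (nat_lit 0) []) (KT.cons (KT.into [] (nat_lit 1) []) (KT.cons (KT.into [nat_lit 0] (nat_lit 1) [nat_lit 2, nat_lit 8, nat_lit 12, nat_lit 15, nat_lit 17]) KT.nil)))) (KT.cons (KT.merge [nat_lit 0] [nat_lit 1, nat_lit 2, nat_lit 4, nat_lit 11, nat_lit 12, nat_lit 15, nat_lit 17] (KT.merge [nat_lit 2] [nat_lit 0, nat_lit 2, nat_lit 5, nat_lit 6, nat_lit 9, nat_lit 11, nat_lit 12, nat_lit 15] (KT.split (KT.cons (KT.into [] (nat_lit 2) []) (KT.cons (KT.split (KT.cons (KT.into [] (nat_lit 3) []) (KT.cons (KT.into [] (nat_lit 4) []) (KT.cons (KT.into [] (nat_lit 5) []) KT.nil)))) (KT.cons (KT.split (KT.cons (KT.into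 [] (nat_lit 6) []) (KT.cons (KT.into [] (nat_lit 7) []) (KT.cons (KT.into [] (nat_lit 8) []) KT.nil)))) KT.nil)))))) (KT.cons (KT.into [] (nat_lit 9) []) KT.nil)))) (KT.cons (KT.split (KT.cons (KT.into [] (nat_lit 10) []) (KT.cons (KT.merge [nat_lit 0] [nat_lit 1, nat_lit 3, nat_lit 4, nat_lit 6, nat_lit 9, nat_lit 11, nat_lit 13, nat_lit 15] (KT.merge [nat_lit 2] [nat_lit 0, nat_lit 2, nat_lit 5, nat_lit 6, nat_lit 9, nat_lit 11, nat_lit 12, nat_lit 15] (KT.merge [nat_lit 6] [nat_lit 2, nat_lit 5, nat_lit 7, nat_lit 10, nat_lit 12] (KT.prune (nat_lit 6) (nat_lit 1) [nat_lit 0, nat_lit 2, nat_lit 4, nat_lit 6, nat_lit 11])))) (KT.cons (KT.merge [nat_lit 1, nat_lit 15, nat_lit 18, nat_lit 23, nat_lit 25] [nat_lit 1, nat_lit 3, nat_lit 7, nat_lit 12, nat_lit 14, nat_lit 16] (KT.merge [nat_lit 3] [nat_lit 0, nat_lit 4, nat_lit 8, nat_lit 11, nat_lit 12] (KT.merge [nat_lit 6] [nat_lit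 2, nat_lit 6, nat_lit 8, nat_lit 11, nat_lit 13] (KT.prune (nat_lit 6) (nat_lit 2) [nat_lit 1, nat_lit 3, nat_lit 5, nat_lit 6, nat_lit 9, nat_lit 11])))) KT.nil)))) (KT.cons (KT.split (KT.cons (KT.into [nat_lit 0] (nat_lit 10) [nat_lit 5, nat_lit 7, nat_lit 11, nat_lit 12, nat_lit 16, nat_lit 19]) (KT.cons (KT.merge [nat_lit 0] [nat_lit 1, nat_lit 4, nat_lit 6, nat_lit 10, nat_lit 15] (KT.merge [nat_lit 2] [nat_lit 0, nat_lit 2, nat_lit 5, nat_lit 6, nat_lit 9, nat_lit 11, nat_lit 12, nat_lit 15] (KT.merge [nat_lit 7] [nat_lit 4, nat_lit 7] (KT.prune (nat_lit 6) (nat_lit 1) [nat_lit 0, nat_lit 2, nat_lit 4, nat_lit 6, nat_lit 11])))) (KT.cons (KT.merge [nat_lit 1, nat_lit 15, nat_lit 18, nat_lit 23, nat_lit 25] [nat_lit 1, nat_lit 2, nat_lit 8, nat_lit 12, nat_lit 14] (KT.merge [nat_lit 3] [nat_lit 0, nat_lit 4, nat_lit 8, nat_lit 11, nat_lit 12] (KT.merge [nat_lit 7] [nat_lit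 4, nat_lit 6, nat_lit 8] (KT.prune (nat_lit 6) (nat_lit 2) [nat_lit 1, nat_lit 3, nat_lit 5, nat_lit 6, nat_lit 9, nat_lit 11])))) KT.nil)))) KT.nil)))) (KT.cons (KT.split (KT.cons (KT.into [] (nat_lit 11) []) (KT.cons (KT.into [nat_lit 2, nat_lit 0] (nat_lit 11) [nat_lit 6, nat_lit 9, nat_lit 10, nat_lit 16, nat_lit 21]) (KT.cons (KT.into [] (nat_lit 12) []) KT.nil)))) (KT.cons (KT.split (KT.cons (KT.into [nat_lit 0] (nat_lit 11) [nat_lit 7, nat_lit 13, nat_lit 17, nat_lit 18, nat_lit 21]) (KT.cons (KT.into [nat_lit 0] (nat_lit 12) [nat_lit 8, nat_lit 14]) (KT.cons (KT.into [nat_lit 2] (nat_lit 11) [nat_lit 8, nat_lit 13, nat_lit 18]) KT.nil)))) KT.nil)))) [] _ _ (by decide +kernel)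

theorem cls3 (b0 : Base D τ s d0 4089470473293004800) {y : G} (hy : y ^ 3 = 1) : GoodR s [[nat_lit 0, nat_lit 2], [nat_lit 0, nat_lit 2, nat_lit 6, nat_lit 8], [nat_lit 30, nat_lit 30, nat_lit 30, nat_lit 30], [nat_lit 0, nat_lit 2, nat_lit 10, nat_lit 12, nat_lit 16, nat_lit 18]] y := by
  obtain ⟨s1, b1, h1⟩ := cls3d0_up b0
  obtain ⟨s2, b2, h2⟩ := cls3d1_up b1
  obtain ⟨s3, b3, h3⟩ := cls3d2_up b2
  exact GoodR.of_ext h1 (by decide +kernel) (GoodR.of_ext h2 (by decide +kernel) (GoodR.of_ext h3 (by decide +kernel) ((cls3kh b3).all (cls3kk b3) (by rw [b0.card]; decide +kernel) GoodR.conj hy)))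

end Cfsg.Agent.FiC.F23
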