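import Cfsg.Agent.FiC.Mk
import Cfsg.Agent.Comp.Fi23.Main

set_option autoImplicit false
set_option maxRecDepth 100000
set_option linter.unusedSectionVars false

namespace Cfsg.Agent.FiC.F23
open Cfsg.Agent.Comp Cfsg.Agent.FiC

variable {G : Type*} [Group G] [Finite G] {D : Set G} {τ s : ℕ → G}

noncomputable def d00 : Dat := ⟨(nat_lit 31671), (nat_lit 15), (nat_lit 15), planes (nat_lit 31671) (nat_lit 15) (nat_lit 15) (nat_lit 0), [Fi23.n0, Fi23.n1, Fi23.n2, Fi23.n3, Fi23.n4, Fi23.n5, Fi23.n6, Fi23.n7, Fi23.n8, Fi23.n9], [nat_lit 2400], []⟩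

def z : List Nat := [7, 6, 5, 4, 3, 2, 1, 0, 8, 3, 2, 4, 3, 5, 4, 6, 5, 7, 6, 8, 3, 2, 4, 3, 5, 4, 8, 3, 2, 1, 0, 1, 2, 3, 8, 4, 5, 3, 4, 2, 3, 8, 6, 7, 5, 6, 4, 5, 3, 4, 2, 3, 8, 0, 1, 2, 3, 4, 5, 6, 7]

theorem e1_0 : EqsP 31671 0 1 Fi23.T (Fi23.W0.map fun w => (w ++ z, z ++ w)) :=
  eqsP_of (B := 15) (K := 1) Fi23.ok (by norm_num) (by norm_num) rfl (by decide +kernel)

theorem e1_1 : EqsP 31671 1 2 Fi23.T (Fi23.W0.map fun w => (w ++ z, z ++ w)) :=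
  eqsP_of (B := 15) (K := 1) Fi23.ok (by norm_num) (by norm_num) rfl (by decide +kernel)

theorem e1_2 : EqsP 31671 2 3 Fi23.T (Fi23.W0.map fun w => (w ++ z, z ++ w)) :=
  eqsP_of (B := 15) (K := 1) Fi23.ok (by norm_num) (by norm_num) rfl (by decide +kernel)

theorem e1_3 : EqsP 31671 3 4 Fi23.T (Fi23.W0.map fun w => (w ++ z, z ++ w)) :=
  eqsP_of (B := 15) (K := 1) Fi23.ok (by norm_num) (by norm_num) rfl (by decide +kernel)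

theorem e1_4 : EqsP 31671 4 5 Fi23.T (Fi23.W0.map fun w => (w ++ z, z ++ w)) :=
  eqsP_of (B := 15) (K := 1) Fi23.ok (by norm_num) (by norm_num) rfl (by decide +kernel)

theorem e1_5 : EqsP 31671 5 6 Fi23.T (Fi23.W0.map fun w => (w ++ z, z ++ w)) :=
  eqsP_of (B := 15) (K := 1) Fi23.ok (by norm_num) (by norm_num) rfl (by decide +kernel)

theorem e1_6 : EqsP 31671 6 7 Fi23.T (Fi23.W0.map fun w => (w ++ z, z ++ w)) :=
  eqsP_of (B := 15) (K := 1) Fi23.ok (by norm_num) (by norm_num) rfl (by decide +kernel)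

theorem e1_7 : EqsP 31671 7 8 Fi23.T (Fi23.W0.map fun w => (w ++ z, z ++ w)) :=
  eqsP_of (B := 15) (K := 1) Fi23.ok (by norm_num) (by norm_num) rfl (by decide +kernel)

theorem e1_8 : EqsP 31671 8 9 Fi23.T (Fi23.W0.map fun w => (w ++ z, z ++ w)) :=
  eqsP_of (B := 15) (K := 1) Fi23.ok (by norm_num) (by norm_num) rfl (by decide +kernel)

theorem e1_9 : EqsP 31671 9 10 Fi23.T (Fi23.W0.map fun w => (w ++ z, z ++ w)) :=
  eqsP_of (B := 15) (K := 1) Fi23.ok (by norm_num) (by norm_num) rfl (by decide +kernel)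

theorem e1_10 : EqsP 31671 10 11 Fi23.T (Fi23.W0.map fun w => (w ++ z, z ++ w)) :=
  eqsP_of (B := 15) (K := 1) Fi23.ok (by norm_num) (by norm_num) rfl (by decide +kernel)

theorem e1_11 : EqsP 31671 11 12 Fi23.T (Fi23.W0.map fun w => (w ++ z, z ++ w)) :=
  eqsP_of (B := 15) (K := 1) Fi23.ok (by norm_num) (by norm_num) rfl (by decide +kernel)

theorem e1_12 : EqsP 31671 12 13 Fi23.T (Fi23.W0.map fun w => (w ++ z, z ++ w)) :=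
  eqsP_of (B := 15) (K := 1) Fi23.ok (by norm_num) (by norm_num) rfl (by decide +kernel)

theorem e1_13 : EqsP 31671 13 14 Fi23.T (Fi23.W0.map fun w => (w ++ z, z ++ w)) :=
  eqsP_of (B := 15) (K := 1) Fi23.ok (by norm_num) (by norm_num) rfl (by decide +kernel)

theorem e1_14 : EqsP 31671 14 15 Fi23.T (Fi23.W0.map fun w => (w ++ z, z ++ w)) :=
  eqsP_of (B := 15) (K := 1) Fi23.ok (by norm_num) (by norm_num) rfl (by decide +kernel)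

theorem e2_0 : EqsP 31671 0 5 Fi23.T [([1, 2, 3, 8, 4, 5, 3, 4, 2, 3, 8, 6, 7, 5, 6, 4, 5, 3, 4, 2, 3, 8, 0, 1, 2, 3, 4, 5, 6, 7] ++ z, 0 :: [1, 2, 3, 8, 4, 5, 3, 4, 2, 3, 8, 6, 7, 5, 6, 4, 5, 3, 4, 2, 3, 8, 0, 1, 2, 3, 4, 5, 6, 7])] :=
  eqsP_of (B := 15) (K := 5) Fi23.ok (by norm_num) (by norm_num) rfl (by decide +kernel)

theorem e2_5 : EqsP 31671 5 10 Fi23.T [([1, 2, 3, 8, 4, 5, 3, 4, 2, 3, 8, 6, 7, 5, 6, 4, 5, 3, 4, 2, 3, 8, 0, 1, 2, 3, 4, 5, 6, 7] ++ z, 0 :: [1, 2, 3, 8, 4, 5, 3, 4, 2, 3, 8, 6, 7, 5, 6, 4, 5, 3, 4, 2, 3, 8, 0, 1, 2, 3, 4, 5, 6, 7])] :=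
  eqsP_of (B := 15) (K := 5) Fi23.ok (by norm_num) (by norm_num) rfl (by decide +kernel)

theorem e2_10 : EqsP 31671 10 15 Fi23.T [([1, 2, 3, 8, 4, 5, 3, 4, 2, 3, 8, 6, 7, 5, 6, 4, 5, 3, 4, 2, 3, 8, 0, 1, 2, 3, 4, 5, 6, 7] ++ z, 0 :: [1, 2, 3, 8, 4, 5, 3, 4, 2, 3, 8, 6, 7, 5, 6, 4, 5, 3, 4, 2, 3, 8, 0, 1, 2, 3, 4, 5, 6, 7])] :=
  eqsP_of (B := 15) (K := 5) Fi23.ok (by norm_num) (by norm_num) rfl (by decide +kernel)

theorem base00 : ∃ τ, Base (conjugatesOf (Fi23.s 0)) τ (cut Fi23.s 10) d00 4089470473293004800 :=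
  base_of Fi23.rep Fi23.card.2.2 Fi23.card.2.1 Fi23.trans Fi23.stab.2 Fi23.orb1.1 Fi23.orb3511.1
    z [1, 2, 3, 8, 4, 5, 3, 4, 2, 3, 8, 6, 7, 5, 6, 4, 5, 3, 4, 2, 3, 8, 0, 1, 2, 3, 4, 5, 6, 7] [1, 2, 3, 8, 4, 5, 3, 4, 2, 3, 8, 6, 7, 5, 6, 4, 5, 3, 4, 2, 3, 8, 0, 1, 2, 3, 4, 5, 6, 7] [7] 2400 2400 3511 _ rfl (by norm_num) (by decide +kernel) (EqsP.join (EqsP.join (EqsP.join (EqsP.join (EqsP.join (EqsP.join (EqsP.join (EqsP.join (EqsP.join (EqsP.join (EqsP.join (EqsP.join (EqsP.join (EqsP.join e1_0 e1_1) e1_2) e1_3) e1_4) e1_5) e1_6) e1_7) e1_8) e1_9) e1_10) e1_11) e1_12) e1_13) e1_14) (EqsP.join (EqsP.join e2_0 e2_5) e2_10)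
    (apply_eq_of Fi23.ok (by norm_num) (by decide +kernel))
    (apply_eq_of Fi23.ok (by norm_num) (by decide +kernel)) (apply_eq_of Fi23.ok (by norm_num) (by decide +kernel))
    (ne_of_run Fi23.ok _ _ 3511 (by decide +kernel)) (ne_of_run Fi23.ok _ _ 3511 (by decide +kernel))

end Cfsg.Agent.FiC.F23
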