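import Cfsg.Agent.FiC.F23.Iso
import Cfsg.Agent.FiC.Tup

set_option autoImplicit false
set_option maxRecDepth 100000
set_option Elab.async false
set_option linter.unusedSectionVars false

namespace Cfsg.Agent.FiC.F23
open Cfsg.Agent.Comp Cfsg.Agent.FiC

variable {G : Type*} [Group G] [Finite G] {D : Set G} {τ s : ℕ → G}

theorem tr1 (b : Base D τ s d0 4089470473293004800) : TrU D s [[nat_lit 20]] :=
  b.trU (TrU.nil _ _) _ (nat_lit 0) [[nat_lit 0], [nat_lit 14], [nat_lit 22], [nat_lit 24], [nat_lit 26], [nat_lit 28], [nat_lit 30], [nat_lit 34], [nat_lit 40], [nat_lit 42], [nat_lit 44], [nat_lit 58], [nat_lit 60], [nat_lit 62]] [nat_lit 1, nat_lit 2, nat_lit 3, nat_lit 4, nat_lit 11, nat_lit 12, nat_lit 5, nat_lit 9, nat_lit 13, nat_lit 10, nat_lit 6, nat_lit 7, nat_lit 2, nat_lit 11, nat_lit 8, nat_lit 9, nat_lit 5, nat_lit 6, nat_lit 0] (by decide +kernel)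

theorem tr2 (b : Base D τ s d0 4089470473293004800) : TrU D s [[nat_lit 0], [nat_lit 20]] :=
  b.trU (tr1 b) _ (nat_lit 1) [[nat_lit 2], [nat_lit 28], [nat_lit 30], [nat_lit 32], [nat_lit 34], [nat_lit 38], [nat_lit 40], [nat_lit 42], [nat_lit 44], [nat_lit 46], [nat_lit 50]] [nat_lit 0, nat_lit 1, nat_lit 2, nat_lit 3, nat_lit 4, nat_lit 6, nat_lit 9, nat_lit 10, nat_lit 7, nat_lit 1, nat_lit 2, nat_lit 5, nat_lit 4, nat_lit 8, nat_lit 3] (by decide +kernel)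

theorem tr3 (b : Base D τ s d0 4089470473293004800) : TrU D s [[nat_lit 4], [nat_lit 0], [nat_lit 20]] :=
  b.trU (tr2 b) _ (nat_lit 3) [[nat_lit 4], [nat_lit 6], [nat_lit 34], [nat_lit 38], [nat_lit 40], [nat_lit 42], [nat_lit 44], [nat_lit 50], [nat_lit 52], [nat_lit 54]] [nat_lit 1, nat_lit 2, nat_lit 3, nat_lit 4, nat_lit 6, nat_lit 8, nat_lit 7, nat_lit 5, nat_lit 3, nat_lit 9, nat_lit 6, nat_lit 4, nat_lit 0] (by decide +kernel)

theorem yge1 (b : Base D τ s d0 4089470473293004800) : GE s [[nat_lit 55, nat_lit 8, nat_lit 32, nat_lit 44, nat_lit 50, nat_lit 6, nat_lit 43, nat_lit 45, nat_lit 40, nat_lit 47, nat_lit 54, nat_lit 44, nat_lit 52, nat_lit 54, nat_lit 54], [nat_lit 45, nat_lit 38, nat_lit 38, nat_lit 28, nat_lit 50, nat_lit 42, nat_lit 6, nat_lit 43, nat_lit 43, nat_lit 47, nat_lit 52, nat_lit 44, nat_lit 0, nat_lit 18, nat_lit 52], [nat_lit 43, nat_lit 29, nat_lit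 40, nat_lit 2, nat_lit 38, nat_lit 35, nat_lit 45, nat_lit 40, nat_lit 55, nat_lit 53, nat_lit 44, nat_lit 20]] 27 :=
  GE.step b.x (GE.base []) _ [] (nat_lit 1) [nat_lit 2, nat_lit 0, nat_lit 1, nat_lit 2, nat_lit 0, nat_lit 1] (nat_lit 27) 27 (by decide +kernel)

theorem yge2 (b : Base D τ s d0 4089470473293004800) : GE s [[nat_lit 16, nat_lit 18], [nat_lit 4, nat_lit 2, nat_lit 10, nat_lit 48, nat_lit 20, nat_lit 18], [nat_lit 4, nat_lit 2, nat_lit 10, nat_lit 4, nat_lit 18, nat_lit 48, nat_lit 20, nat_lit 18], [nat_lit 39, nat_lit 28, nat_lit 31, nat_lit 36, nat_lit 16, nat_lit 6, nat_lit 41, nat_lit 42, nat_lit 47, nat_lit 16, nat_lit 44, nat_lit 0, nat_lit 50], [nat_lit 38, nat_lit 44, nat_lit 31, nat_lit 18, nat_lit 6, nat_lit 38, nat_lit 44, nat_lit 41, nat_lit 52, nat_lit 47, nat_lit 45, nat_lit 45, nat_lit 53, nat_lit 16, nat_lit 54, nat_lit 18], [nat_lit 6, nat_lit 10, nat_lit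 29, nat_lit 39, nat_lit 45, nat_lit 6, nat_lit 55, nat_lit 46, nat_lit 10, nat_lit 50, nat_lit 47, nat_lit 44, nat_lit 18, nat_lit 50, nat_lit 54], [nat_lit 30, nat_lit 42, nat_lit 28, nat_lit 53, nat_lit 40, nat_lit 6, nat_lit 18, nat_lit 40, nat_lit 12, nat_lit 45, nat_lit 47, nat_lit 50, nat_lit 54, nat_lit 18]] 209952 :=
  GE.step b.x (yge1 b) _ [([nat_lit 55, nat_lit 8, nat_lit 32, nat_lit 44, nat_lit 50, nat_lit 6, nat_lit 43, nat_lit 45, nat_lit 40, nat_lit 47, nat_lit 54, nat_lit 44, nat_lit 52, nat_lit 54, nat_lit 54], [nat_lit 7, nat_lit 0, nat_lit 9]), ([nat_lit 45, nat_lit 38, nat_lit 38, nat_lit 28, nat_lit 50, nat_lit 42, nat_lit 6, nat_lit 43, nat_lit 43, nat_lit 47, nat_lit 52, nat_lit 44, nat_lit 0, nat_lit 18, nat_lit 52], [nat_lit 13, nat_lit 15, nat_lit 7, nat_lit 3]), ([nat_lit 43, nat_lit 29, nat_lit 40, nat_lit 2, nat_lit 38, nat_lit 35, nat_lit 45, nat_lit 40,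 nat_lit 55, nat_lit 53, nat_lit 44, nat_lit 20], [nat_lit 4, nat_lit 15, nat_lit 17, nat_lit 8])] (nat_lit 4740) [nat_lit 0, nat_lit 0, nat_lit 1, nat_lit 2, nat_lit 1, nat_lit 2, nat_lit 3, nat_lit 0, nat_lit 0, nat_lit 2, nat_lit 6, nat_lit 0, nat_lit 5, nat_lit 0, nat_lit 2, nat_lit 6, nat_lit 6, nat_lit 0, nat_lit 6, nat_lit 0, nat_lit 1, nat_lit 2] (nat_lit 7776) 209952 (by decide +kernel)

theorem yge3 (b : Base D τ s d0 4089470473293004800) : GE s [[nat_lit 2, nat_lit 18, nat_lit 16, nat_lit 6, nat_lit 8, nat_lit 10, nat_lit 4, nat_lit 18, nat_lit 16, nat_lit 18], [nat_lit 19, nat_lit 55, nat_lit 49, nat_lit 52, nat_lit 1, nat_lit 45, nat_lit 51, nat_lit 45, nat_lit 40, nat_lit 53, nat_lit 43, nat_lit 38, nat_lit 55, nat_lit 30, nat_lit 38, nat_lit 34], [nat_lit 16, nat_lit 18]] 4585351680 :=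
  GE.step b.x (yge2 b) _ [([nat_lit 4, nat_lit 2, nat_lit 10, nat_lit 48, nat_lit 20, nat_lit 18], [nat_lit 1, nat_lit 5, nat_lit 0, nat_lit 5, nat_lit 1]), ([nat_lit 4, nat_lit 2, nat_lit 10, nat_lit 4, nat_lit 18, nat_lit 48, nat_lit 20, nat_lit 18], [nat_lit 5, nat_lit 6, nat_lit 4, nat_lit 6, nat_lit 3]), ([nat_lit 39, nat_lit 28, nat_lit 31, nat_lit 36, nat_lit 16, nat_lit 6, nat_lit 41, nat_lit 42, nat_lit 47, nat_lit 16, nat_lit 44, nat_lit 0, nat_lit 50], [nat_lit 5, nat_lit 5, nat_lit 9, nat_lit 5, nat_lit 9, nat_lit 5, nat_lit 5]), ([nat_lit 38, nat_lit 44, nat_lit 31, nat_lit 18, nat_lit 6, nat_lit 38, nat_lit 44, nat_lit 41, nat_lit 52, nat_lit 47, nat_lit 45, nat_lit 45, nat_lit 53, nat_lit 16, nat_lit 54, nat_lit 18], [nat_lit 7, nat_lit 10, nat_lit 7, nat_lit 11, nat_lit 7, nat_lit 7, nat_lit 10, nat_lit 7, nat_lit 11, nat_lit 7]), ([nat_lit 6, nat_lit 10, nat_lit 29,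 nat_lit 39, nat_lit 45, nat_lit 6, nat_lit 55, nat_lit 46, nat_lit 10, nat_lit 50, nat_lit 47, nat_lit 44, nat_lit 18, nat_lit 50, nat_lit 54], [nat_lit 9, nat_lit 10, nat_lit 13, nat_lit 11, nat_lit 11, nat_lit 8]), ([nat_lit 30, nat_lit 42, nat_lit 28, nat_lit 53, nat_lit 40, nat_lit 6, nat_lit 18, nat_lit 40, nat_lit 12, nat_lit 45, nat_lit 47, nat_lit 50, nat_lit 54, nat_lit 18], [nat_lit 11, nat_lit 11, nat_lit 12, nat_lit 15, nat_lit 10, nat_lit 14, nat_lit 10, nat_lit 12])] (nat_lit 3713) [nat_lit 0, nat_lit 2, nat_lit 2, nat_lit 0, nat_lit 2, nat_lit 2, nat_lit 0, nat_lit 2, nat_lit 1, nat_lit 2, nat_lit 2, nat_lit 0, nat_lit 2, nat_lit 2, nat_lit 0, nat_lit 2, nat_lit 2, nat_lit 0, nat_lit 2, nat_lit 2, nat_lit 0, nat_lit 2, nat_lit 2, nat_lit 0, nat_lit 2, nat_lit 2, nat_lit 0, nat_lit 2, nat_lit 1, nat_lit 2, nat_lit 2, nat_lit 0] (nat_lit 21840) 4585351680 (by decide +kernel)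

theorem yge4 (b : Base D τ s d0 4089470473293004800) : GE s [[nat_lit 19, nat_lit 1, nat_lit 11, nat_lit 9, nat_lit 7, nat_lit 3], [nat_lit 4, nat_lit 0, nat_lit 16, nat_lit 18]] 4585351680 :=
  GE.sub b.x (yge3 b) _ [([nat_lit 2, nat_lit 18, nat_lit 16, nat_lit 6, nat_lit 8, nat_lit 10, nat_lit 4, nat_lit 18, nat_lit 16, nat_lit 18], [nat_lit 3, nat_lit 3, nat_lit 3, nat_lit 3, nat_lit 1, nat_lit 2]), ([nat_lit 19, nat_lit 55, nat_lit 49, nat_lit 52, nat_lit 1, nat_lit 45, nat_lit 51, nat_lit 45, nat_lit 40, nat_lit 53, nat_lit 43, nat_lit 38, nat_lit 55, nat_lit 30, nat_lit 38, nat_lit 34], [nat_lit 2, nat_lit 2, nat_lit 3, nat_lit 5, nat_lit 3, nat_lit 4]), ([nat_lit 16, nat_lit 18], [nat_lit 7, nat_lit 6, nat_lit 7, nat_lit 7, nat_lit 6, nat_lit 7])] (by decide +kernel)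

theorem yge5 (b : Base D τ s d0 4089470473293004800) : GE s [[nat_lit 19, nat_lit 1, nat_lit 11, nat_lit 9, nat_lit 7, nat_lit 3], [nat_lit 4, nat_lit 0, nat_lit 16, nat_lit 18], [nat_lit 8, nat_lit 12]] 129123503308800 :=
  GE.step b.x (yge4 b) _ [] (nat_lit 3511) [nat_lit 2, nat_lit 0, nat_lit 1, nat_lit 0, nat_lit 2, nat_lit 1, nat_lit 0, nat_lit 1, nat_lit 2, nat_lit 0, nat_lit 1, nat_lit 2, nat_lit 0, nat_lit 1, nat_lit 2, nat_lit 0, nat_lit 2, nat_lit 1, nat_lit 0, nat_lit 2, nat_lit 1, nat_lit 0, nat_lit 2, nat_lit 1, nat_lit 0, nat_lit 2, nat_lit 1, nat_lit 0, nat_lit 2, nat_lit 1, nat_lit 0, nat_lit 2, nat_lit 1, nat_lit 0, nat_lit 2, nat_lit 1] (nat_lit 28160) 129123503308800 (by decide +kernel)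

theorem yge6 (b : Base D τ s d0 4089470473293004800) : GE s [[nat_lit 16], [nat_lit 6], [nat_lit 8], [nat_lit 10], [nat_lit 4], [nat_lit 2], [nat_lit 12], [nat_lit 18], [nat_lit 0]] 129123503308800 :=
  GE.sub b.x (yge5 b) _ [([nat_lit 19, nat_lit 1, nat_lit 11, nat_lit 9, nat_lit 7, nat_lit 3], [nat_lit 7, nat_lit 17, nat_lit 4, nat_lit 11, nat_lit 15, nat_lit 2]), ([nat_lit 4, nat_lit 0, nat_lit 16, nat_lit 18], [nat_lit 2, nat_lit 17, nat_lit 10, nat_lit 19, nat_lit 9, nat_lit 8]), ([nat_lit 8, nat_lit 12], [nat_lit 19, nat_lit 21, nat_lit 21, nat_lit 19, nat_lit 16, nat_lit 8])] (by decide +kernel)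

noncomputable def caW : List (List Nat) := [[nat_lit 16], [nat_lit 6], [nat_lit 8], [nat_lit 10], [nat_lit 4], [nat_lit 2], [nat_lit 12], [nat_lit 18], [nat_lit 0]]

theorem ca (b : Base D τ s d0 4089470473293004800) : Cen ⊤ s [[nat_lit 20]] = genW (sv s) caW ∧ Nat.card (genW (sv s) caW) = 129123503308800 :=
  CU.eq b.x le_rfl (zcu8 b) (yge6 b) (nat_lit 1) (by decide +kernel)

theorem cla (b : Base D τ s d0 4089470473293004800) : Subgroup.closure {y : G | y ∈ D ∧ y ≠ E s [nat_lit 20] ∧ Commute (E s [nat_lit 20]) y} = genW (sv s) caW :=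
  b.closure_eq _ _ (fun _ h => h.1) (b.cm_mem _) _ [([nat_lit 16], [nat_lit 1, nat_lit 7, nat_lit 0, nat_lit 2, nat_lit 4, nat_lit 3, nat_lit 5, nat_lit 1, nat_lit 6, nat_lit 8, nat_lit 2, nat_lit 4, nat_lit 0, nat_lit 1, nat_lit 3, nat_lit 5, nat_lit 0, nat_lit 2, nat_lit 4, nat_lit 7, nat_lit 1, nat_lit 3, nat_lit 5, nat_lit 6, nat_lit 8, nat_lit 0, nat_lit 7, nat_lit 2, nat_lit 4, nat_lit 1, nat_lit 3, nat_lit 5, nat_lit 6, nat_lit 8, nat_lit 2, nat_lit 0, nat_lit 3, nat_lit 1, nat_lit 2])] (by decide +kernel)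

theorem perfa (b : Base D τ s d0 4089470473293004800) : Group.IsPerfect (genW (sv s) caW) :=
  Cx.perfect b.x _ [nat_lit 16] [nat_lit 1, nat_lit 7, nat_lit 0, nat_lit 2, nat_lit 4, nat_lit 3, nat_lit 5, nat_lit 1, nat_lit 6, nat_lit 8, nat_lit 2, nat_lit 4, nat_lit 0, nat_lit 1, nat_lit 3, nat_lit 5, nat_lit 0, nat_lit 2, nat_lit 4, nat_lit 7, nat_lit 1, nat_lit 3, nat_lit 5, nat_lit 6, nat_lit 8, nat_lit 0, nat_lit 7, nat_lit 2, nat_lit 4, nat_lit 1, nat_lit 3, nat_lit 5, nat_lit 6, nat_lit 8, nat_lit 2, nat_lit 0, nat_lit 3, nat_lit 1, nat_lit 2] [nat_lit 10, nat_lit 4, nat_lit 2, nat_lit 8, nat_lit 6, nat_lit 16, nat_lit 0, nat_lit 10, nat_lit 4, nat_lit 2, nat_lit 8, nat_lit 6, nat_lit 16, nat_lit 0, nat_lit 10, nat_lit 4, nat_lit 2, nat_lit 8, nat_lit 6, nat_lit 16, nat_lit 0, nat_lit 10, nat_lit 4, nat_lit 2, nat_lit 8, nat_lit 6, nat_lit 16, nat_lit 0, nat_lit 10, nat_lit 4,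 nat_lit 2, nat_lit 8, nat_lit 6, nat_lit 16, nat_lit 0, nat_lit 10, nat_lit 4, nat_lit 2, nat_lit 8, nat_lit 6, nat_lit 16, nat_lit 0, nat_lit 10, nat_lit 4, nat_lit 2, nat_lit 8, nat_lit 6, nat_lit 16, nat_lit 0, nat_lit 10, nat_lit 4, nat_lit 2, nat_lit 8, nat_lit 6, nat_lit 16, nat_lit 0, nat_lit 10, nat_lit 4, nat_lit 2, nat_lit 8, nat_lit 6, nat_lit 16, nat_lit 0] (by decide +kernel)

theorem ycu7 (b : Base D τ s d0 4089470473293004800) : CU ⊤ s [[nat_lit 23, nat_lit 10, nat_lit 22], [nat_lit 6], [nat_lit 2], [nat_lit 8], [nat_lit 4], [nat_lit 0], [nat_lit 20]] 2 :=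
  CU.down b.x le_rfl (zcu23 b) (nat_lit 63) [[nat_lit 12], [nat_lit 18], [nat_lit 20], [nat_lit 54]] [nat_lit 23, nat_lit 10, nat_lit 22] [nat_lit 0, nat_lit 1, nat_lit 2, nat_lit 3] (nat_lit 12) 2 (by decide +kernel)

theorem ycu8 (b : Base D τ s d0 4089470473293004800) : CU ⊤ s [[nat_lit 16], [nat_lit 6], [nat_lit 8], [nat_lit 10], [nat_lit 4], [nat_lit 2], [nat_lit 12], [nat_lit 18], [nat_lit 0]] 2 :=
  CU.mono b.x le_rfl (ycu7 b) [[nat_lit 16], [nat_lit 6], [nat_lit 8], [nat_lit 10], [nat_lit 4], [nat_lit 2], [nat_lit 12], [nat_lit 18], [nat_lit 0]] [nat_lit 21, nat_lit 9, nat_lit 53, nat_lit 19, nat_lit 1, nat_lit 44, nat_lit 40, nat_lit 35, nat_lit 17, nat_lit 44, nat_lit 3, nat_lit 29, nat_lit 3, nat_lit 44, nat_lit 23, nat_lit 66] [[nat_lit 8], [nat_lit 6], [nat_lit 2], [nat_lit 12], [nat_lit 4], [nat_lit 0], [nat_lit 10]] (by decide +kernel)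

theorem yge9 (b : Base D τ s d0 4089470473293004800) : GE s [[nat_lit 20]] 2 :=
  GE.step b.x (GE.base []) _ [] (nat_lit 3511) [nat_lit 0] (nat_lit 2) 2 (by decide +kernel)

theorem zca (b : Base D τ s d0 4089470473293004800) : Cen ⊤ s caW = genW (sv s) [[nat_lit 20]] :=
  (CU.eq b.x le_rfl (ycu8 b) (yge9 b) (nat_lit 511) (by decide +kernel)).1

theorem yge10 (b : Base D τ s d0 4089470473293004800) : GE s [[nat_lit 18, nat_lit 43, nat_lit 53, nat_lit 6, nat_lit 52, nat_lit 42, nat_lit 16, nat_lit 18], [nat_lit 48, nat_lit 34, nat_lit 54, nat_lit 41, nat_lit 41, nat_lit 44, nat_lit 47, nat_lit 4, nat_lit 16, nat_lit 53, nat_lit 55], [nat_lit 18, nat_lit 16, nat_lit 18], [nat_lit 6, nat_lit 34, nat_lit 41, nat_lit 41, nat_lit 45, nat_lit 50, nat_lit 44, nat_lit 55, nat_lit 52, nat_lit 20, nat_lit 18], [nat_lit 35, nat_lit 48, nat_lit 34, nat_lit 10, nat_lit 54, nat_lit 41, nat_lit 55,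 nat_lit 45, nat_lit 16, nat_lit 53, nat_lit 55, nat_lit 12]] 96 :=
  GE.step b.x (GE.base []) _ [] (nat_lit 18) [nat_lit 2, nat_lit 0, nat_lit 1, nat_lit 3, nat_lit 4, nat_lit 3, nat_lit 4, nat_lit 4] (nat_lit 96) 96 (by decide +kernel)

theorem yge11 (b : Base D τ s d0 4089470473293004800) : GE s [[nat_lit 6, nat_lit 10, nat_lit 18, nat_lit 16, nat_lit 18], [nat_lit 54, nat_lit 10, nat_lit 34, nat_lit 47, nat_lit 16, nat_lit 40, nat_lit 46, nat_lit 52, nat_lit 47, nat_lit 48, nat_lit 53, nat_lit 54], [nat_lit 18, nat_lit 43, nat_lit 53, nat_lit 6, nat_lit 52, nat_lit 42, nat_lit 16, nat_lit 18], [nat_lit 48, nat_lit 34, nat_lit 54, nat_lit 41, nat_lit 41, nat_lit 44, nat_lit 47, nat_lit 4, nat_lit 16, nat_lit 53, nat_lit 55], [nat_lit 50, nat_lit 43, nat_lit 10, nat_lit 44, nat_lit 47, nat_lit 4, nat_lit 54, nat_lit 16, nat_lit 55, nat_lit 55, nat_lit 18], [nat_lit 13, nat_lit 17,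 nat_lit 52, nat_lit 45, nat_lit 55, nat_lit 46, nat_lit 40, nat_lit 40, nat_lit 49, nat_lit 37, nat_lit 35, nat_lit 43]] 1451520 :=
  GE.step b.x (yge10 b) _ [([nat_lit 18, nat_lit 16, nat_lit 18], [nat_lit 3, nat_lit 0, nat_lit 0, nat_lit 3, nat_lit 1, nat_lit 1, nat_lit 2]), ([nat_lit 6, nat_lit 34, nat_lit 41, nat_lit 41, nat_lit 45, nat_lit 50, nat_lit 44, nat_lit 55, nat_lit 52, nat_lit 20, nat_lit 18], [nat_lit 5, nat_lit 11, nat_lit 2, nat_lit 2, nat_lit 6, nat_lit 4, nat_lit 2]), ([nat_lit 35, nat_lit 48, nat_lit 34, nat_lit 10, nat_lit 54, nat_lit 41, nat_lit 55, nat_lit 45, nat_lit 16, nat_lit 53, nat_lit 55, nat_lit 12], [nat_lit 15, nat_lit 7, nat_lit 9, nat_lit 15, nat_lit 5, nat_lit 12])] (nat_lit 8564) [nat_lit 0, nat_lit 0, nat_lit 4, nat_lit 0, nat_lit 2, nat_lit 0, nat_lit 1, nat_lit 0, nat_lit 5, nat_lit 0, nat_lit 2, nat_lit 0, nat_lit 4, nat_lit 0, nat_lit 5, nat_lit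 0, nat_lit 2, nat_lit 0, nat_lit 5, nat_lit 0, nat_lit 0, nat_lit 2, nat_lit 0, nat_lit 0] (nat_lit 15120) 1451520 (by decide +kernel)

theorem yge12 (b : Base D τ s d0 4089470473293004800) : GE s [[nat_lit 41, nat_lit 36, nat_lit 39, nat_lit 41, nat_lit 55, nat_lit 10, nat_lit 44, nat_lit 44, nat_lit 44, nat_lit 50, nat_lit 48, nat_lit 12], [nat_lit 12, nat_lit 50, nat_lit 34, nat_lit 10, nat_lit 46, nat_lit 45, nat_lit 54, nat_lit 16, nat_lit 54], [nat_lit 6, nat_lit 10, nat_lit 18, nat_lit 16, nat_lit 18]] 36787322880 :=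
  GE.step b.x (yge11 b) _ [([nat_lit 54, nat_lit 10, nat_lit 34, nat_lit 47, nat_lit 16, nat_lit 40, nat_lit 46, nat_lit 52, nat_lit 47, nat_lit 48, nat_lit 53, nat_lit 54], [nat_lit 2, nat_lit 4, nat_lit 4, nat_lit 4, nat_lit 3]), ([nat_lit 18, nat_lit 43, nat_lit 53, nat_lit 6, nat_lit 52, nat_lit 42, nat_lit 16, nat_lit 18], [nat_lit 3, nat_lit 6, nat_lit 3, nat_lit 3, nat_lit 7, nat_lit 2]), ([nat_lit 48, nat_lit 34, nat_lit 54, nat_lit 41, nat_lit 41, nat_lit 44, nat_lit 47, nat_lit 4, nat_lit 16, nat_lit 53, nat_lit 55], [nat_lit 7, nat_lit 7, nat_lit 8, nat_lit 8, nat_lit 8, nat_lit 6, nat_lit 6]), ([nat_lit 50, nat_lit 43, nat_lit 10, nat_lit 44, nat_lit 47, nat_lit 4, nat_lit 54, nat_lit 16, nat_lit 55, nat_lit 55, nat_lit 18], [nat_lit 9, nat_lit 9, nat_lit 11, nat_lit 6, nat_lit 6, nat_lit 10, nat_lit 8, nat_lit 8]), ([nat_lit 13, nat_lit 17, nat_lit 52, nat_lit 45, nat_lit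 55, nat_lit 46, nat_lit 40, nat_lit 40, nat_lit 49, nat_lit 37, nat_lit 35, nat_lit 43], [nat_lit 11, nat_lit 11, nat_lit 13, nat_lit 11, nat_lit 12, nat_lit 11, nat_lit 13, nat_lit 11, nat_lit 12, nat_lit 10])] (nat_lit 4415) [nat_lit 1, nat_lit 2, nat_lit 0, nat_lit 2, nat_lit 1, nat_lit 2, nat_lit 0, nat_lit 2, nat_lit 1, nat_lit 2, nat_lit 1, nat_lit 2, nat_lit 0, nat_lit 2, nat_lit 1, nat_lit 2, nat_lit 2, nat_lit 1, nat_lit 2, nat_lit 2, nat_lit 1, nat_lit 2, nat_lit 2, nat_lit 1] (nat_lit 25344) 36787322880 (by decide +kernel)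

theorem yge13 (b : Base D τ s d0 4089470473293004800) : GE s [[nat_lit 16], [nat_lit 6], [nat_lit 8], [nat_lit 10], [nat_lit 4], [nat_lit 12], [nat_lit 18], [nat_lit 45, nat_lit 18, nat_lit 44]] 36787322880 :=
  GE.sub b.x (yge12 b) _ [([nat_lit 41, nat_lit 36, nat_lit 39, nat_lit 41, nat_lit 55, nat_lit 10, nat_lit 44, nat_lit 44, nat_lit 44, nat_lit 50, nat_lit 48, nat_lit 12], [nat_lit 2, nat_lit 14, nat_lit 3, nat_lit 0, nat_lit 10, nat_lit 2, nat_lit 10]), ([nat_lit 12, nat_lit 50, nat_lit 34, nat_lit 10, nat_lit 46, nat_lit 45, nat_lit 54, nat_lit 16, nat_lit 54], [nat_lit 16, nat_lit 5, nat_lit 10, nat_lit 7, nat_lit 15, nat_lit 2, nat_lit 9]), ([nat_lit 6, nat_lit 10, nat_lit 18, nat_lit 16, nat_lit 18], [nat_lit 6, nat_lit 10, nat_lit 19, nat_lit 4, nat_lit 19, nat_lit 17, nat_lit 5])] (by decide +kernel)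

noncomputable def ccaW : List (List Nat) := [[nat_lit 16], [nat_lit 6], [nat_lit 8], [nat_lit 10], [nat_lit 4], [nat_lit 12], [nat_lit 18], [nat_lit 45, nat_lit 18, nat_lit 44]]

theorem cca (b : Base D τ s d0 4089470473293004800) : Cen ⊤ s [[nat_lit 0], [nat_lit 20]] = genW (sv s) ccaW ∧ Nat.card (genW (sv s) ccaW) = 36787322880 :=
  CU.eq b.x le_rfl (zcu9 b) (yge13 b) (nat_lit 3) (by decide +kernel)

theorem perfca (b : Base D τ s d0 4089470473293004800) : Group.IsPerfect (genW (sv s) ccaW) :=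
  Cx.perfect b.x _ [nat_lit 16] [nat_lit 1, nat_lit 6, nat_lit 0, nat_lit 2, nat_lit 4, nat_lit 3, nat_lit 1, nat_lit 5, nat_lit 7, nat_lit 6, nat_lit 1, nat_lit 0, nat_lit 2, nat_lit 4, nat_lit 3, nat_lit 1, nat_lit 6, nat_lit 5, nat_lit 2, nat_lit 0, nat_lit 3, nat_lit 1, nat_lit 4, nat_lit 1, nat_lit 0, nat_lit 6] [nat_lit 0, nat_lit 4, nat_lit 10, nat_lit 12, nat_lit 14, nat_lit 8, nat_lit 2, nat_lit 0, nat_lit 4, nat_lit 10, nat_lit 12, nat_lit 14, nat_lit 8, nat_lit 2, nat_lit 0, nat_lit 4, nat_lit 10, nat_lit 12, nat_lit 14, nat_lit 8, nat_lit 2, nat_lit 0, nat_lit 4, nat_lit 10, nat_lit 12, nat_lit 14, nat_lit 8, nat_lit 2, nat_lit 0, nat_lit 4, nat_lit 10, nat_lit 12, nat_lit 14, nat_lit 8, nat_lit 2, nat_lit 0, nat_lit 4, nat_lit 10, nat_lit 12, nat_lit 14, nat_lit 8, nat_lit 2, nat_lit 0, nat_lit 4, nat_lit 10, nat_lit 12, nat_lit 14, nat_lit 8, nat_lit 2, nat_lit 0, nat_lit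 4, nat_lit 10, nat_lit 12, nat_lit 14, nat_lit 8, nat_lit 2, nat_lit 0, nat_lit 4, nat_lit 10, nat_lit 12, nat_lit 14, nat_lit 8, nat_lit 2] (by decide +kernel)

theorem ycu14 (b : Base D τ s d0 4089470473293004800) : CU ⊤ s [[nat_lit 55, nat_lit 55, nat_lit 56, nat_lit 54, nat_lit 54], [nat_lit 2], [nat_lit 8], [nat_lit 4], [nat_lit 0], [nat_lit 20]] 8 :=
  CU.down b.x le_rfl (zcu12 b) (nat_lit 31) [[nat_lit 8], [nat_lit 12], [nat_lit 16], [nat_lit 20], [nat_lit 50], [nat_lit 52]] [nat_lit 55, nat_lit 55, nat_lit 56, nat_lit 54, nat_lit 54] [nat_lit 0, nat_lit 1, nat_lit 2, nat_lit 3, nat_lit 4, nat_lit 5, nat_lit 5] (nat_lit 96) 8 (by decide +kernel)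

theorem ycu15 (b : Base D τ s d0 4089470473293004800) : CU ⊤ s [[nat_lit 39, nat_lit 61, nat_lit 8, nat_lit 60, nat_lit 38], [nat_lit 55, nat_lit 55, nat_lit 56, nat_lit 54, nat_lit 54], [nat_lit 2], [nat_lit 8], [nat_lit 4], [nat_lit 0], [nat_lit 20]] 4 :=
  CU.down b.x le_rfl (ycu14 b) (nat_lit 63) [[nat_lit 8, nat_lit 55, nat_lit 18]] [nat_lit 39, nat_lit 61, nat_lit 8, nat_lit 60, nat_lit 38] [nat_lit 0] (nat_lit 2) 4 (by decide +kernel)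

theorem ycu16 (b : Base D τ s d0 4089470473293004800) : CU ⊤ s [[nat_lit 16], [nat_lit 6], [nat_lit 8], [nat_lit 10], [nat_lit 4], [nat_lit 12], [nat_lit 18], [nat_lit 45, nat_lit 18, nat_lit 44]] 4 :=
  CU.mono b.x le_rfl (ycu15 b) [[nat_lit 16], [nat_lit 6], [nat_lit 8], [nat_lit 10], [nat_lit 4], [nat_lit 12], [nat_lit 18], [nat_lit 45, nat_lit 18, nat_lit 44]] [nat_lit 55, nat_lit 55, nat_lit 9, nat_lit 53, nat_lit 5, nat_lit 46, nat_lit 17, nat_lit 43, nat_lit 19, nat_lit 7, nat_lit 41, nat_lit 51, nat_lit 31, nat_lit 54, nat_lit 35, nat_lit 15, nat_lit 67, nat_lit 51] [[nat_lit 12], [nat_lit 2], [nat_lit 6], [nat_lit 8], [nat_lit 10], [nat_lit 4], [nat_lit 0]] (by decide +kernel)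

theorem yge17 (b : Base D τ s d0 4089470473293004800) : GE s [[nat_lit 0], [nat_lit 20]] 4 :=
  GE.step b.x (GE.base []) _ [] (nat_lit 3518) [nat_lit 0, nat_lit 1] (nat_lit 4) 4 (by decide +kernel)

theorem zcca (b : Base D τ s d0 4089470473293004800) : Cen ⊤ s ccaW = genW (sv s) [[nat_lit 0], [nat_lit 20]] :=
  (CU.eq b.x le_rfl (ycu16 b) (yge17 b) (nat_lit 255) (by decide +kernel)).1

theorem clca (b : Base D τ s d0 4089470473293004800) : Subgroup.closure {y : G | y ∈ D ∧ Commute (E s [nat_lit 0]) y ∧ Commute (E s [nat_lit 20]) y ∧ y ≠ E s [nat_lit 0] ∧ y ≠ E s [nat_lit 20]} = genW (sv s) ccaW :=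
  b.closure_eq _ _ (fun _ h => h.1) (b.cm_mem2 _ _) _ [([nat_lit 16], [nat_lit 1, nat_lit 6, nat_lit 0, nat_lit 2, nat_lit 4, nat_lit 3, nat_lit 1, nat_lit 5, nat_lit 7, nat_lit 6, nat_lit 1, nat_lit 0, nat_lit 2, nat_lit 4, nat_lit 3, nat_lit 1, nat_lit 6, nat_lit 5, nat_lit 2, nat_lit 0, nat_lit 3, nat_lit 1, nat_lit 4, nat_lit 1, nat_lit 0, nat_lit 6])] (by decide +kernel)

theorem yge18 (b : Base D τ s d0 4089470473293004800) : GE s [[nat_lit 16]] 2 :=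
  GE.step b.x (GE.base []) _ [] (nat_lit 3) [nat_lit 0] (nat_lit 2) 2 (by decide +kernel)

theorem yge19 (b : Base D τ s d0 4089470473293004800) : GE s [[nat_lit 8], [nat_lit 12], [nat_lit 16], [nat_lit 18], [nat_lit 46, nat_lit 54, nat_lit 47, nat_lit 0, nat_lit 48, nat_lit 53, nat_lit 55], [nat_lit 47, nat_lit 45, nat_lit 45, nat_lit 0, nat_lit 53, nat_lit 48, nat_lit 54, nat_lit 12], [nat_lit 13, nat_lit 53, nat_lit 1, nat_lit 44, nat_lit 53, nat_lit 41, nat_lit 51, nat_lit 40]] 2304 :=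
  GE.step b.x (yge18 b) _ [] (nat_lit 166) [nat_lit 0, nat_lit 1, nat_lit 3, nat_lit 2, nat_lit 4, nat_lit 2, nat_lit 3, nat_lit 5, nat_lit 3, nat_lit 2, nat_lit 6, nat_lit 1, nat_lit 6, nat_lit 6] (nat_lit 1152) 2304 (by decide +kernel)

theorem yge20 (b : Base D τ s d0 4089470473293004800) : GE s [[nat_lit 0], [nat_lit 4], [nat_lit 8], [nat_lit 10], [nat_lit 12], [nat_lit 16], [nat_lit 18], [nat_lit 20], [nat_lit 40]] 53084160 :=
  GE.step b.x (yge19 b) _ [([nat_lit 46, nat_lit 54, nat_lit 47, nat_lit 0, nat_lit 48, nat_lit 53, nat_lit 55], [nat_lit 16, nat_lit 8, nat_lit 17]), ([nat_lit 47, nat_lit 45, nat_lit 45, nat_lit 0, nat_lit 53, nat_lit 48, nat_lit 54, nat_lit 12], [nat_lit 9, nat_lit 19, nat_lit 13, nat_lit 18, nat_lit 8]), ([nat_lit 13, nat_lit 53, nat_lit 1, nat_lit 44, nat_lit 53, nat_lit 41, nat_lit 51, nat_lit 40], [nat_lit 7, nat_lit 20, nat_lit 9, nat_lit 20, nat_lit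 11, nat_lit 12, nat_lit 21, nat_lit 18, nat_lit 10])] (nat_lit 3718) [nat_lit 0, nat_lit 1, nat_lit 3, nat_lit 7, nat_lit 8, nat_lit 2, nat_lit 8, nat_lit 4, nat_lit 5, nat_lit 6, nat_lit 8, nat_lit 3, nat_lit 2, nat_lit 8, nat_lit 5, nat_lit 4, nat_lit 8, nat_lit 3, nat_lit 8, nat_lit 6, nat_lit 2] (nat_lit 23040) 53084160 (by decide +kernel)

noncomputable def cecaW : List (List Nat) := [[nat_lit 0], [nat_lit 4], [nat_lit 8], [nat_lit 10], [nat_lit 12], [nat_lit 16], [nat_lit 18], [nat_lit 20], [nat_lit 40]]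

theorem ceca (b : Base D τ s d0 4089470473293004800) : Cen ⊤ s [[nat_lit 4], [nat_lit 0], [nat_lit 20]] = genW (sv s) cecaW ∧ Nat.card (genW (sv s) cecaW) = 53084160 :=
  CU.eq b.x le_rfl (zcu10 b) (yge20 b) (nat_lit 7) (by decide +kernel)

theorem ycu21 (b : Base D τ s d0 4089470473293004800) : CU ⊤ s [[nat_lit 35, nat_lit 30, nat_lit 2, nat_lit 31, nat_lit 34], [nat_lit 2], [nat_lit 8], [nat_lit 4], [nat_lit 0], [nat_lit 20]] 24 :=
  CU.down b.x le_rfl (zcu12 b) (nat_lit 31) [[nat_lit 12], [nat_lit 16], [nat_lit 18], [nat_lit 50], [nat_lit 52]] [nat_lit 35, nat_lit 30, nat_lit 2, nat_lit 31, nat_lit 34] [nat_lit 0, nat_lit 1, nat_lit 2, nat_lit 3, nat_lit 4, nat_lit 3] (nat_lit 32) 24 (by decide +kernel)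

theorem ycu22 (b : Base D τ s d0 4089470473293004800) : CU ⊤ s [[nat_lit 67, nat_lit 60, nat_lit 8, nat_lit 61, nat_lit 66], [nat_lit 35, nat_lit 30, nat_lit 2, nat_lit 31, nat_lit 34], [nat_lit 2], [nat_lit 8], [nat_lit 4], [nat_lit 0], [nat_lit 20]] 4 :=
  CU.down b.x le_rfl (ycu21 b) (nat_lit 63) [[nat_lit 20], [nat_lit 18, nat_lit 50, nat_lit 54], [nat_lit 55, nat_lit 55, nat_lit 18]] [nat_lit 67, nat_lit 60, nat_lit 8, nat_lit 61, nat_lit 66] [nat_lit 0, nat_lit 1, nat_lit 2] (nat_lit 6) 4 (by decide +kernel)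

theorem ycu23 (b : Base D τ s d0 4089470473293004800) : CU ⊤ s [[nat_lit 67, nat_lit 22, nat_lit 4, nat_lit 23, nat_lit 66], [nat_lit 67, nat_lit 60, nat_lit 8, nat_lit 61, nat_lit 66], [nat_lit 35, nat_lit 30, nat_lit 2, nat_lit 31, nat_lit 34], [nat_lit 2], [nat_lit 8], [nat_lit 4], [nat_lit 0], [nat_lit 20]] 2 :=
  CU.down b.x le_rfl (ycu22 b) (nat_lit 127) [[nat_lit 8]] [nat_lit 67, nat_lit 22, nat_lit 4, nat_lit 23, nat_lit 66] [nat_lit 0] (nat_lit 2) 2 (by decide +kernel)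

theorem ycu24 (b : Base D τ s d0 4089470473293004800) : CU ⊤ s [[nat_lit 8, nat_lit 30, nat_lit 14, nat_lit 31, nat_lit 9], [nat_lit 20, nat_lit 56, nat_lit 0, nat_lit 57, nat_lit 21], [nat_lit 58, nat_lit 36, nat_lit 33, nat_lit 0, nat_lit 32, nat_lit 37, nat_lit 59], [nat_lit 28, nat_lit 58, nat_lit 6, nat_lit 59, nat_lit 29], [nat_lit 4, nat_lit 27, nat_lit 56, nat_lit 26, nat_lit 5], [nat_lit 27, nat_lit 39, nat_lit 4, nat_lit 38, nat_lit 26], [nat_lit 27, nat_lit 10, nat_lit 26], [nat_lit 56]] 2 :=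
  CU.mono b.x le_rfl (ycu23 b) [[nat_lit 8, nat_lit 30, nat_lit 14, nat_lit 31, nat_lit 9], [nat_lit 20, nat_lit 56, nat_lit 0, nat_lit 57, nat_lit 21], [nat_lit 58, nat_lit 36, nat_lit 33, nat_lit 0, nat_lit 32, nat_lit 37, nat_lit 59], [nat_lit 28, nat_lit 58, nat_lit 6, nat_lit 59, nat_lit 29], [nat_lit 4, nat_lit 27, nat_lit 56, nat_lit 26, nat_lit 5], [nat_lit 27, nat_lit 39, nat_lit 4, nat_lit 38, nat_lit 26], [nat_lit 27, nat_lit 10, nat_lit 26], [nat_lit 56]] [nat_lit 33, nat_lit 28, nat_lit 14, nat_lit 12, nat_lit 30, nat_lit 50, nat_lit 35, nat_lit 6, nat_lit 44, nat_lit 54, nat_lit 10, nat_lit 54, nat_lit 46, nat_lit 54, nat_lit 50, nat_lit 55, nat_lit 12] [[nat_lit 6], [nat_lit 2], [nat_lit 12], [nat_lit 14], [nat_lit 4], [nat_lit 10], [nat_lit 8], [nat_lit 0]] (by decide +kernel)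

theorem ycu25 (b : Base D τ s d0 4089470473293004800) : CU ⊤ s [[nat_lit 4, nat_lit 27, nat_lit 56, nat_lit 26, nat_lit 5], [nat_lit 27, nat_lit 39, nat_lit 4, nat_lit 38, nat_lit 26], [nat_lit 27, nat_lit 10, nat_lit 26], [nat_lit 56], [nat_lit 0, nat_lit 20]] 2 :=
  CU.clo b.x [[nat_lit 4, nat_lit 27, nat_lit 56, nat_lit 26, nat_lit 5], [nat_lit 27, nat_lit 39, nat_lit 4, nat_lit 38, nat_lit 26], [nat_lit 27, nat_lit 10, nat_lit 26], [nat_lit 56], [nat_lit 0, nat_lit 20]] [[nat_lit 8, nat_lit 30, nat_lit 14, nat_lit 31, nat_lit 9], [nat_lit 20, nat_lit 56, nat_lit 0, nat_lit 57, nat_lit 21], [nat_lit 58, nat_lit 36, nat_lit 33, nat_lit 0, nat_lit 32, nat_lit 37, nat_lit 59], [nat_lit 28, nat_lit 58, nat_lit 6, nat_lit 59, nat_lit 29]] (CU.sub (ycu24 b) _ (by decide +kernel)) [nat_lit 0, nat_lit 1, nat_lit 2, nat_lit 3] [[nat_lit 0], [nat_lit 2], [nat_lit 4], [nat_lit 6], [nat_lit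 8]] [nat_lit 3, nat_lit 4, nat_lit 2, nat_lit 4, nat_lit 1, nat_lit 4] (by decide +kernel)

theorem ycu26 (b : Base D τ s d0 4089470473293004800) : CU ⊤ s [[nat_lit 27, nat_lit 39, nat_lit 4, nat_lit 38, nat_lit 26], [nat_lit 27, nat_lit 10, nat_lit 26], [nat_lit 56], [nat_lit 0, nat_lit 20]] 36 :=
  CU.up b.x le_rfl b.ns (ycu25 b) (nat_lit 7) [] (SE.diff (SE.diff (SE.and (SE.and (SE.and (SE.fx [nat_lit 0]) (SE.fx [nat_lit 6, nat_lit 4, nat_lit 7])) (SE.fx [nat_lit 6, nat_lit 0, nat_lit 7])) (SE.fx [nat_lit 6, nat_lit 2, nat_lit 7])) (SE.fx [nat_lit 4])) (SE.fx [nat_lit 2])) [] (nat_lit 18) 36 NCs.nil (by decide +kernel)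

theorem ycu27 (b : Base D τ s d0 4089470473293004800) : CU ⊤ s [[nat_lit 27, nat_lit 10, nat_lit 26], [nat_lit 56], [nat_lit 0, nat_lit 20]] 4608 :=
  CU.up b.x le_rfl b.ns (ycu26 b) (nat_lit 3) [] (SE.diff (SE.and (SE.and (SE.fx [nat_lit 0]) (SE.fx [nat_lit 4, nat_lit 2, nat_lit 5])) (SE.fx [nat_lit 4, nat_lit 0, nat_lit 5])) (SE.fx [nat_lit 2])) [] (nat_lit 128) 4608 NCs.nil (by decide +kernel)

theorem ycu28 (b : Base D τ s d0 4089470473293004800) : CU ⊤ s [[nat_lit 56], [nat_lit 0, nat_lit 20]] 2903040 :=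
  CU.up b.x le_rfl b.ns (ycu27 b) (nat_lit 1) [] (SE.diff (SE.diff (SE.diff (SE.and (SE.fx [nat_lit 0]) (SE.fx [nat_lit 2, nat_lit 0, nat_lit 3])) (SE.fx [nat_lit 2])) (SE.tp (nat_lit 0))) (SE.pre [nat_lit 2] (SE.tp (nat_lit 0)))) [] (nat_lit 630) 2903040 NCs.nil (by decide +kernel)

theorem ync29 (b : Base D τ s d0 4089470473293004800) : NC ⊤ s [[nat_lit 56], [nat_lit 0, nat_lit 20]] [[nat_lit 14], [nat_lit 0, nat_lit 20]] :=
  NC.pc b.x b.ns _ _ (SE.and (SE.fx [nat_lit 0]) (SE.pre [nat_lit 2] (SE.tp (nat_lit 0)))) (by decide +kernel)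

theorem ycu30 (b : Base D τ s d0 4089470473293004800) : CU ⊤ s [[nat_lit 0, nat_lit 20]] 73574645760 :=
  CU.up b.x le_rfl b.ns (ycu28 b) (nat_lit 0) [[nat_lit 4], [nat_lit 12], [nat_lit 20], [nat_lit 34], [nat_lit 38], [nat_lit 40], [nat_lit 42], [nat_lit 44], [nat_lit 48], [nat_lit 52], [nat_lit 54], [nat_lit 54, nat_lit 17, nat_lit 1, nat_lit 47, nat_lit 40, nat_lit 53, nat_lit 7, nat_lit 5, nat_lit 53, nat_lit 33, nat_lit 17, nat_lit 19, nat_lit 22, nat_lit 43, nat_lit 33, nat_lit 25]] (SE.diff SE.all (SE.fx [nat_lit 0])) [([nat_lit 14], [nat_lit 1, nat_lit 2, nat_lit 3, nat_lit 4, nat_lit 5, nat_lit 6, nat_lit 7, nat_lit 8, nat_lit 4, nat_lit 3, nat_lit 9, nat_lit 7, nat_lit 10, nat_lit 11, nat_lit 6, nat_lit 0])] (nat_lit 25344) 73574645760 (NCs.cons (ync29 b) NCs.nil) (by decide +kernel)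

theorem yge31 (b : Base D τ s d0 4089470473293004800) : GE s [[nat_lit 4], [nat_lit 8], [nat_lit 12], [nat_lit 54, nat_lit 52, nat_lit 45, nat_lit 13, nat_lit 55, nat_lit 11, nat_lit 41, nat_lit 45, nat_lit 39, nat_lit 52, nat_lit 33, nat_lit 17, nat_lit 19, nat_lit 22, nat_lit 43, nat_lit 33, nat_lit 25], [nat_lit 21, nat_lit 54, nat_lit 49, nat_lit 44, nat_lit 51, nat_lit 45, nat_lit 41, nat_lit 42, nat_lit 39, nat_lit 40, nat_lit 39]] 192 :=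
  GE.step b.x (GE.base []) _ [] (nat_lit 98) [nat_lit 0, nat_lit 1, nat_lit 2, nat_lit 4, nat_lit 3, nat_lit 4, nat_lit 3, nat_lit 4, nat_lit 3, nat_lit 4] (nat_lit 192) 192 (by decide +kernel)

theorem yge32 (b : Base D τ s d0 4089470473293004800) : GE s [[nat_lit 4], [nat_lit 6], [nat_lit 8], [nat_lit 10], [nat_lit 12], [nat_lit 18], [nat_lit 53, nat_lit 36, nat_lit 0, nat_lit 52], [nat_lit 24, nat_lit 32, nat_lit 42, nat_lit 23, nat_lit 18, nat_lit 16, nat_lit 32, nat_lit 43, nat_lit 34, nat_lit 34, nat_lit 42, nat_lit 52, nat_lit 47, nat_lit 0, nat_lit 53, nat_lit 55, nat_lit 20]] 2903040 :=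
  GE.step b.x (yge31 b) _ [([nat_lit 54, nat_lit 52, nat_lit 45, nat_lit 13, nat_lit 55, nat_lit 11, nat_lit 41, nat_lit 45, nat_lit 39, nat_lit 52, nat_lit 33, nat_lit 17, nat_lit 19, nat_lit 22, nat_lit 43, nat_lit 33, nat_lit 25], [nat_lit 3, nat_lit 5, nat_lit 7, nat_lit 5, nat_lit 13, nat_lit 2, nat_lit 0, nat_lit 15, nat_lit 4, nat_lit 2]), ([nat_lit 21, nat_lit 54, nat_lit 49, nat_lit 44, nat_lit 51, nat_lit 45, nat_lit 41, nat_lit 42, nat_lit 39, nat_lit 40, nat_lit 39], [nat_lit 15, nat_lit 7, nat_lit 17, nat_lit 3, nat_lit 8, nat_lit 17])] (nat_lit 3606) [nat_lit 1, nat_lit 3, nat_lit 5, nat_lit 2, nat_lit 0, nat_lit 4, nat_lit 1, nat_lit 3, nat_lit 0, nat_lit 4, nat_lit 2, nat_lit 6, nat_lit 0, nat_lit 2, nat_lit 5, nat_lit 1, nat_lit 3, nat_lit 4, nat_lit 2, nat_lit 6, nat_lit 0, nat_lit 2, nat_lit 3, nat_lit 4, nat_lit 1, nat_lit 2, nat_lit 6, nat_lit 5, nat_lit 3, nat_lit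 2, nat_lit 0] (nat_lit 15120) 2903040 (by decide +kernel)

theorem yge33 (b : Base D τ s d0 4089470473293004800) : GE s [[nat_lit 0], [nat_lit 4], [nat_lit 6], [nat_lit 8], [nat_lit 10], [nat_lit 12], [nat_lit 16], [nat_lit 18], [nat_lit 36], [nat_lit 24, nat_lit 32, nat_lit 42, nat_lit 23, nat_lit 18, nat_lit 16, nat_lit 32, nat_lit 34, nat_lit 52, nat_lit 40, nat_lit 45, nat_lit 52, nat_lit 46, nat_lit 0, nat_lit 54, nat_lit 50, nat_lit 18]] 73574645760 :=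
  GE.step b.x (yge32 b) _ [([nat_lit 53, nat_lit 36, nat_lit 0, nat_lit 52], [nat_lit 17, nat_lit 15, nat_lit 13, nat_lit 14, nat_lit 16]), ([nat_lit 24, nat_lit 32, nat_lit 42, nat_lit 23, nat_lit 18, nat_lit 16, nat_lit 32, nat_lit 43, nat_lit 34, nat_lit 34, nat_lit 42, nat_lit 52, nat_lit 47, nat_lit 0, nat_lit 53, nat_lit 55, nat_lit 20], [nat_lit 15, nat_lit 7, nat_lit 5, nat_lit 21, nat_lit 10, nat_lit 21, nat_lit 14, nat_lit 21])] (nat_lit 3518) [nat_lit 0, nat_lit 6, nat_lit 8, nat_lit 1, nat_lit 3, nat_lit 6, nat_lit 2, nat_lit 7, nat_lit 8, nat_lit 4, nat_lit 3, nat_lit 6, nat_lit 1, nat_lit 7, nat_lit 8, nat_lit 2, nat_lit 6, nat_lit 5, nat_lit 4, nat_lit 3, nat_lit 1, nat_lit 2, nat_lit 8, nat_lit 7, nat_lit 6, nat_lit 8, nat_lit 1] (nat_lit 25344) 73574645760 (by decide +kernel)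

noncomputable def c2bW : List (List Nat) := [[nat_lit 0], [nat_lit 4], [nat_lit 6], [nat_lit 8], [nat_lit 10], [nat_lit 12], [nat_lit 16], [nat_lit 18], [nat_lit 36], [nat_lit 24, nat_lit 32, nat_lit 42, nat_lit 23, nat_lit 18, nat_lit 16, nat_lit 32, nat_lit 34, nat_lit 52, nat_lit 40, nat_lit 45, nat_lit 52, nat_lit 46, nat_lit 0, nat_lit 54, nat_lit 50, nat_lit 18]]

theorem c2b (b : Base D τ s d0 4089470473293004800) : Cen ⊤ s [[nat_lit 0, nat_lit 20]] = genW (sv s) c2bW ∧ Nat.card (genW (sv s) c2bW) = 73574645760 :=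
  CU.eq b.x le_rfl (ycu30 b) (yge33 b) (nat_lit 0) (by decide +kernel)

theorem ycu34 (b : Base D τ s d0 4089470473293004800) : CU ⊤ s [[nat_lit 47, nat_lit 32, nat_lit 64, nat_lit 4, nat_lit 65, nat_lit 33, nat_lit 46], [nat_lit 2], [nat_lit 0], [nat_lit 20]] 648 :=
  CU.down b.x le_rfl (zcu13 b) (nat_lit 7) [[nat_lit 6], [nat_lit 8], [nat_lit 10], [nat_lit 12], [nat_lit 16], [nat_lit 18], [nat_lit 20], [nat_lit 48], [nat_lit 50], [nat_lit 52], [nat_lit 54]] [nat_lit 47, nat_lit 32, nat_lit 64, nat_lit 4, nat_lit 65, nat_lit 33, nat_lit 46] [nat_lit 0, nat_lit 1, nat_lit 2, nat_lit 3, nat_lit 4, nat_lit 5, nat_lit 6, nat_lit 8, nat_lit 9, nat_lit 0, nat_lit 7, nat_lit 9, nat_lit 2, nat_lit 8, nat_lit 10, nat_lit 9, nat_lit 0, nat_lit 1, nat_lit 2, nat_lit 1] (nat_lit 20160) 648 (by decide +kernel)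

theorem ycu35 (b : Base D τ s d0 4089470473293004800) : CU ⊤ s [[nat_lit 12, nat_lit 58, nat_lit 32, nat_lit 4, nat_lit 33, nat_lit 59, nat_lit 13], [nat_lit 47, nat_lit 32, nat_lit 64, nat_lit 4, nat_lit 65, nat_lit 33, nat_lit 46], [nat_lit 2], [nat_lit 0], [nat_lit 20]] 1 :=
  CU.down b.x le_rfl (ycu34 b) (nat_lit 15) [[nat_lit 10, nat_lit 50, nat_lit 6, nat_lit 8, nat_lit 10, nat_lit 8, nat_lit 54, nat_lit 20, nat_lit 18], [nat_lit 55, nat_lit 55, nat_lit 52, nat_lit 49, nat_lit 11, nat_lit 55, nat_lit 7, nat_lit 52, nat_lit 49]] [nat_lit 12, nat_lit 58, nat_lit 32, nat_lit 4, nat_lit 33, nat_lit 59, nat_lit 13] [nat_lit 0, nat_lit 1, nat_lit 0, nat_lit 1, nat_lit 0, nat_lit 1, nat_lit 1, nat_lit 0, nat_lit 1, nat_lit 0, nat_lit 1, nat_lit 1, nat_lit 0, nat_lit 1, nat_lit 1, nat_lit 0, nat_lit 1, nat_lit 1, nat_lit 0, nat_lit 1, nat_lit 1, nat_lit 1, nat_lit 0, nat_lit 1] (nat_lit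 648) 1 (by decide +kernel)

theorem ycu36 (b : Base D τ s d0 4089470473293004800) : CU ⊤ s [[nat_lit 45, nat_lit 10, nat_lit 44], [nat_lit 59, nat_lit 14, nat_lit 58], [nat_lit 58, nat_lit 47, nat_lit 56, nat_lit 46, nat_lit 59], [nat_lit 16], [nat_lit 18]] 1 :=
  CU.mono b.x le_rfl (ycu35 b) [[nat_lit 45, nat_lit 10, nat_lit 44], [nat_lit 59, nat_lit 14, nat_lit 58], [nat_lit 58, nat_lit 47, nat_lit 56, nat_lit 46, nat_lit 59], [nat_lit 16], [nat_lit 18]] [nat_lit 68, nat_lit 48, nat_lit 69, nat_lit 36, nat_lit 32, nat_lit 2, nat_lit 52, nat_lit 34, nat_lit 12, nat_lit 43, nat_lit 55, nat_lit 16, nat_lit 47, nat_lit 0, nat_lit 18, nat_lit 52, nat_lit 20] [[nat_lit 4], [nat_lit 8], [nat_lit 2], [nat_lit 0], [nat_lit 6]] (by decide +kernel)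

theorem ycu37 (b : Base D τ s d0 4089470473293004800) : CU ⊤ s [[nat_lit 45, nat_lit 10, nat_lit 44], [nat_lit 59, nat_lit 14, nat_lit 58], [nat_lit 58, nat_lit 47, nat_lit 56, nat_lit 46, nat_lit 59], [nat_lit 16], [nat_lit 18], [nat_lit 4, nat_lit 0, nat_lit 20]] 1 :=
  CU.clo b.x [[nat_lit 45, nat_lit 10, nat_lit 44], [nat_lit 59, nat_lit 14, nat_lit 58], [nat_lit 58, nat_lit 47, nat_lit 56, nat_lit 46, nat_lit 59], [nat_lit 16], [nat_lit 18], [nat_lit 4, nat_lit 0, nat_lit 20]] [] (CU.sub (ycu36 b) _ (by decide +kernel)) [nat_lit 0, nat_lit 1, nat_lit 2, nat_lit 3, nat_lit 4] [[nat_lit 0], [nat_lit 2], [nat_lit 4], [nat_lit 6], [nat_lit 8], [nat_lit 10]] [] (by decide +kernel)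

theorem ycu38 (b : Base D τ s d0 4089470473293004800) : CU ⊤ s [[nat_lit 59, nat_lit 14, nat_lit 58], [nat_lit 58, nat_lit 47, nat_lit 56, nat_lit 46, nat_lit 59], [nat_lit 16], [nat_lit 18], [nat_lit 4, nat_lit 0, nat_lit 20]] 4 :=
  CU.up b.x le_rfl b.ns (ycu37 b) (nat_lit 15) [] (SE.diff (SE.diff (SE.and (SE.diff (SE.and (SE.fx [nat_lit 8]) (SE.fx [nat_lit 4])) (SE.fx [nat_lit 0])) (SE.fx [nat_lit 0, nat_lit 2, nat_lit 0])) (SE.fx [nat_lit 6])) (SE.fx [nat_lit 0, nat_lit 6, nat_lit 0])) [] (nat_lit 4) 4 NCs.nil (by decide +kernel)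

theorem ycu39 (b : Base D τ s d0 4089470473293004800) : CU ⊤ s [[nat_lit 58, nat_lit 47, nat_lit 56, nat_lit 46, nat_lit 59], [nat_lit 16], [nat_lit 18], [nat_lit 4, nat_lit 0, nat_lit 20]] 108 :=
  CU.up b.x le_rfl b.ns (ycu38 b) (nat_lit 7) [] (SE.diff (SE.diff (SE.diff (SE.and (SE.fx [nat_lit 6]) (SE.fx [nat_lit 2])) (SE.fx [nat_lit 4])) (SE.fx [nat_lit 0])) (SE.tp (nat_lit 1))) [] (nat_lit 27) 108 NCs.nil (by decide +kernel)

theorem ycu40 (b : Base D τ s d0 4089470473293004800) : CU ⊤ s [[nat_lit 16], [nat_lit 18], [nat_lit 4, nat_lit 0, nat_lit 20]] 13824 :=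
  CU.up b.x le_rfl b.ns (ycu39 b) (nat_lit 3) [] (SE.diff (SE.fx [nat_lit 4, nat_lit 0]) (SE.fx [nat_lit 0])) [] (nat_lit 128) 13824 NCs.nil (by decide +kernel)

theorem ycu41 (b : Base D τ s d0 4089470473293004800) : CU ⊤ s [[nat_lit 18], [nat_lit 4, nat_lit 0, nat_lit 20]] 1769472 :=
  CU.up b.x le_rfl b.ns (ycu40 b) (nat_lit 1) [] (SE.diff (SE.fx [nat_lit 2]) (SE.fx [nat_lit 0])) [] (nat_lit 128) 1769472 NCs.nil (by decide +kernel)

theorem ync42 (b : Base D τ s d0 4089470473293004800) : NC ⊤ s [[nat_lit 18], [nat_lit 4, nat_lit 0, nat_lit 20]] [[nat_lit 20], [nat_lit 4, nat_lit 0, nat_lit 20]] :=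
  NC.pc b.x b.ns _ _ (SE.and (SE.fx [nat_lit 0]) (SE.fx [nat_lit 2])) (by decide +kernel)

theorem ycu43 (b : Base D τ s d0 4089470473293004800) : CU ⊤ s [[nat_lit 4, nat_lit 0, nat_lit 20]] 318504960 :=
  CU.up b.x le_rfl b.ns (ycu41 b) (nat_lit 0) [[nat_lit 3, nat_lit 4, nat_lit 0, nat_lit 2, nat_lit 42, nat_lit 10, nat_lit 18, nat_lit 52, nat_lit 46, nat_lit 18, nat_lit 50, nat_lit 55, nat_lit 55, nat_lit 18], [nat_lit 66, nat_lit 42, nat_lit 64, nat_lit 34, nat_lit 40, nat_lit 6, nat_lit 46, nat_lit 40, nat_lit 12, nat_lit 45, nat_lit 4, nat_lit 52, nat_lit 18, nat_lit 12]] (SE.fx [nat_lit 0]) [([nat_lit 20], [nat_lit 1, nat_lit 0])] (nat_lit 180) 318504960 (NCs.cons (ync42 b) NCs.nil) (by decide +kernel)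

theorem yge44 (b : Base D τ s d0 4089470473293004800) : GE s [[nat_lit 42, nat_lit 54, nat_lit 10, nat_lit 54, nat_lit 46, nat_lit 45, nat_lit 0, nat_lit 55, nat_lit 52, nat_lit 54, nat_lit 18]] 3 :=
  GE.step b.x (GE.base []) _ [] (nat_lit 1) [nat_lit 0, nat_lit 0] (nat_lit 3) 3 (by decide +kernel)

theorem yge45 (b : Base D τ s d0 4089470473293004800) : GE s [[nat_lit 8], [nat_lit 12], [nat_lit 16], [nat_lit 18], [nat_lit 48, nat_lit 45, nat_lit 16, nat_lit 44, nat_lit 48], [nat_lit 47, nat_lit 55, nat_lit 46, nat_lit 0, nat_lit 18, nat_lit 50], [nat_lit 47, nat_lit 24, nat_lit 32, nat_lit 42, nat_lit 23, nat_lit 32, nat_lit 47, nat_lit 28, nat_lit 42, nat_lit 16, nat_lit 35, nat_lit 18, nat_lit 47, nat_lit 18, nat_lit 16, nat_lit 55, nat_lit 20, nat_lit 18], [nat_lit 2, nat_lit 25, nat_lit 55, nat_lit 34, nat_lit 28, nat_lit 2, nat_lit 46, nat_lit 36, nat_lit 39, nat_lit 53, nat_lit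 40, nat_lit 53, nat_lit 55, nat_lit 45, nat_lit 50, nat_lit 20, nat_lit 18], [nat_lit 19, nat_lit 9, nat_lit 53, nat_lit 45, nat_lit 17, nat_lit 53, nat_lit 46, nat_lit 43, nat_lit 54, nat_lit 7, nat_lit 44, nat_lit 52, nat_lit 30, nat_lit 5, nat_lit 37]] 13824 :=
  GE.step b.x (yge44 b) _ [([nat_lit 42, nat_lit 54, nat_lit 10, nat_lit 54, nat_lit 46, nat_lit 45, nat_lit 0, nat_lit 55, nat_lit 52, nat_lit 54, nat_lit 18], [nat_lit 7, nat_lit 13, nat_lit 6, nat_lit 4, nat_lit 15])] (nat_lit 4939) [nat_lit 0, nat_lit 1, nat_lit 2, nat_lit 3, nat_lit 2, nat_lit 4, nat_lit 2, nat_lit 3, nat_lit 5, nat_lit 2, nat_lit 3, nat_lit 4, nat_lit 2, nat_lit 8, nat_lit 0, nat_lit 7, nat_lit 8, nat_lit 3] (nat_lit 4608) 13824 (by decide +kernel)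

theorem yge46 (b : Base D τ s d0 4089470473293004800) : GE s [[nat_lit 0], [nat_lit 4], [nat_lit 8], [nat_lit 10], [nat_lit 12], [nat_lit 16], [nat_lit 18], [nat_lit 20], [nat_lit 40], [nat_lit 36, nat_lit 4, nat_lit 31, nat_lit 53, nat_lit 45, nat_lit 6, nat_lit 41, nat_lit 47, nat_lit 40, nat_lit 46, nat_lit 12, nat_lit 44, nat_lit 18, nat_lit 52, nat_lit 8], [nat_lit 26, nat_lit 58, nat_lit 45, nat_lit 24, nat_lit 42, nat_lit 33, nat_lit 18, nat_lit 52, nat_lit 6, nat_lit 18, nat_lit 43, nat_lit 12, nat_lit 47, nat_lit 18, nat_lit 50, nat_lit 12]] 318504960 :=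
  GE.step b.x (yge45 b) _ [([nat_lit 48, nat_lit 45, nat_lit 16, nat_lit 44, nat_lit 48], [nat_lit 16, nat_lit 12, nat_lit 17]), ([nat_lit 47, nat_lit 55, nat_lit 46, nat_lit 0, nat_lit 18, nat_lit 50], [nat_lit 19, nat_lit 19, nat_lit 9, nat_lit 18, nat_lit 18]), ([nat_lit 47, nat_lit 24, nat_lit 32, nat_lit 42, nat_lit 23, nat_lit 32, nat_lit 47, nat_lit 28, nat_lit 42, nat_lit 16, nat_lit 35, nat_lit 18, nat_lit 47, nat_lit 18, nat_lit 16, nat_lit 55, nat_lit 20, nat_lit 18], [nat_lit 20, nat_lit 13, nat_lit 7, nat_lit 21, nat_lit 24]), ([nat_lit 2, nat_lit 25, nat_lit 55, nat_lit 34, nat_lit 28, nat_lit 2, nat_lit 46, nat_lit 36, nat_lit 39, nat_lit 53, nat_lit 40, nat_lit 53, nat_lit 55, nat_lit 45, nat_lit 50, nat_lit 20, nat_lit 18], [nat_lit 13, nat_lit 27, nat_lit 23, nat_lit 6, nat_lit 14, nat_lit 10, nat_lit 12]), ([nat_lit 19, nat_lit 9, nat_lit 53, nat_lit 45, nat_lit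 17, nat_lit 53, nat_lit 46, nat_lit 43, nat_lit 54, nat_lit 7, nat_lit 44, nat_lit 52, nat_lit 30, nat_lit 5, nat_lit 37], [nat_lit 26, nat_lit 15, nat_lit 21, nat_lit 17, nat_lit 18, nat_lit 25, nat_lit 14])] (nat_lit 3931) [nat_lit 0, nat_lit 1, nat_lit 3, nat_lit 7, nat_lit 8, nat_lit 2, nat_lit 4, nat_lit 8, nat_lit 3, nat_lit 5, nat_lit 6, nat_lit 8, nat_lit 2, nat_lit 4, nat_lit 8, nat_lit 3, nat_lit 8, nat_lit 6, nat_lit 5, nat_lit 8] (nat_lit 23040) 318504960 (by decide +kernel)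

noncomputable def c2cW : List (List Nat) := [[nat_lit 0], [nat_lit 4], [nat_lit 8], [nat_lit 10], [nat_lit 12], [nat_lit 16], [nat_lit 18], [nat_lit 20], [nat_lit 40], [nat_lit 36, nat_lit 4, nat_lit 31, nat_lit 53, nat_lit 45, nat_lit 6, nat_lit 41, nat_lit 47, nat_lit 40, nat_lit 46, nat_lit 12, nat_lit 44, nat_lit 18, nat_lit 52, nat_lit 8], [nat_lit 26, nat_lit 58, nat_lit 45, nat_lit 24, nat_lit 42, nat_lit 33, nat_lit 18, nat_lit 52, nat_lit 6, nat_lit 18, nat_lit 43, nat_lit 12, nat_lit 47, nat_lit 18, nat_lit 50, nat_lit 12]]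

theorem c2c (b : Base D τ s d0 4089470473293004800) : Cen ⊤ s [[nat_lit 4, nat_lit 0, nat_lit 20]] = genW (sv s) c2cW ∧ Nat.card (genW (sv s) c2cW) = 318504960 :=
  CU.eq b.x le_rfl (ycu43 b) (yge46 b) (nat_lit 0) (by decide +kernel)

theorem pt1 (b : Base D τ s d0 4089470473293004800) : orderOf (E s [nat_lit 20]) = 2 ∧ ∀ x, PT D 1 x ↔ IsConj (E s [nat_lit 20]) x :=
  b.pt_iff (tr1 b) _ _ (nat_lit 3511) (by decide +kernel)

theorem pt2 (b : Base D τ s d0 4089470473293004800) : orderOf (E s [nat_lit 0, nat_lit 20]) = 2 ∧ ∀ x, PT D 2 x ↔ IsConj (E s [nat_lit 0, nat_lit 20]) x :=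
  b.pt_iff (tr2 b) _ _ (nat_lit 2) (by decide +kernel)

theorem pt3 (b : Base D τ s d0 4089470473293004800) : orderOf (E s [nat_lit 4, nat_lit 0, nat_lit 20]) = 2 ∧ ∀ x, PT D 3 x ↔ IsConj (E s [nat_lit 4, nat_lit 0, nat_lit 20]) x :=
  b.pt_iff (tr3 b) _ _ (nat_lit 2) (by decide +kernel)

theorem ync47 (b : Base D τ s d0 4089470473293004800) : NC ⊤ s [[nat_lit 20]] [[nat_lit 0, nat_lit 20]] :=
  NC.pc b.x b.ns _ _ (SE.fx [nat_lit 0]) (by decide +kernel)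

theorem nc12 (b : Base D τ s d0 4089470473293004800) : NC ⊤ s [[nat_lit 20]] [[nat_lit 0, nat_lit 20]] :=
  (ync47 b)

theorem ync48 (b : Base D τ s d0 4089470473293004800) : NC ⊤ s [[nat_lit 20]] [[nat_lit 4, nat_lit 0, nat_lit 20]] :=
  NC.pc b.x b.ns _ _ (SE.fx [nat_lit 0]) (by decide +kernel)

theorem nc13 (b : Base D τ s d0 4089470473293004800) : NC ⊤ s [[nat_lit 20]] [[nat_lit 4, nat_lit 0, nat_lit 20]] :=
  (ync48 b)

theorem ync49 (b : Base D τ s d0 4089470473293004800) : NC ⊤ s [[nat_lit 0, nat_lit 20]] [[nat_lit 4, nat_lit 0, nat_lit 20]] :=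
  NC.pc b.x b.ns _ _ (SE.fx [nat_lit 0]) (by decide +kernel)

theorem nc23 (b : Base D τ s d0 4089470473293004800) : NC ⊤ s [[nat_lit 0, nat_lit 20]] [[nat_lit 4, nat_lit 0, nat_lit 20]] :=
  (ync49 b)

theorem ta1 (b : Base D τ s d0 4089470473293004800) : TrU D s [[nat_lit 0]] :=
  b.trU (TrU.nil _ _) _ (nat_lit 0) [[nat_lit 0], [nat_lit 2], [nat_lit 22], [nat_lit 24], [nat_lit 26], [nat_lit 28], [nat_lit 30], [nat_lit 32], [nat_lit 38], [nat_lit 44], [nat_lit 50], [nat_lit 52], [nat_lit 58], [nat_lit 60], [nat_lit 66]] [nat_lit 1, nat_lit 3, nat_lit 4, nat_lit 5, nat_lit 6, nat_lit 7, nat_lit 8, nat_lit 9, nat_lit 12, nat_lit 10, nat_lit 13, nat_lit 14, nat_lit 4, nat_lit 6, nat_lit 8, nat_lit 11, nat_lit 12, nat_lit 2, nat_lit 0] (by decide +kernel)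

theorem wn (b : Base D τ s d0 4089470473293004800) {x y : G} (hx : x ∈ D) (hy : y ∈ D) (h : ¬ Commute x y) :
    ∃ τ' s', Base D τ' s' d0 4089470473293004800 ∧ x = E s' [nat_lit 0] ∧ y = E s' [nat_lit 2] :=
  b.wlog2n (fun _ _ => ta1) [[nat_lit 0], [nat_lit 4], [nat_lit 34], [nat_lit 38], [nat_lit 40], [nat_lit 42], [nat_lit 44], [nat_lit 46], [nat_lit 54], [nat_lit 58], [nat_lit 60], [nat_lit 62], [nat_lit 64], [nat_lit 66]] [nat_lit 0, nat_lit 1, nat_lit 2, nat_lit 3, nat_lit 4, nat_lit 5, nat_lit 6, nat_lit 9, nat_lit 12, nat_lit 10, nat_lit 3, nat_lit 13, nat_lit 2, nat_lit 11, nat_lit 7, nat_lit 8, nat_lit 4, nat_lit 2] (by decide +kernel) hx hy h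

end Cfsg.Agent.FiC.F23
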